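import Cfsg.Agent.SelfCentralSix57.Cubic

/-!
# The cubic argument for conjugation on an elementary abelian subgroup
-/

set_option autoImplicit false
set_option linter.style.haveILetI false
set_option linter.unusedSectionVars false

namespace CfsgLib.SelfCentralSix57

open scoped IsMulCommutative

universe u

variable {G : Type u} [Group G] [Finite G]

/-- Three elements normalising an elementary abelian `V`, commuting in their action, with product
centralising `V`. -/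
structure Conj3 (V : Subgroup G) (c₁ c₂ c₃ : G) : Prop where
  comm : ∀ v ∈ V, ∀ w ∈ V, v * w = w * v
  exp : ∀ v ∈ V, v * v = 1
  act : ∀ c : G, c = c₁ ∨ c = c₂ ∨ c = c₃ → ∀ v ∈ V, c * v * c⁻¹ ∈ V
  swap : ∀ c d : G, (c = c₁ ∨ c = c₂ ∨ c = c₃) → (d = c₁ ∨ d = c₂ ∨ d = c₃) →
    ∀ v ∈ V, c * d * v * (c * d)⁻¹ = d * c * v * (d * c)⁻¹
  prod : ∀ v ∈ V, c₁ * c₂ * c₃ * v * (c₁ * c₂ * c₃)⁻¹ = v

namespace Conj3

variable {V : Subgroup G} {c₁ c₂ c₃ : G} (h : Conj3 V c₁ c₂ c₃)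

/-- `V` written additively. -/
@[reducible] def addGroup : AddCommGroup (Additive V) :=
  letI : CommGroup V :=
    { (inferInstance : Group V) with mul_comm := fun a b => Subtype.ext (h.comm a a.2 b b.2) }
  inferInstance

theorem conj_pow_mem {c : G} (hc : ∀ v ∈ V, c * v * c⁻¹ ∈ V) (i : ℕ) :
    ∀ v ∈ V, c ^ i * v * (c ^ i)⁻¹ ∈ V := by
  induction i with
  | zero => intro v hv; simpa using hv
  | succ i ih =>
    intro v hv
    have := hc _ (ih v hv)
    rwa [pow_succ', mul_inv_rev, show c * c ^ i * v * ((c ^ i)⁻¹ * c⁻¹) =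
      c * (c ^ i * v * (c ^ i)⁻¹) * c⁻¹ by group]

/-- The value of a power sum. -/
def powNorm (c₁ c₂ c₃ : G) (i : ℕ) (v : G) : G :=
  (c₁ ^ i * v * (c₁ ^ i)⁻¹) * (c₂ ^ i * v * (c₂ ^ i)⁻¹) * (c₃ ^ i * v * (c₃ ^ i)⁻¹)

/-- A power sum at three vectors. -/
def mixNorm (c₁ c₂ c₃ : G) (i : ℕ) (v v' v'' : G) : G :=
  (c₁ ^ i * v * (c₁ ^ i)⁻¹) * (c₂ ^ i * v' * (c₂ ^ i)⁻¹) * (c₃ ^ i * v'' * (c₃ ^ i)⁻¹)

/-- The pair sum. -/
def pairNorm (c₁ c₂ c₃ : G) (v : G) : G :=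
  (c₁ * c₂ * v * (c₁ * c₂)⁻¹) * (c₂ * c₃ * v * (c₂ * c₃)⁻¹) * (c₃ * c₁ * v * (c₃ * c₁)⁻¹)

/-- The cyclic cubic sum. -/
def symNorm (c₁ c₂ c₃ : G) (v : G) : G :=
  (c₁ * c₁ * c₂ * v * (c₁ * c₁ * c₂)⁻¹) * (c₂ * c₂ * c₃ * v * (c₂ * c₂ * c₃)⁻¹) *
    (c₃ * c₃ * c₁ * v * (c₃ * c₃ * c₁)⁻¹)

/-- The reversed cubic sum. -/
def symNorm' (c₁ c₂ c₃ : G) (v : G) : G :=
  (c₁ * c₂ * c₂ * v * (c₁ * c₂ * c₂)⁻¹) * (c₂ * c₃ * c₃ * v * (c₂ * c₃ * c₃)⁻¹) *
    (c₃ * c₁ * c₁ * v * (c₃ * c₁ * c₁)⁻¹)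

include h

/-- The commutative ring of operators and the translation lemmas. -/
theorem exists_ring {z : G} (hz : z ∈ V) :
    ∃ (A E : Type u) (_ : CommRing A) (_ : AddCommGroup E) (_ : Module A E) (a b c : A)
      (ι : V ≃ E), (∀ v w : V, ι (v * w) = ι v + ι w) ∧ ι 1 = 0 ∧ (∀ e : E, e + e = 0) ∧
      (∀ v : V, ((ι.symm (a • ι v) : V) : G) = c₁ * v * c₁⁻¹) ∧
      (∀ v : V, ((ι.symm (b • ι v) : V) : G) = c₂ * v * c₂⁻¹) ∧
      (∀ v : V, ((ι.symm (c • ι v) : V) : G) = c₃ * v * c₃⁻¹) := by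
  classical
  letI := h.addGroup
  let op : (c : G) → (∀ v ∈ V, c * v * c⁻¹ ∈ V) → AddMonoid.End (Additive V) := fun c hc =>
    AddMonoidHom.mk'
      (fun v => Additive.ofMul ⟨c * ((Additive.toMul v : V) : G) * c⁻¹, hc _ (Additive.toMul v).2⟩)
      (fun v w => congrArg Additive.ofMul (Subtype.ext (by
        show c * (((Additive.toMul v : V) : G) * ((Additive.toMul w : V) : G)) * c⁻¹ =
          (c * ((Additive.toMul v : V) : G) * c⁻¹) * (c * ((Additive.toMul w : V) : G) * c⁻¹)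
        group)))
  set o₁ := op c₁ (h.act c₁ (Or.inl rfl))
  set o₂ := op c₂ (h.act c₂ (Or.inr (Or.inl rfl)))
  set o₃ := op c₃ (h.act c₃ (Or.inr (Or.inr rfl)))
  have hop : ∀ x ∈ ({o₁, o₂, o₃} : Set (AddMonoid.End (Additive V))), ∃ c : G,
      (c = c₁ ∨ c = c₂ ∨ c = c₃) ∧
        ∀ v : Additive V, ((Additive.toMul (x v) : V) : G) = c * (Additive.toMul v : V) * c⁻¹ := by
    rintro x (rfl | rfl | rfl)
    · exact ⟨c₁, Or.inl rfl, fun v => rfl⟩
    · exact ⟨c₂, Or.inr (Or.inl rfl), fun v => rfl⟩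
    · exact ⟨c₃, Or.inr (Or.inr rfl), fun v => rfl⟩
  haveI := Subring.isMulCommutative_closure (s := ({o₁, o₂, o₃} : Set (AddMonoid.End (Additive V))))
    fun x hx y hy => by
      obtain ⟨c, hc, hx'⟩ := hop x hx
      obtain ⟨d, hd, hy'⟩ := hop y hy
      refine AddMonoidHom.ext fun v => Additive.toMul.injective (Subtype.ext ?_)
      show ((Additive.toMul (x (y v)) : V) : G) = ((Additive.toMul (y (x v)) : V) : G)
      rw [hx', hy', hy', hx']
      have := h.swap c d hc hd _ (Additive.toMul v : V).2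
      simpa [mul_assoc] using this
  refine ⟨Subring.closure ({o₁, o₂, o₃} : Set (AddMonoid.End (Additive V))), Additive V,
    inferInstance, inferInstance, inferInstance, ⟨o₁, Subring.subset_closure (Or.inl rfl)⟩,
    ⟨o₂, Subring.subset_closure (Or.inr (Or.inl rfl))⟩,
    ⟨o₃, Subring.subset_closure (Or.inr (Or.inr rfl))⟩, Additive.ofMul, fun v w => rfl, rfl,
    fun e => ?_, fun v => rfl, fun v => rfl, fun v => rfl⟩
  exact Additive.toMul.injective (Subtype.ext (h.exp _ (Additive.toMul e : V).2))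

/-- The symmetric case: `c₁` fixes `z`. -/
theorem fix_of_symm {z : G} (hz : z ∈ V) {n : ℕ} (hn : n.Coprime 6)
    (hodd : ∀ v ∈ V, c₁ ^ n * v * (c₁ ^ n)⁻¹ = v)
    (he1 : powNorm c₁ c₂ c₃ 1 z = 1 ∨ powNorm c₁ c₂ c₃ 1 z = z)
    (he2 : pairNorm c₁ c₂ c₃ z = 1 ∨ pairNorm c₁ c₂ c₃ z = z)
    (he : symNorm c₁ c₂ c₃ z = symNorm' c₁ c₂ c₃ z) : c₁ * z * c₁⁻¹ = z := by
  obtain ⟨A, E, _, _, _, a, b, c, ι, hadd, hone, two, ha, hb, hc⟩ := h.exists_ring hz
  have val : ∀ {e : E} (v : V), e = ι v ↔ ((ι.symm e : V) : G) = v := fun {e} v => by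
    rw [← ι.symm_apply_eq, Subtype.ext_iff]
  have hι : ∀ v w : E, ((ι.symm (v + w) : V) : G) = (ι.symm v : V) * (ι.symm w : V) := fun v w => by
    rw [show v + w = ι (ι.symm v * ι.symm w) by rw [hadd, ι.apply_symm_apply, ι.apply_symm_apply],
      ι.symm_apply_apply, Subgroup.coe_mul]
  have ha' : ∀ e : E, ((ι.symm (a • e) : V) : G) = c₁ * (ι.symm e : V) * c₁⁻¹ := fun e => by
    simpa using ha (ι.symm e)
  have hb' : ∀ e : E, ((ι.symm (b • e) : V) : G) = c₂ * (ι.symm e : V) * c₂⁻¹ := fun e => by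
    simpa using hb (ι.symm e)
  have hc' : ∀ e : E, ((ι.symm (c • e) : V) : G) = c₃ * (ι.symm e : V) * c₃⁻¹ := fun e => by
    simpa using hc (ι.symm e)
  have hcase : ∀ e : E, ((ι.symm e : V) : G) = 1 ∨ ((ι.symm e : V) : G) = z →
      e = 0 ∨ e = ι ⟨z, hz⟩ := by
    rintro e (h1 | h1)
    · exact Or.inl (((val 1).2 h1).trans hone)
    · exact Or.inr ((val ⟨z, hz⟩).2 h1)
  have hpow : ∀ (k : ℕ) (e : E),
      ((ι.symm (a ^ k • e) : V) : G) = c₁ ^ k * (ι.symm e : V) * (c₁ ^ k)⁻¹ := fun k => by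
    induction k with
    | zero => intro e; simp
    | succ k ih => intro e; rw [pow_succ', mul_smul, ha', ih, pow_succ' c₁]; group
  have T : Triple A E a b c (ι ⟨z, hz⟩) :=
    { two := two
      prod := fun e => by
        refine ι.symm.injective (Subtype.ext ?_)
        rw [mul_smul, mul_smul, ha', hb', hc']
        refine Eq.trans ?_ (h.prod _ (ι.symm e).2)
        group
      e1 := hcase _ (by
        rw [add_smul, add_smul, hι, hι, ha', hb', hc', ι.symm_apply_apply]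
        simpa [powNorm] using he1)
      e2 := hcase _ (by
        rw [add_smul, add_smul, hι, hι, mul_smul, mul_smul, mul_smul, ha', hb', hb', hc', hc', ha',
          ι.symm_apply_apply]
        simpa [pairNorm, mul_assoc] using he2)
      odd := ⟨n, hn, fun e => ι.symm.injective (Subtype.ext (by
        rw [hpow]; exact hodd _ (ι.symm e).2))⟩ }
  have := T.fix_of_symm (ι.symm.injective (Subtype.ext (by
    simp only [add_smul, hι, mul_smul, ha', hb', hc', ι.symm_apply_apply]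
    simpa [symNorm, symNorm', mul_assoc] using he)))
  have h2 := congrArg (fun e => ((ι.symm e : V) : G)) this
  simp only [ha', ι.symm_apply_apply] at h2
  exact h2

/-- Unless `c₁` fixes `z` its seventh power does. -/
theorem fix_pow_seven {z : G} (hz : z ∈ V) {n : ℕ} (hn : n.Coprime 6)
    (hodd : ∀ v ∈ V, c₁ ^ n * v * (c₁ ^ n)⁻¹ = v)
    (he1 : powNorm c₁ c₂ c₃ 1 z = 1 ∨ powNorm c₁ c₂ c₃ 1 z = z)
    (he2 : pairNorm c₁ c₂ c₃ z = 1 ∨ pairNorm c₁ c₂ c₃ z = z) :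
    c₁ * z * c₁⁻¹ = z ∨ c₁ ^ 7 * z * (c₁ ^ 7)⁻¹ = z := by
  obtain ⟨A, E, _, _, _, a, b, c, ι, hadd, hone, two, ha, hb, hc⟩ := h.exists_ring hz
  have val : ∀ {e : E} (v : V), e = ι v ↔ ((ι.symm e : V) : G) = v := fun {e} v => by
    rw [← ι.symm_apply_eq, Subtype.ext_iff]
  have hι : ∀ v w : E, ((ι.symm (v + w) : V) : G) = (ι.symm v : V) * (ι.symm w : V) := fun v w => by
    rw [show v + w = ι (ι.symm v * ι.symm w) by rw [hadd, ι.apply_symm_apply, ι.apply_symm_apply],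
      ι.symm_apply_apply, Subgroup.coe_mul]
  have ha' : ∀ e : E, ((ι.symm (a • e) : V) : G) = c₁ * (ι.symm e : V) * c₁⁻¹ := fun e => by
    simpa using ha (ι.symm e)
  have hb' : ∀ e : E, ((ι.symm (b • e) : V) : G) = c₂ * (ι.symm e : V) * c₂⁻¹ := fun e => by
    simpa using hb (ι.symm e)
  have hc' : ∀ e : E, ((ι.symm (c • e) : V) : G) = c₃ * (ι.symm e : V) * c₃⁻¹ := fun e => by
    simpa using hc (ι.symm e)
  have hcase : ∀ e : E, ((ι.symm e : V) : G) = 1 ∨ ((ι.symm e : V) : G) = z →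
      e = 0 ∨ e = ι ⟨z, hz⟩ := by
    rintro e (h1 | h1)
    · exact Or.inl (((val 1).2 h1).trans hone)
    · exact Or.inr ((val ⟨z, hz⟩).2 h1)
  have hpow : ∀ (k : ℕ) (e : E),
      ((ι.symm (a ^ k • e) : V) : G) = c₁ ^ k * (ι.symm e : V) * (c₁ ^ k)⁻¹ := fun k => by
    induction k with
    | zero => intro e; simp
    | succ k ih => intro e; rw [pow_succ', mul_smul, ha', ih, pow_succ' c₁]; group
  have T : Triple A E a b c (ι ⟨z, hz⟩) :=
    { two := two
      prod := fun e => by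
        refine ι.symm.injective (Subtype.ext ?_)
        rw [mul_smul, mul_smul, ha', hb', hc']
        refine Eq.trans ?_ (h.prod _ (ι.symm e).2)
        group
      e1 := hcase _ (by
        rw [add_smul, add_smul, hι, hι, ha', hb', hc', ι.symm_apply_apply]
        simpa [powNorm] using he1)
      e2 := hcase _ (by
        rw [add_smul, add_smul, hι, hι, mul_smul, mul_smul, mul_smul, ha', hb', hb', hc', hc', ha',
          ι.symm_apply_apply]
        simpa [pairNorm, mul_assoc] using he2)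
      odd := ⟨n, hn, fun e => ι.symm.injective (Subtype.ext (by
        rw [hpow]; exact hodd _ (ι.symm e).2))⟩ }
  rcases T.pow_seven with e | e
  · left
    have h2 := congrArg (fun e => ((ι.symm e : V) : G)) e
    simp only [ha', ι.symm_apply_apply] at h2
    exact h2
  · right
    have h2 := congrArg (fun e => ((ι.symm e : V) : G)) e
    simp only [hpow, ι.symm_apply_apply] at h2
    exact h2

/-- Unless `c₁` fixes `z` it satisfies one of the two cubics there. -/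
theorem fix_or_cubic {z : G} (hz : z ∈ V) {n : ℕ} (hn : n.Coprime 6)
    (hodd : ∀ v ∈ V, c₁ ^ n * v * (c₁ ^ n)⁻¹ = v)
    (he1 : powNorm c₁ c₂ c₃ 1 z = 1 ∨ powNorm c₁ c₂ c₃ 1 z = z)
    (he2 : pairNorm c₁ c₂ c₃ z = 1 ∨ pairNorm c₁ c₂ c₃ z = z) :
    c₁ * z * c₁⁻¹ = z ∨ c₁ ^ 3 * z * (c₁ ^ 3)⁻¹ = c₁ * z * c₁⁻¹ * z ∨
      c₁ ^ 3 * z * (c₁ ^ 3)⁻¹ = c₁ ^ 2 * z * (c₁ ^ 2)⁻¹ * z := by
  obtain ⟨A, E, _, _, _, a, b, c, ι, hadd, hone, two, ha, hb, hc⟩ := h.exists_ring hz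
  have val : ∀ {e : E} (v : V), e = ι v ↔ ((ι.symm e : V) : G) = v := fun {e} v => by
    rw [← ι.symm_apply_eq, Subtype.ext_iff]
  have hι : ∀ v w : E, ((ι.symm (v + w) : V) : G) = (ι.symm v : V) * (ι.symm w : V) := fun v w => by
    rw [show v + w = ι (ι.symm v * ι.symm w) by rw [hadd, ι.apply_symm_apply, ι.apply_symm_apply],
      ι.symm_apply_apply, Subgroup.coe_mul]
  have ha' : ∀ e : E, ((ι.symm (a • e) : V) : G) = c₁ * (ι.symm e : V) * c₁⁻¹ := fun e => by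
    simpa using ha (ι.symm e)
  have hb' : ∀ e : E, ((ι.symm (b • e) : V) : G) = c₂ * (ι.symm e : V) * c₂⁻¹ := fun e => by
    simpa using hb (ι.symm e)
  have hc' : ∀ e : E, ((ι.symm (c • e) : V) : G) = c₃ * (ι.symm e : V) * c₃⁻¹ := fun e => by
    simpa using hc (ι.symm e)
  have hcase : ∀ e : E, ((ι.symm e : V) : G) = 1 ∨ ((ι.symm e : V) : G) = z →
      e = 0 ∨ e = ι ⟨z, hz⟩ := by
    rintro e (h1 | h1)
    · exact Or.inl (((val 1).2 h1).trans hone)
    · exact Or.inr ((val ⟨z, hz⟩).2 h1)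
  have hpow : ∀ (k : ℕ) (e : E),
      ((ι.symm (a ^ k • e) : V) : G) = c₁ ^ k * (ι.symm e : V) * (c₁ ^ k)⁻¹ := fun k => by
    induction k with
    | zero => intro e; simp
    | succ k ih => intro e; rw [pow_succ', mul_smul, ha', ih, pow_succ' c₁]; group
  have T : Triple A E a b c (ι ⟨z, hz⟩) :=
    { two := two
      prod := fun e => by
        refine ι.symm.injective (Subtype.ext ?_)
        rw [mul_smul, mul_smul, ha', hb', hc']
        refine Eq.trans ?_ (h.prod _ (ι.symm e).2)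
        group
      e1 := hcase _ (by
        rw [add_smul, add_smul, hι, hι, ha', hb', hc', ι.symm_apply_apply]
        simpa [powNorm] using he1)
      e2 := hcase _ (by
        rw [add_smul, add_smul, hι, hι, mul_smul, mul_smul, mul_smul, ha', hb', hb', hc', hc', ha',
          ι.symm_apply_apply]
        simpa [pairNorm, mul_assoc] using he2)
      odd := ⟨n, hn, fun e => ι.symm.injective (Subtype.ext (by
        rw [hpow]; exact hodd _ (ι.symm e).2))⟩ }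
  rcases T.cases with e | e | e
  · left
    have h2 := congrArg (fun e => ((ι.symm e : V) : G)) e
    simp only [ha', ι.symm_apply_apply] at h2
    exact h2
  · refine Or.inr (Or.inl ?_)
    have h2 := congrArg (fun e => ((ι.symm e : V) : G)) e
    simp only [hι, ha', hpow, ι.symm_apply_apply] at h2
    exact h2
  · refine Or.inr (Or.inr ?_)
    have h2 := congrArg (fun e => ((ι.symm e : V) : G)) e
    simp only [hι, hpow, ι.symm_apply_apply] at h2
    exact h2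

/-- The transitive case: `V` has order at most eight. -/
theorem card_le_eight {z : G} (hz : z ∈ V) (h7 : ∀ c : G, c = c₁ ∨ c = c₂ ∨ c = c₃ →
      ∀ v ∈ V, c ^ 7 * v * (c ^ 7)⁻¹ = v)
    (hmove : c₁ * z * c₁⁻¹ ≠ z)
    (hfb : ∀ v ∈ V, (c₁ ^ 6 * c₂) * v * (c₁ ^ 6 * c₂)⁻¹ = v → v = 1)
    (hfc : ∀ v ∈ V, (c₁ ^ 6 * c₃) * v * (c₁ ^ 6 * c₃)⁻¹ = v → v = 1)
    (σ : G → G) (hσ : ∀ v ∈ V, σ v ∈ V)
    (hT : ∀ (i : ℕ), ∀ v ∈ V,
      mixNorm c₁ c₂ c₃ i v (σ v) (σ (σ v)) = 1 ∨ mixNorm c₁ c₂ c₃ i v (σ v) (σ (σ v)) = z)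
    (he1 : powNorm c₁ c₂ c₃ 1 z = 1 ∨ powNorm c₁ c₂ c₃ 1 z = z)
    (he2 : pairNorm c₁ c₂ c₃ z = 1 ∨ pairNorm c₁ c₂ c₃ z = z) :
    Nat.card V ≤ 8 := by
  classical
  obtain ⟨A, E, _, _, _, a, b, c, ι, hadd, hone, two, ha, hb, hc⟩ := h.exists_ring hz
  have val : ∀ {e : E} (v : V), e = ι v ↔ ((ι.symm e : V) : G) = v := fun {e} v => by
    rw [← ι.symm_apply_eq, Subtype.ext_iff]
  have hι : ∀ v w : E, ((ι.symm (v + w) : V) : G) = (ι.symm v : V) * (ι.symm w : V) := fun v w => by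
    rw [show v + w = ι (ι.symm v * ι.symm w) by rw [hadd, ι.apply_symm_apply, ι.apply_symm_apply],
      ι.symm_apply_apply, Subgroup.coe_mul]
  have hcase : ∀ e : E, ((ι.symm e : V) : G) = 1 ∨ ((ι.symm e : V) : G) = z →
      e = 0 ∨ e = ι ⟨z, hz⟩ := by
    rintro e (h1 | h1)
    · exact Or.inl (((val 1).2 h1).trans hone)
    · exact Or.inr ((val ⟨z, hz⟩).2 h1)
  have hsm : ∀ (x : A) (g : G), (∀ v : V, ((ι.symm (x • ι v) : V) : G) = g * v * g⁻¹) →
      ∀ e : E, ((ι.symm (x • e) : V) : G) = g * (ι.symm e : V) * g⁻¹ := fun x g hx e => by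
    simpa using hx (ι.symm e)
  have hpow : ∀ (x : A) (g : G), (∀ v : V, ((ι.symm (x • ι v) : V) : G) = g * v * g⁻¹) →
      ∀ (k : ℕ) (e : E), ((ι.symm (x ^ k • e) : V) : G) = g ^ k * (ι.symm e : V) * (g ^ k)⁻¹ :=
    fun x g hx k => by
      induction k with
      | zero => intro e; simp
      | succ k ih => intro e; rw [pow_succ', mul_smul, hsm x g hx, ih, pow_succ' g]; group
  have h7' : ∀ (x : A) (g : G), (g = c₁ ∨ g = c₂ ∨ g = c₃) →
      (∀ v : V, ((ι.symm (x • ι v) : V) : G) = g * v * g⁻¹) → ∀ e : E, x ^ 7 • e = e :=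
    fun x g hg hx e => ι.symm.injective (Subtype.ext (by
      rw [hpow x g hx]; exact h7 g hg _ (ι.symm e).2))
  set Z := ι ⟨z, hz⟩ with hZ
  have hTi : ∀ (i : ℕ) (e : E),
      a ^ i • e + b ^ i • ι ⟨σ (ι.symm e : V), hσ _ (ι.symm e).2⟩ +
          c ^ i • ι ⟨σ (σ (ι.symm e : V)), hσ _ (hσ _ (ι.symm e).2)⟩ = 0 ∨
      a ^ i • e + b ^ i • ι ⟨σ (ι.symm e : V), hσ _ (ι.symm e).2⟩ +
          c ^ i • ι ⟨σ (σ (ι.symm e : V)), hσ _ (hσ _ (ι.symm e).2)⟩ = Z := fun i e => hcase _ (by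
    rw [hι, hι, hpow a c₁ ha, hpow b c₂ hb, hpow c c₃ hc, ι.symm_apply_apply, ι.symm_apply_apply]
    exact hT i _ (ι.symm e).2)
  have T : Triple A E a b c Z :=
    { two := two
      prod := fun e => by
        refine ι.symm.injective (Subtype.ext ?_)
        rw [mul_smul, mul_smul, hsm a c₁ ha, hsm b c₂ hb, hsm c c₃ hc]
        refine Eq.trans ?_ (h.prod _ (ι.symm e).2)
        group
      e1 := hcase _ (by
        rw [add_smul, add_smul, hι, hι, hsm a c₁ ha, hsm b c₂ hb, hsm c c₃ hc, ι.symm_apply_apply]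
        simpa [powNorm] using he1)
      e2 := hcase _ (by
        rw [add_smul, add_smul, hι, hι, mul_smul, mul_smul, mul_smul, hsm a c₁ ha, hsm b c₂ hb,
          hsm b c₂ hb, hsm c c₃ hc, hsm c c₃ hc, hsm a c₁ ha, ι.symm_apply_apply]
        simpa [pairNorm, mul_assoc] using he2)
      odd := ⟨7, by norm_num, h7' a c₁ (Or.inl rfl) ha⟩ }
  have hne : a • Z ≠ Z := fun hz' => hmove (by
    have h2 := congrArg (fun e => ((ι.symm e : V) : G)) hz'
    simpa [hsm a c₁ ha, hZ] using h2)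
  have hfix : ∀ (x : A) (g : G), (∀ v : V, ((ι.symm (x • ι v) : V) : G) = g * v * g⁻¹) →
      (∀ v ∈ V, (c₁ ^ 6 * g) * v * (c₁ ^ 6 * g)⁻¹ = v → v = 1) →
      ∀ e : E, (a ^ 6 * x) • e = e → e = 0 := fun x g hx hg e he => by
    have h2 := congrArg (fun e => ((ι.symm e : V) : G)) he
    simp only [mul_smul, hpow a c₁ ha, hsm x g hx] at h2
    refine ((val 1).2 ?_).trans hone
    refine hg _ (ι.symm e).2 ?_
    rw [← mul_assoc, ← mul_assoc] at h2
    rw [mul_inv_rev, ← mul_assoc]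
    exact h2
  -- every vector is in the span of three vectors
  set f : Fin 2 × Fin 2 × Fin 2 → E := fun p =>
    (p.1 : ℕ) • Z + (p.2.1 : ℕ) • (a • Z) + (p.2.2 : ℕ) • (a ^ 2 • Z)
  have par : ∀ (m : ℕ) (e : E), m • e = (m % 2) • e := fun m e => by
    conv_lhs => rw [← Nat.div_add_mod m 2, add_nsmul, mul_nsmul, two_nsmul, two, nsmul_zero, zero_add]
  have span : ∀ e : E, ∃ i j l : ℕ, e = i • Z + j • (a • Z) + l • (a ^ 2 • Z) := by
    intro e
    rw [mem_span_seven two (h7' a c₁ (Or.inl rfl) ha) (h7' b c₂ (Or.inr (Or.inl rfl)) hb)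
      (h7' c c₃ (Or.inr (Or.inr rfl)) hc) (hfix b c₂ hb hfb) (hfix c c₃ hc hfc) e
      (ι ⟨σ (ι.symm e : V), hσ _ (ι.symm e).2⟩)
      (ι ⟨σ (σ (ι.symm e : V)), hσ _ (hσ _ (ι.symm e).2)⟩)]
    refine Finset.sum_induction _ (fun x : E => ∃ i j l : ℕ,
      x = i • Z + j • (a • Z) + l • (a ^ 2 • Z)) ?_ ⟨0, 0, 0, by simp⟩ fun i _ => ?_
    · rintro x y ⟨i, j, l, rfl⟩ ⟨i', j', l', rfl⟩
      exact ⟨i + i', j + j', l + l', by simp only [add_nsmul]; abel⟩
    · rcases hTi i e with e' | e' <;> rw [e']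
      · exact ⟨0, 0, 0, by simp⟩
      · rw [← pow_mul]
        exact (T.pow_mem_span (6 * i)).resolve_left hne
  have hsurj : Function.Surjective f := fun e => by
    obtain ⟨i, j, l, rfl⟩ := span e
    exact ⟨(⟨i % 2, Nat.mod_lt _ (by norm_num)⟩, ⟨j % 2, Nat.mod_lt _ (by norm_num)⟩,
      ⟨l % 2, Nat.mod_lt _ (by norm_num)⟩), by
        simp only [f]; rw [par i Z, par j (a • Z), par l (a ^ 2 • Z)]⟩
  haveI : Finite E := Finite.of_equiv V ι
  have := Nat.card_le_card_of_surjective f hsurj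
  rw [← Nat.card_congr ι] at this
  simpa using this

end Conj3

end CfsgLib.SelfCentralSix57
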