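import Cfsg.Agent.SelfCentralThree.Main

/-!
# An element of order seven normalised by a self-centralising element of order three
-/

set_option autoImplicit false
set_option linter.style.haveILetI false
set_option linter.unusedSectionVars false

namespace CfsgLib.SelfCentralSix57

variable {Q : Type*} [Group Q] [Finite Q]

theorem exists_seven [IsSimpleGroup Q] (hQ : Nat.card Q = 168) {x : Q}
    (h : SelfCentralizing.Hyp Q 3 x) :
    ∃ d : Q, orderOf d = 7 ∧ (x * d * x⁻¹ = d ^ 2 ∨ x * d * x⁻¹ = d ^ 4) := by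
  classical
  haveI : Fact (Nat.Prime 7) := ⟨by norm_num⟩
  haveI : Fact (Nat.Prime 3) := ⟨Nat.prime_three⟩
  obtain ⟨P⟩ : Nonempty (Sylow 7 Q) := inferInstance
  have hP : Nat.card P = 7 := by
    rw [P.card_eq_multiplicity, hQ]
    have h1 : (168 : ℕ).factorization 7 = 1 := by
      refine le_antisymm ?_ ?_
      · by_contra hlt
        have := (Nat.Prime.pow_dvd_iff_le_factorization (by norm_num : Nat.Prime 7)
          (by norm_num : (168 : ℕ) ≠ 0)).2 (show 2 ≤ (168 : ℕ).factorization 7 by omega)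
        norm_num at this
      · exact (Nat.Prime.dvd_iff_one_le_factorization (by norm_num : Nat.Prime 7) (by norm_num)).1
          (by norm_num)
    rw [h1, pow_one]
  have hn : Nat.card (Sylow 7 Q) = 8 := by
    have h1 : Nat.card (Sylow 7 Q) % 7 = 1 := card_sylow_modEq_one 7 Q
    have h2 : Nat.card (Sylow 7 Q) ∣ (P : Subgroup Q).index := P.card_dvd_index
    have h3 := (P : Subgroup Q).card_mul_index
    rw [hP, hQ] at h3
    have h4 : (P : Subgroup Q).index = 24 := by omega
    rw [h4] at h2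
    have h5 := Nat.le_of_dvd (by norm_num) h2
    have h6 : Nat.card (Sylow 7 Q) ≠ 1 := by
      intro e
      haveI : Subsingleton (Sylow 7 Q) := (Nat.card_eq_one_iff_unique.1 e).1
      rcases P.normal_of_subsingleton.eq_bot_or_eq_top with e' | e'
      · rw [e', Subgroup.card_bot] at hP; omega
      · rw [e', Subgroup.card_top] at hP; omega
    have : Nat.card (Sylow 7 Q) = 8 ∨ Nat.card (Sylow 7 Q) = 15 ∨ Nat.card (Sylow 7 Q) = 22 := by
      omega
    rcases this with e | e | e
    · exact e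
    · rw [e] at h2; norm_num at h2
    · rw [e] at h2; norm_num at h2
  have hN : 3 ∣ Nat.card (Subgroup.normalizer ((P : Subgroup Q) : Set Q)) := by
    have h1 := P.card_eq_index_normalizer
    have h2 := (Subgroup.normalizer ((P : Subgroup Q) : Set Q)).card_mul_index
    have h3 : (Subgroup.normalizer ((P : Subgroup Q) : Set Q)).index = 8 := h1.symm.trans hn
    rw [h3, hQ] at h2
    exact ⟨7, by omega⟩
  obtain ⟨y, hy⟩ := exists_prime_orderOf_dvd_card' 3 hN
  have hy' : orderOf (y : Q) = 3 := by rw [Subgroup.orderOf_coe]; exact hy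
  obtain ⟨d0, hd0⟩ := exists_prime_orderOf_dvd_card' (G := (P : Subgroup Q)) 7 (by rw [hP])
  -- conjugate the order three element to `x`
  obtain ⟨S, hS⟩ := h.exists_sylow
  obtain ⟨T, hT⟩ := (IsPGroup.of_card (p := 3) (n := 1) (G := Subgroup.zpowers (y : Q))
    (by rw [Nat.card_zpowers, hy', pow_one])).exists_le_sylow
  obtain ⟨g, hg⟩ := MulAction.exists_smul_eq Q T S
  have hgy : g * (y : Q) * g⁻¹ ∈ Subgroup.zpowers x := by
    rw [← hS, ← hg, Sylow.coe_subgroup_smul, Subgroup.mem_pointwise_smul_iff_inv_smul_mem]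
    simpa [mul_assoc] using hT (Subgroup.mem_zpowers _)
  set d := g * (d0 : Q) * g⁻¹ with hd
  have hd7 : orderOf d = 7 := by
    rw [hd, show g * (d0 : Q) * g⁻¹ = MulAut.conj g d0 from rfl, MulEquiv.orderOf_eq,
      Subgroup.orderOf_coe]
    exact hd0
  have hgen : Subgroup.zpowers (d0 : Q) = (P : Subgroup Q) :=
    Subgroup.eq_of_le_of_card_ge (Subgroup.zpowers_le.2 d0.2)
      (by rw [Nat.card_zpowers, Subgroup.orderOf_coe, hd0, hP])
  have hymem : g * (y : Q) * g⁻¹ * d * (g * (y : Q) * g⁻¹)⁻¹ ∈ Subgroup.zpowers d := by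
    have h1 : (y : Q) * d0 * (y : Q)⁻¹ ∈ Subgroup.zpowers (d0 : Q) := by
      rw [hgen]; exact (Subgroup.mem_normalizer_iff.1 y.2 _).1 d0.2
    obtain ⟨k, hk⟩ := Subgroup.mem_zpowers_iff.1 h1
    refine Subgroup.mem_zpowers_iff.2 ⟨k, ?_⟩
    rw [hd, conj_zpow, hk]
    group
  -- `x` is a power of the conjugated element
  have hgord : orderOf (g * (y : Q) * g⁻¹) = 3 := by
    rw [show g * (y : Q) * g⁻¹ = MulAut.conj g y from rfl, MulEquiv.orderOf_eq]
    exact hy'
  have hxgen : x ∈ Subgroup.zpowers (g * (y : Q) * g⁻¹) := by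
    have : Subgroup.zpowers (g * (y : Q) * g⁻¹) = Subgroup.zpowers x :=
      Subgroup.eq_of_le_of_card_ge (Subgroup.zpowers_le.2 hgy)
        (by rw [Nat.card_zpowers, Nat.card_zpowers, h.order, hgord])
    rw [this]; exact Subgroup.mem_zpowers x
  have hxd : x * d * x⁻¹ ∈ Subgroup.zpowers d := by
    set N := Subgroup.normalizer ((Subgroup.zpowers d : Subgroup Q) : Set Q)
    have hmem : g * (y : Q) * g⁻¹ ∈ N := by
      set v := g * (y : Q) * g⁻¹
      have hle : (Subgroup.zpowers d).map (MulAut.conj v).toMonoidHom ≤ Subgroup.zpowers d := by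
        rw [MonoidHom.map_zpowers]
        exact Subgroup.zpowers_le.2 hymem
      have heq := Subgroup.eq_of_le_of_card_ge hle
        (Subgroup.card_map_of_injective (f := (MulAut.conj v).toMonoidHom) (MulAut.conj v).injective).ge
      refine Subgroup.mem_normalizer_iff.2 fun n => ⟨fun hn => hle ⟨n, hn, rfl⟩, fun hn => ?_⟩
      rw [← heq] at hn
      obtain ⟨m, hm, hme⟩ := hn
      rwa [← (MulAut.conj v).injective hme]
    exact (Subgroup.mem_normalizer_iff.1 (Subgroup.zpowers_le.2 hmem hxgen) d).1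
      (Subgroup.mem_zpowers d)
  obtain ⟨k, hk⟩ := (Submonoid.mem_powers_iff _ _).1 ((mem_powers_iff_mem_zpowers (x := d)).2 hxd)
  refine ⟨d, hd7, ?_⟩
  have hx3 : x ^ 3 = 1 := by rw [← h.order, pow_orderOf_eq_one]
  have hk3 : d ^ (k * k * k) = d := by
    have e1 : ∀ m : ℕ, x * d ^ m * x⁻¹ = d ^ (k * m) := fun m => by
      rw [← conj_pow, ← hk, pow_mul]
    calc d ^ (k * k * k) = x * (x * (x * d * x⁻¹) * x⁻¹) * x⁻¹ := by
          rw [← hk, e1, e1, mul_assoc]
      _ = x ^ 3 * d * (x ^ 3)⁻¹ := by simp only [pow_succ, pow_zero, one_mul]; group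
      _ = d := by rw [hx3, one_mul, inv_one, mul_one]
  have hmod : k * k * k % 7 = 1 := by
    have := (pow_eq_pow_iff_modEq (x := d) (n := k * k * k) (m := 1)).1 (by rw [hk3, pow_one])
    rw [hd7] at this
    exact this
  have hcases : k % 7 = 1 ∨ k % 7 = 2 ∨ k % 7 = 4 := by
    have hk' : k % 7 < 7 := Nat.mod_lt _ (by norm_num)
    rw [Nat.mul_mod, Nat.mul_mod k k 7] at hmod
    interval_cases hh : k % 7 <;> simp_all
  have hred : d ^ k = d ^ (k % 7) := by rw [← pow_mod_orderOf, hd7]
  rw [← hk, hred]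
  rcases hcases with e | e | e <;> rw [e]
  · exfalso
    rw [hred, e, pow_one] at hk
    have h1 := h.mem_zpowers_of_commute (g := d) (mul_inv_eq_iff_eq_mul.1 hk.symm).symm
    have h2 := Subgroup.orderOf_dvd_natCard _ h1
    rw [h.card_zpowers, hd7] at h2
    norm_num at h2
  · exact Or.inl rfl
  · exact Or.inr rfl

end CfsgLib.SelfCentralSix57
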