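import Cfsg.Agent.FgsSix.SupCard

/-!
# Joins with a cyclic subgroup normalising the other factor
-/

set_option autoImplicit false
set_option linter.style.haveILetI false
set_option linter.unusedSectionVars false

namespace CfsgLib.SelfCentralSix57

variable {G : Type*} [Group G] [Finite G]

theorem zpowers_le_normalizer {N : Subgroup G} {u : G} (h : ∀ n ∈ N, u * n * u⁻¹ ∈ N) :
    Subgroup.zpowers u ≤ Subgroup.normalizer (N : Set G) := by
  have hpow : ∀ (k : ℕ), ∀ n ∈ N, u ^ k * n * (u ^ k)⁻¹ ∈ N := fun k => by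
    induction k with
    | zero => intro n hn; simpa using hn
    | succ k ih =>
      intro n hn
      have := h _ (ih n hn)
      rwa [pow_succ', mul_inv_rev, show u * u ^ k * n * ((u ^ k)⁻¹ * u⁻¹) =
        u * (u ^ k * n * (u ^ k)⁻¹) * u⁻¹ by group]
  refine Subgroup.zpowers_le.2 (Subgroup.mem_normalizer_iff.2 fun n => ⟨h n, fun hn => ?_⟩)
  have h1 := hpow (orderOf u - 1) _ hn
  have e : u ^ (orderOf u - 1) = u⁻¹ := by
    refine eq_inv_of_mul_eq_one_left ?_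
    rw [← pow_succ, Nat.sub_add_cancel (orderOf_pos u), pow_orderOf_eq_one]
  rw [e] at h1
  simpa [mul_assoc] using h1

theorem mem_sup_zpowers {N : Subgroup G} {u : G} (h : ∀ n ∈ N, u * n * u⁻¹ ∈ N) {x : G} :
    x ∈ N ⊔ Subgroup.zpowers u ↔ ∃ n ∈ N, ∃ k : ℕ, x = n * u ^ k := by
  rw [← SetLike.mem_coe,
    Subgroup.coe_mul_of_right_le_normalizer_left N _ (zpowers_le_normalizer h), Set.mem_mul]
  constructor
  · rintro ⟨n, hn, v, hv, rfl⟩
    obtain ⟨k, rfl⟩ := (Submonoid.mem_powers_iff _ _).1 ((mem_powers_iff_mem_zpowers (x := u)).2 hv)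
    exact ⟨n, hn, k, rfl⟩
  · rintro ⟨n, hn, k, rfl⟩
    exact ⟨n, hn, _, Subgroup.npow_mem_zpowers u k, rfl⟩

/-- Adjoining an element whose square lies in the subgroup. -/
theorem mem_sup_two {N : Subgroup G} {u : G} (h : ∀ n ∈ N, u * n * u⁻¹ ∈ N) (h2 : u * u ∈ N)
    {x : G} : x ∈ N ⊔ Subgroup.zpowers u ↔ x ∈ N ∨ ∃ n ∈ N, x = n * u := by
  rw [mem_sup_zpowers h]
  constructor
  · rintro ⟨n, hn, k, rfl⟩
    rcases Nat.even_or_odd' k with ⟨j, rfl | rfl⟩
    · exact Or.inl (mul_mem hn (by rw [pow_mul, sq]; exact pow_mem h2 j))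
    · exact Or.inr ⟨n * u ^ (2 * j), mul_mem hn (by rw [pow_mul, sq]; exact pow_mem h2 j),
        by rw [pow_succ, mul_assoc]⟩
  · rintro (hx | ⟨n, hn, rfl⟩)
    · exact ⟨x, hx, 0, by simp⟩
    · exact ⟨n, hn, 1, by simp⟩

theorem card_sup_two {N : Subgroup G} {u : G} (h : ∀ n ∈ N, u * n * u⁻¹ ∈ N) (h2 : u * u ∈ N)
    (hu : u ∉ N) : Nat.card ↥(N ⊔ Subgroup.zpowers u) = 2 * Nat.card N := by
  classical
  have e1 : ((N ⊔ Subgroup.zpowers u : Subgroup G) : Set G) =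
      (N : Set G) ∪ (· * u) '' (N : Set G) := by
    ext x
    rw [SetLike.mem_coe, mem_sup_two h h2]
    constructor
    · rintro (hx | ⟨n, hn, rfl⟩)
      · exact Or.inl hx
      · exact Or.inr ⟨n, hn, rfl⟩
    · rintro (hx | ⟨n, hn, rfl⟩)
      · exact Or.inl hx
      · exact Or.inr ⟨n, hn, rfl⟩
  have hd : Disjoint (N : Set G) ((· * u) '' (N : Set G)) := by
    rw [Set.disjoint_left]
    rintro x hx ⟨n, hn, rfl⟩
    exact hu ((Subgroup.mul_mem_cancel_left N hn).1 hx)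
  rw [← SetLike.coe_sort_coe, Nat.card_coe_set_eq, e1, Set.ncard_union_eq hd,
    Set.ncard_image_of_injective _ (mul_left_injective u), ← Nat.card_coe_set_eq, SetLike.coe_sort_coe]
  omega

theorem mem_sup_three {N : Subgroup G} {s : G} (h : ∀ n ∈ N, s * n * s⁻¹ ∈ N) (h3 : s ^ 3 ∈ N)
    {x : G} : x ∈ N ⊔ Subgroup.zpowers s ↔
      x ∈ N ∨ (∃ n ∈ N, x = n * s) ∨ ∃ n ∈ N, x = n * (s * s) := by
  rw [mem_sup_zpowers h]
  constructor
  · rintro ⟨n, hn, k, rfl⟩
    have e : s ^ k = (s ^ 3) ^ (k / 3) * s ^ (k % 3) := by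
      rw [← pow_mul, ← pow_add, Nat.div_add_mod]
    have hm : n * (s ^ 3) ^ (k / 3) ∈ N := mul_mem hn (pow_mem h3 _)
    rw [e, ← mul_assoc]
    have : k % 3 < 3 := Nat.mod_lt _ (by norm_num)
    interval_cases k % 3
    · left; rw [pow_zero, mul_one]; exact hm
    · right; left; exact ⟨_, hm, by rw [pow_one]⟩
    · right; right; exact ⟨_, hm, by rw [pow_two]⟩
  · rintro (hx | ⟨n, hn, rfl⟩ | ⟨n, hn, rfl⟩)
    · exact ⟨x, hx, 0, by simp⟩
    · exact ⟨n, hn, 1, by simp⟩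
    · exact ⟨n, hn, 2, by rw [pow_two]⟩

theorem card_sup_three {N : Subgroup G} {s : G} (h : ∀ n ∈ N, s * n * s⁻¹ ∈ N) (h3 : s ^ 3 ∈ N)
    (hs : s ∉ N) : Nat.card ↥(N ⊔ Subgroup.zpowers s) = 3 * Nat.card N := by
  classical
  have e1 : ((N ⊔ Subgroup.zpowers s : Subgroup G) : Set G) =
      (N : Set G) ∪ (· * s) '' (N : Set G) ∪ (· * (s * s)) '' (N : Set G) := by
    ext x
    rw [SetLike.mem_coe, mem_sup_three h h3]
    constructor
    · rintro (hx | ⟨n, hn, rfl⟩ | ⟨n, hn, rfl⟩)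
      · exact Or.inl (Or.inl hx)
      · exact Or.inl (Or.inr ⟨n, hn, rfl⟩)
      · exact Or.inr ⟨n, hn, rfl⟩
    · rintro ((hx | ⟨n, hn, rfl⟩) | ⟨n, hn, rfl⟩)
      · exact Or.inl hx
      · exact Or.inr (Or.inl ⟨n, hn, rfl⟩)
      · exact Or.inr (Or.inr ⟨n, hn, rfl⟩)
  have hss : s * s ∉ N := fun hm => hs (by
    have : s = s ^ 3 * (s * s)⁻¹ := by rw [pow_succ, pow_two]; group
    rw [this]
    exact mul_mem h3 (inv_mem hm))
  have hd1 : Disjoint (N : Set G) ((· * s) '' (N : Set G)) := by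
    rw [Set.disjoint_left]
    rintro x hx ⟨n, hn, rfl⟩
    exact hs ((Subgroup.mul_mem_cancel_left N hn).1 hx)
  have hd2 : Disjoint ((N : Set G) ∪ (· * s) '' (N : Set G)) ((· * (s * s)) '' (N : Set G)) := by
    rw [Set.disjoint_left]
    rintro x (hx | ⟨n', hn', rfl⟩) ⟨n, hn, e⟩
    · subst e
      exact hss ((Subgroup.mul_mem_cancel_left N hn).1 hx)
    · refine hs ?_
      have e' : n' = n * s := mul_right_cancel (b := s) (by rw [mul_assoc]; exact e.symm)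
      exact (Subgroup.mul_mem_cancel_left N hn).1 (e' ▸ hn')
  rw [← SetLike.coe_sort_coe, Nat.card_coe_set_eq, e1, Set.ncard_union_eq hd2,
    Set.ncard_union_eq hd1, Set.ncard_image_of_injective _ (mul_left_injective s),
    Set.ncard_image_of_injective _ (mul_left_injective (s * s)), ← Nat.card_coe_set_eq,
    SetLike.coe_sort_coe]
  omega

end CfsgLib.SelfCentralSix57
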