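import Cfsg.Agent.SelfCentralSix57.TwoSetting
import Cfsg.Agent.SelfCentralSix57.ConjModule
import Cfsg.Agent.SelfCentralSix57.Seven
import Cfsg.Agent.SelfCentralSix57.SupTools

/-!
# A normal 2-subgroup with quotient simple of order 168 has order at most eight
-/

set_option autoImplicit false
set_option linter.style.haveILetI false
set_option linter.unusedSectionVars false

namespace CfsgLib.SelfCentralSix57

open scoped commutatorElement

universe u

variable {G : Type u} [Group G] [Finite G]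

theorem card_sup_zpowers_le {N : Subgroup G} {p : G} (hc : ∀ n ∈ N, Commute p n)
    (h2 : p * p = 1) : Nat.card ↥(N ⊔ Subgroup.zpowers p) ≤ 2 * Nat.card N := by
  have hn : ∀ n ∈ N, p * n * p⁻¹ ∈ N := fun n hn => by rw [(hc n hn).eq, mul_inv_cancel_right]; exact hn
  by_cases hp : p ∈ N
  · rw [sup_eq_left.2 (Subgroup.zpowers_le.2 hp)]
    omega
  · rw [card_sup_two hn (h2 ▸ one_mem N) hp]

theorem Ctx.card_le_eight_of_168 {z s : G} (c : Ctx z s) {K N : Subgroup G} (hN : TwoR z s N)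
    (hNK : N ≤ K) (hnorm : ∀ k ∈ K, ∀ n ∈ N, k * n * k⁻¹ ∈ N) (hs : s ∈ K)
    (hi : N.relIndex K = 168)
    (hsimp : ∀ L : Subgroup G, N ≤ L → L ≤ K → (∀ k ∈ K, ∀ l ∈ L, k * l * k⁻¹ ∈ L) → L = N ∨ L = K)
    (h8 : 8 ∣ N.relIndex (K ⊓ Subgroup.centralizer {z})) (hmove : ∃ k ∈ K, ¬ Commute k z) :
    Nat.card N ≤ 8 := by
  classical
  haveI : Fact (Nat.Prime 7) := ⟨by norm_num⟩
  haveI hn : (N.subgroupOf K).Normal := ⟨fun n hn k => by
    rw [Subgroup.mem_subgroupOf] at hn ⊢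
    exact hnorm k k.2 n hn⟩
  have hNfix : ∀ n ∈ N, Commute n s → n ∈ Subgroup.zpowers z := fun n hn hc =>
    c.mem_zpowers_of_fixed hN.three hN.central hn hc
  -- the quotient
  set π := QuotientGroup.mk' (N.subgroupOf K) with hπ
  have hQ : Nat.card (K ⧸ N.subgroupOf K) = 168 := hi
  have hmemN : ∀ x : K, π x = 1 ↔ (x : G) ∈ N := fun x => by
    rw [QuotientGroup.mk'_apply, QuotientGroup.eq_one_iff, Subgroup.mem_subgroupOf]
  haveI : Nontrivial (K ⧸ N.subgroupOf K) :=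
    Finite.one_lt_card_iff_nontrivial.1 (by rw [hQ]; norm_num)
  haveI : IsSimpleGroup (K ⧸ N.subgroupOf K) := ⟨fun A hA => by
    have hL : ∀ k ∈ K, ∀ l ∈ (A.comap π).map K.subtype, k * l * k⁻¹ ∈ (A.comap π).map K.subtype := by
      rintro k hk _ ⟨m, hm, rfl⟩
      exact ⟨⟨k, hk⟩ * m * ⟨k, hk⟩⁻¹, (hA.comap π).conj_mem _ hm _, rfl⟩
    have hNL : N ≤ (A.comap π).map K.subtype := fun n hn => ⟨⟨n, hNK hn⟩, by
      show π ⟨n, hNK hn⟩ ∈ A
      rw [(hmemN ⟨n, hNK hn⟩).2 hn]; exact one_mem _, rfl⟩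
    rcases hsimp _ hNL (Subgroup.map_subtype_le _) hL with e | e
    · refine Or.inl ((Subgroup.eq_bot_iff_forall _).2 fun q hq => ?_)
      obtain ⟨x, rfl⟩ := QuotientGroup.mk'_surjective _ q
      exact (hmemN x).2 (e.le ⟨x, hq, rfl⟩)
    · refine Or.inr (Subgroup.eq_top_iff' _ |>.2 fun q => ?_)
      obtain ⟨x, rfl⟩ := QuotientGroup.mk'_surjective _ q
      obtain ⟨y, hy, hxy⟩ := e.ge x.2
      rw [← Subtype.ext hxy]
      exact hy⟩
  obtain ⟨q, hq7, hqs⟩ := exists_seven hQ (c.hyp_quot hNK hs hN.mem hN.three hNfix)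
  obtain ⟨x, rfl⟩ := QuotientGroup.mk'_surjective _ q
  obtain ⟨a, e, he, hae⟩ := Nat.exists_eq_pow_mul_and_not_dvd (orderOf_pos (x : G)).ne' 7 (by norm_num)
  set d : G := (x : G) ^ e with hd
  have hdK : d ∈ K := pow_mem x.2 e
  have hπd : π ⟨d, hdK⟩ = π x ^ e := by rw [← map_pow]; rfl
  have hd7a : d ^ 7 ^ a = 1 := by rw [hd, ← pow_mul, mul_comm, ← hae, pow_orderOf_eq_one]
  have hdN : d ∉ N := fun hm => by
    have h1 := (hmemN ⟨d, hdK⟩).2 hm
    rw [hπd] at h1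
    have h2 := orderOf_dvd_of_pow_eq_one h1
    rw [show (orderOf (π x)) = 7 from hq7] at h2
    exact he h2
  obtain ⟨r, hr, hsd⟩ : ∃ r, (r = 2 ∨ r = 4) ∧ (d ^ r)⁻¹ * (s * d * s⁻¹) ∈ N := by
    have key : ∀ r, π ⟨s, hs⟩ * π x * (π ⟨s, hs⟩)⁻¹ = π x ^ r → (d ^ r)⁻¹ * (s * d * s⁻¹) ∈ N := by
      intro r hr
      have h1 : π ((⟨d, hdK⟩ ^ r)⁻¹ * (⟨s, hs⟩ * ⟨d, hdK⟩ * (⟨s, hs⟩ : K)⁻¹)) = 1 := by
        rw [map_mul, map_inv, map_pow, map_mul, map_mul, map_inv, hπd, ← conj_pow, hr, ← pow_mul,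
          ← pow_mul, mul_comm r e, inv_mul_cancel]
      exact (hmemN _).1 h1
    rcases hqs with h1 | h1
    · exact ⟨2, Or.inl rfl, key 2 h1⟩
    · exact ⟨4, Or.inr rfl, key 4 h1⟩
  have hd7 : d ^ 7 ∈ N := by
    have h1 : π (⟨d, hdK⟩ ^ 7) = 1 := by
      rw [map_pow, hπd, ← pow_mul, mul_comm, pow_mul, ← show orderOf (π x) = 7 from hq7,
        pow_orderOf_eq_one, one_pow]
    exact (hmemN _).1 h1
  -- the stabiliser of `z`
  set L := K ⊓ Subgroup.centralizer {z} with hLdef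
  have hLz : ∀ {l : G}, l ∈ L ↔ l ∈ K ∧ Commute l z := fun {l} =>
    ⟨fun h => ⟨h.1, Subgroup.mem_centralizer_singleton_iff.1 h.2⟩,
      fun h => ⟨h.1, Subgroup.mem_centralizer_singleton_iff.2 h.2.eq⟩⟩
  have hNL : N ≤ L := fun n hn => hLz.2 ⟨hNK hn, hN.central n hn⟩
  have hsL : s ∈ L := hLz.2 ⟨hs, c.comm.symm⟩
  have hprod := Subgroup.relIndex_mul_relIndex N L K hNL inf_le_left
  rw [hi] at hprod
  haveI : (N.subgroupOf L).Normal := ⟨fun n hn k => by
    rw [Subgroup.mem_subgroupOf] at hn ⊢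
    exact hnorm k k.2.1 n hn⟩
  have h3 : 3 ∣ N.relIndex L := by
    have h1 : orderOf (QuotientGroup.mk ⟨s, hsL⟩ : L ⧸ N.subgroupOf L) = 3 := by
      haveI : Fact (Nat.Prime 3) := ⟨Nat.prime_three⟩
      refine orderOf_eq_prime ?_ fun e' => hN.three ?_
      · rw [← QuotientGroup.mk_pow]
        refine (QuotientGroup.eq_one_iff (N := N.subgroupOf L) _).2 ?_
        rw [Subgroup.mem_subgroupOf, Subgroup.coe_pow]
        show s ^ 3 ∈ N
        rw [c.s_cube]; exact one_mem N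
      · have hsN : s ∈ N := (QuotientGroup.eq_one_iff (N := N.subgroupOf L) ⟨s, hsL⟩).1 e'
        exact c.s_ord ▸ Subgroup.orderOf_dvd_natCard N hsN
    rw [← h1]; exact orderOf_dvd_natCard _
  have h24 : 24 ∣ N.relIndex L := Nat.Coprime.mul_dvd_of_dvd_of_dvd (by norm_num) h3 h8
  obtain ⟨k0, hk0⟩ := h24
  rw [hk0] at hprod
  have hLK : L.relIndex K ≠ 1 := fun h1 => by
    obtain ⟨k, hk, hkz⟩ := hmove
    exact hkz (hLz.1 (Subgroup.relIndex_eq_one.1 h1 hk)).2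
  have hdvd : L.relIndex K ∣ 7 := ⟨k0, by
    have : 24 * (L.relIndex K * k0) = 24 * 7 := by rw [show 24 * 7 = 168 by norm_num, ← hprod]; ring
    omega⟩
  have hL7 : L.relIndex K = 7 := ((Nat.dvd_prime (by norm_num)).1 hdvd).resolve_left hLK
  have hdL : ∀ i : ℕ, i % 7 ≠ 0 → d ^ i ∉ L := by
    intro i hi' hm
    rw [hL7] at hprod
    have hk1 : k0 = 1 := by omega
    have h1 : orderOf (QuotientGroup.mk ⟨d ^ i, hm⟩ : L ⧸ N.subgroupOf L) ∣ 24 := by
      have h0 : orderOf (QuotientGroup.mk ⟨d ^ i, hm⟩ : L ⧸ N.subgroupOf L) ∣ N.relIndex L :=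
        orderOf_dvd_natCard _
      rwa [hk0, hk1, mul_one] at h0
    have h2 : orderOf (QuotientGroup.mk ⟨d ^ i, hm⟩ : L ⧸ N.subgroupOf L) ∣ 7 :=
      orderOf_dvd_of_pow_eq_one (by
        rw [← QuotientGroup.mk_pow]
        refine (QuotientGroup.eq_one_iff (N := N.subgroupOf L) _).2 ?_
        rw [Subgroup.mem_subgroupOf, Subgroup.coe_pow]
        show (d ^ i) ^ 7 ∈ N
        rw [← pow_mul, mul_comm, pow_mul]
        exact pow_mem hd7 i)
    have h12 := Nat.dvd_gcd h1 h2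
    rw [show Nat.gcd 24 7 = 1 by norm_num, Nat.dvd_one, orderOf_eq_one_iff] at h12
    have hiN : d ^ i ∈ N := (QuotientGroup.eq_one_iff (N := N.subgroupOf L) ⟨d ^ i, hm⟩).1 h12
    have hπi : π ⟨d, hdK⟩ ^ i = 1 := by rw [← map_pow]; exact (hmemN _).2 hiN
    have hod : orderOf (π ⟨d, hdK⟩) = 7 :=
      orderOf_eq_prime (by rw [← map_pow]; exact (hmemN _).2 hd7)
        fun e' => hdN ((hmemN ⟨d, hdK⟩).1 e')
    have h9 := orderOf_dvd_of_pow_eq_one hπi
    rw [hod] at h9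
    omega
  -- the orbit
  let f : Fin 7 → K ⧸ L.subgroupOf K := fun i => QuotientGroup.mk ⟨d ^ (i : ℕ), pow_mem hdK _⟩
  have hfi : Function.Injective f := by
    have key : ∀ i j : Fin 7, (i : ℕ) ≤ j → f i = f j → i = j := by
      intro i j hij e'
      rw [QuotientGroup.eq, Subgroup.mem_subgroupOf] at e'
      have h1 : d ^ ((j : ℕ) - i) ∈ L := by
        have h2 : (d ^ (i : ℕ))⁻¹ * d ^ (j : ℕ) ∈ L := e'
        rwa [show (d ^ (i : ℕ))⁻¹ * d ^ (j : ℕ) = d ^ ((j : ℕ) - i) by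
          rw [pow_sub d hij, ((Commute.pow_pow_self d _ _).inv_left).eq]] at h2
      by_contra hne
      have : (i : ℕ) ≠ j := fun h => hne (Fin.ext h)
      exact hdL _ (by omega) h1
    intro i j e'
    rcases le_total (i : ℕ) j with hij | hij
    · exact key i j hij e'
    · exact (key j i hij e'.symm).symm
  have hfs : Function.Surjective f :=
    (Function.Injective.bijective_of_nat_card_le hfi (by rw [Nat.card_fin]; exact le_of_eq hL7)).2
  have orbit : ∀ k ∈ K, ∃ i : ℕ, k * z * k⁻¹ = d ^ i * z * (d ^ i)⁻¹ := by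
    intro k hk
    obtain ⟨i, hi'⟩ := hfs (QuotientGroup.mk ⟨k, hk⟩)
    rw [QuotientGroup.eq, Subgroup.mem_subgroupOf] at hi'
    refine ⟨i, ?_⟩
    obtain ⟨l, hl, rfl⟩ : ∃ l ∈ L, k = d ^ (i : ℕ) * l :=
      ⟨(d ^ (i : ℕ))⁻¹ * k, hi', (mul_inv_cancel_left _ _).symm⟩
    have hc := (hLz.1 hl).2
    calc d ^ (i : ℕ) * l * z * (d ^ (i : ℕ) * l)⁻¹
        = d ^ (i : ℕ) * (l * z * l⁻¹) * (d ^ (i : ℕ))⁻¹ := by group
      _ = _ := by rw [hc.eq, mul_inv_cancel_right]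
  -- the span of the orbit
  set V : Subgroup G := Subgroup.closure {w | ∃ k ∈ K, w = k * z * k⁻¹} with hV
  have horb : ∀ k ∈ K, k * z * k⁻¹ ∈ V := fun k hk => Subgroup.subset_closure ⟨k, hk, rfl⟩
  have hzV : z ∈ V := by simpa using horb 1 (one_mem K)
  have hVN : V ≤ N := (Subgroup.closure_le _).2 fun w hw => by
    obtain ⟨k, hk, rfl⟩ := hw
    exact hnorm k hk z hN.mem
  have hVn : ∀ k ∈ K, ∀ v ∈ V, k * v * k⁻¹ ∈ V := by
    intro k hk v hv
    have hle : V ≤ V.comap (MulAut.conj k).toMonoidHom := (Subgroup.closure_le _).2 fun w hw => by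
      obtain ⟨k', hk', rfl⟩ := hw
      show k * (k' * z * k'⁻¹) * k⁻¹ ∈ V
      rw [show k * (k' * z * k'⁻¹) * k⁻¹ = (k * k') * z * (k * k')⁻¹ by group]
      exact horb _ (mul_mem hk hk')
    exact hle hv
  have hVc : ∀ v ∈ V, ∀ n ∈ N, Commute v n := by
    intro v hv n hn'
    have hle : V ≤ Subgroup.centralizer {n} := (Subgroup.closure_le _).2 fun w hw => by
      obtain ⟨k, hk, rfl⟩ := hw
      have h1 : k⁻¹ * n * k ∈ N := by simpa using hnorm k⁻¹ (inv_mem hk) n hn'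
      have h2 := (hN.central _ h1).symm.map (MulAut.conj k).toMonoidHom
      refine Subgroup.mem_centralizer_singleton_iff.2 ?_
      simpa [mul_assoc] using h2.eq
    exact Subgroup.mem_centralizer_singleton_iff.1 (hle hv)
  have hexp : ∀ v ∈ V, v * v = 1 := by
    intro v hv
    induction hv using Subgroup.closure_induction with
    | mem w hw =>
      obtain ⟨k, hk, rfl⟩ := hw
      rw [show k * z * k⁻¹ * (k * z * k⁻¹) = k * (z * z) * k⁻¹ by group, c.z_sq, mul_one,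
        mul_inv_cancel]
    | one => exact one_mul 1
    | mul p q hp hq ihp ihq =>
      rw [(hVc q hq p (hVN hp)).mul_mul_mul_comm, ihp, ihq, one_mul]
    | inv p hp ihp => rw [← mul_inv_rev, ihp, inv_one]
  -- the cubic
  have hact : ∀ n ∈ N, ∀ v ∈ V, n * v * n⁻¹ = v := fun n hn' v hv => by
    rw [← (hVc v hv n hn').eq, mul_inv_cancel_right]
  have hmodN : ∀ p q : G, p ∈ K → q⁻¹ * p ∈ N → ∀ v ∈ V, p * v * p⁻¹ = q * v * q⁻¹ := by
    intro p q hp hm v hv
    calc p * v * p⁻¹ = q * ((q⁻¹ * p) * v * (q⁻¹ * p)⁻¹) * q⁻¹ := by group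
      _ = _ := by rw [hact _ hm v hv]
  have hpK : ∀ i : ℕ, d ^ i ∈ K := fun i => pow_mem hdK i
  set c₂ := d ^ r with hc₂
  set c₃ := d ^ (r * r) with hc₃
  have hC : Conj3 V d c₂ c₃ :=
    { comm := fun v hv w hw => (hVc v hv w (hVN hw)).eq
      exp := hexp
      act := fun x hx v hv => by
        rcases hx with rfl | rfl | rfl <;> exact hVn _ (by first | exact hdK | exact hpK _) v hv
      swap := fun x y hx hy v _ => by
        have hxy : Commute x y := by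
          rcases hx with rfl | rfl | rfl <;> rcases hy with rfl | rfl | rfl <;>
            first
              | exact Commute.refl _
              | exact Commute.pow_pow_self d _ _
              | exact Commute.self_pow d _
              | exact Commute.pow_self d _
        rw [hxy.eq]
      prod := fun v hv => hact _ (by
        rw [hc₂, hc₃, ← pow_succ', ← pow_add]
        rcases hr with rfl | rfl
        · exact hd7
        · rw [show 4 + 1 + 4 * 4 = 7 * 3 by norm_num, pow_mul]; exact pow_mem hd7 3) v hv }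
  have hsconj : ∀ i : ℕ, ∀ v ∈ V, s * v * s⁻¹ = v →
      s * (d ^ i * v * (d ^ i)⁻¹) * s⁻¹ = d ^ (r * i) * v * (d ^ (r * i))⁻¹ := by
    intro i v hv hsv
    have h1 : ∀ i : ℕ, (d ^ (r * i))⁻¹ * (s * d ^ i * s⁻¹) ∈ N := fun i => by
      induction i with
      | zero => simpa using one_mem N
      | succ i ih =>
        have e : (d ^ (r * (i + 1)))⁻¹ * (s * d ^ (i + 1) * s⁻¹) =
            ((d ^ r)⁻¹ * ((d ^ (r * i))⁻¹ * (s * d ^ i * s⁻¹)) * ((d ^ r)⁻¹)⁻¹) *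
              ((d ^ r)⁻¹ * (s * d * s⁻¹)) := by
          rw [mul_add, mul_one, pow_add, pow_succ]; group
        rw [e]
        exact mul_mem (hnorm _ (inv_mem (hpK r)) _ ih) hsd
    calc s * (d ^ i * v * (d ^ i)⁻¹) * s⁻¹ = (s * d ^ i * s⁻¹) * (s * v * s⁻¹) * (s * d ^ i * s⁻¹)⁻¹ := by
          group
      _ = (s * d ^ i * s⁻¹) * v * (s * d ^ i * s⁻¹)⁻¹ := by rw [hsv]
      _ = _ := hmodN _ _ (mul_mem (mul_mem hs (hpK i)) (inv_mem hs)) (h1 i) v hv
  have hfixed : ∀ p q w : G, p ∈ V → q ∈ V → w ∈ V → s * p * s⁻¹ = q → s * q * s⁻¹ = w →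
      p * q * w = 1 ∨ p * q * w = z := by
    intro p q w hp hq hw e1 e2
    have e3 : s * w * s⁻¹ = p := by rw [← e2, ← e1, hN.s_cubed]
    refine hN.fixed (mul_mem (mul_mem (hVN hp) (hVN hq)) (hVN hw)) ?_
    refine (mul_inv_eq_iff_eq_mul.1 ?_).symm
    calc s * (p * q * w) * s⁻¹ = (s * p * s⁻¹) * (s * q * s⁻¹) * (s * w * s⁻¹) := by group
      _ = q * w * p := by rw [e1, e2, e3]
      _ = p * q * w := by rw [(hVc (q * w) (mul_mem hq hw) p (hVN hp)).eq, mul_assoc]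
  have hco : ∀ i : ℕ, d ^ i * z * (d ^ i)⁻¹ ∈ V := fun i => horb _ (hpK i)
  have he1 : Conj3.powNorm d c₂ c₃ 1 z = 1 ∨ Conj3.powNorm d c₂ c₃ 1 z = z := by
    simp only [Conj3.powNorm, pow_one]
    refine hfixed _ _ _ (hVn d hdK z hzV) (hco r) (hco (r * r)) ?_ ?_
    · have := hsconj 1 z hzV hN.s_z
      rwa [pow_one, mul_one] at this
    · exact hsconj r z hzV hN.s_z
  have he2 : Conj3.pairNorm d c₂ c₃ z = 1 ∨ Conj3.pairNorm d c₂ c₃ z = z := by
    simp only [Conj3.pairNorm, hc₂, hc₃]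
    rw [← pow_succ', ← pow_succ, ← pow_add]
    refine hfixed _ _ _ (hco _) (hco _) (hco _) ?_ ?_
    · have := hsconj (r + 1) z hzV hN.s_z
      rwa [show r * (r + 1) = r + r * r by ring] at this
    · rw [hsconj (r + r * r) z hzV hN.s_z]
      refine hmodN _ _ (hpK _) ?_ z hzV
      rcases hr with rfl | rfl
      · rw [show 2 * (2 + 2 * 2) = 2 * 2 + 1 + 7 by norm_num, pow_add d (2 * 2 + 1) 7,
          inv_mul_cancel_left]
        exact hd7
      · rw [show 4 * (4 + 4 * 4) = 4 * 4 + 1 + 7 * 9 by norm_num, pow_add d (4 * 4 + 1) (7 * 9),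
          inv_mul_cancel_left, pow_mul]
        exact pow_mem hd7 9
  set p := d * z * d⁻¹ with hp
  set w := d ^ 2 * z * (d ^ 2)⁻¹ with hw
  have hpV : p ∈ V := hVn d hdK z hzV
  have hwV : w ∈ V := hco 2
  have hn7 : ∀ v ∈ V, d ^ 7 * v * (d ^ 7)⁻¹ = v := fun v hv => hact _ hd7 v hv
  have hd3 : d ^ 3 * z * (d ^ 3)⁻¹ = p * z ∨ d ^ 3 * z * (d ^ 3)⁻¹ = w * z := by
    refine (hC.fix_or_cubic hzV (n := 7) (by norm_num) hn7 he1 he2).resolve_left fun e' => ?_
    exact hdL 1 (by norm_num) (by rw [pow_one]; exact hLz.2 ⟨hdK, mul_inv_eq_iff_eq_mul.1 e'⟩)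
  set W0 := Subgroup.zpowers z ⊔ Subgroup.zpowers p ⊔ Subgroup.zpowers w with hW0
  have hzW : z ∈ W0 :=
    (le_sup_left : _ ≤ W0) ((le_sup_left (b := Subgroup.zpowers p)) (Subgroup.mem_zpowers z))
  have hpW : p ∈ W0 :=
    (le_sup_left : _ ≤ W0) ((le_sup_right (a := Subgroup.zpowers z)) (Subgroup.mem_zpowers p))
  have hwW : w ∈ W0 := (le_sup_right : _ ≤ W0) (Subgroup.mem_zpowers w)
  have hdW : ∀ v ∈ W0, d * v * d⁻¹ ∈ W0 := by
    have hle : W0 ≤ W0.comap (MulAut.conj d).toMonoidHom := by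
      refine sup_le (sup_le ?_ ?_) ?_ <;> rw [Subgroup.zpowers_le]
      · show d * z * d⁻¹ ∈ W0
        exact hpW
      · show d * (d * z * d⁻¹) * d⁻¹ ∈ W0
        rwa [show d * (d * z * d⁻¹) * d⁻¹ = w by rw [hw, pow_two]; group]
      · show d * (d ^ 2 * z * (d ^ 2)⁻¹) * d⁻¹ ∈ W0
        rw [show d * (d ^ 2 * z * (d ^ 2)⁻¹) * d⁻¹ = d ^ 3 * z * (d ^ 3)⁻¹ by
          rw [pow_succ' d 2]; group]
        rcases hd3 with e' | e' <;> rw [e']
        · exact mul_mem hpW hzW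
        · exact mul_mem hwW hzW
    exact fun v hv => hle hv
  have hVW : V ≤ W0 := (Subgroup.closure_le _).2 fun x hx => by
    obtain ⟨k, hk, rfl⟩ := hx
    obtain ⟨i, hi'⟩ := orbit k hk
    show k * z * k⁻¹ ∈ W0
    rw [hi']
    clear hi'
    induction i with
    | zero => simpa using hzW
    | succ i ih =>
      have := hdW _ ih
      rwa [pow_succ', show d * d ^ i * z * (d * d ^ i)⁻¹ = d * (d ^ i * z * (d ^ i)⁻¹) * d⁻¹ by group]
  have hV8 : Nat.card V ≤ 8 := by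
    refine (Subgroup.card_le_of_le hVW).trans ?_
    have h1 : Nat.card ↥(Subgroup.zpowers z ⊔ Subgroup.zpowers p) ≤ 4 := by
      refine (card_sup_zpowers_le (fun n hn' => hVc p hpV n
        (hVN ((Subgroup.zpowers_le.2 hzV) hn'))) (hexp p hpV)).trans ?_
      rw [c.card_zpowers_z]
    refine (card_sup_zpowers_le (fun n hn' => hVc w hwV n (hVN
      ((sup_le (Subgroup.zpowers_le.2 hzV) (Subgroup.zpowers_le.2 hpV)) hn'))) (hexp w hwV)).trans ?_
    omega
  -- `d` centralises `N / V`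
  have h3N : ¬ 3 ∣ Nat.card V := fun h => hN.three (h.trans (Subgroup.card_dvd_of_le hVN))
  set Y := N ⊔ Subgroup.zpowers d with hY
  have hdn : ∀ n ∈ N, d * n * d⁻¹ ∈ N := hnorm d hdK
  have hYK : Y ≤ K := sup_le hNK (Subgroup.zpowers_le.2 hdK)
  have hYs : ∀ y ∈ Y, s * y * s⁻¹ ∈ Y := by
    have hle : Y ≤ Y.comap (MulAut.conj s).toMonoidHom := by
      refine sup_le (fun n hn' => (le_sup_left : N ≤ Y) (hnorm s hs n hn'))
        (Subgroup.zpowers_le.2 ?_)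
      show s * d * s⁻¹ ∈ Y
      rw [← mul_inv_cancel_left (d ^ r) (s * d * s⁻¹)]
      exact mul_mem (pow_mem ((le_sup_right : _ ≤ Y) (Subgroup.mem_zpowers d)) r)
        ((le_sup_left : N ≤ Y) hsd)
    exact fun y hy => hle hy
  have hY3 : ¬ 3 ∣ Nat.card Y := by
    intro h
    haveI : Fact (Nat.Prime 3) := ⟨Nat.prime_three⟩
    obtain ⟨g, hg⟩ := exists_prime_orderOf_dvd_card' 3 h
    obtain ⟨n, hn', k, hk⟩ := (mem_sup_zpowers hdn).1 g.2
    have hg3 : ((g : G)) ^ 3 = 1 := by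
      rw [← Subgroup.coe_pow, ← hg, pow_orderOf_eq_one, Subgroup.coe_one]
    have h1 : π ⟨(g : G), hYK g.2⟩ = π ⟨d, hdK⟩ ^ k := by
      rw [show (⟨(g : G), hYK g.2⟩ : K) = ⟨n, hNK hn'⟩ * ⟨d, hdK⟩ ^ k from Subtype.ext (by simpa using hk),
        map_mul, (hmemN ⟨n, hNK hn'⟩).2 hn', one_mul, map_pow]
    have h2 : π ⟨(g : G), hYK g.2⟩ ^ 3 = 1 := by
      rw [← map_pow]; exact (hmemN _).2 (by simpa [hg3] using one_mem N)
    have h7 : π ⟨(g : G), hYK g.2⟩ ^ 7 = 1 := by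
      rw [h1, ← pow_mul, mul_comm, pow_mul, ← map_pow, (hmemN _).2 (by simpa using hd7), one_pow]
    have h4 := Nat.dvd_gcd (orderOf_dvd_of_pow_eq_one h2) (orderOf_dvd_of_pow_eq_one h7)
    rw [show Nat.gcd 3 7 = 1 by norm_num, Nat.dvd_one, orderOf_eq_one_iff] at h4
    have h5 := Subgroup.orderOf_dvd_natCard N ((hmemN _).1 h4 : (g : G) ∈ N)
    rw [show orderOf (g : G) = 3 by rw [Subgroup.orderOf_coe, hg]] at h5
    exact hN.three h5
  have hF : FpfSection s Y V :=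
    { le := fun v hv => (le_sup_left : N ≤ Y) (hVN hv)
      normal := fun y hy v hv => hVn y (hYK hy) v hv
      cube := c.s_cube
      three := h3N
      actY := hYs
      actN := fun v hv => hVn s hs v hv
      fixed := fun y hy hys => by
        have hyz := c.commute_z hN.mem hNfix (hnorm y (hYK hy) z hN.mem) hys
        rcases c.eq_one_or_z hyz hys fun h =>
            hY3 (h.trans (Subgroup.orderOf_dvd_natCard Y hy)) with e' | e' <;> rw [e']
        · exact one_mem _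
        · exact hzV }
  set C : Subgroup G :=
    { carrier := {k | k ∈ K ∧ ∀ n ∈ N, ⁅k, n⁆ ∈ V}
      one_mem' := ⟨one_mem K, fun n _ => by rw [commutatorElement_one_left]; exact one_mem V⟩
      mul_mem' := fun {a b} ha hb => ⟨mul_mem ha.1 hb.1, fun n hn' => by
        rw [show ⁅a * b, n⁆ = a * ⁅b, n⁆ * a⁻¹ * ⁅a, n⁆ by simp only [commutatorElement_def]; group]
        exact mul_mem (hVn a ha.1 _ (hb.2 n hn')) (ha.2 n hn')⟩
      inv_mem' := fun {a} ha => ⟨inv_mem ha.1, fun n hn' => by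
        rw [show ⁅a⁻¹, n⁆ = a⁻¹ * ⁅a, n⁆⁻¹ * a⁻¹⁻¹ by simp only [commutatorElement_def]; group]
        exact hVn _ (inv_mem ha.1) _ (inv_mem (ha.2 n hn'))⟩ } with hCdef
  have memC : ∀ {k}, k ∈ C ↔ k ∈ K ∧ ∀ n ∈ N, ⁅k, n⁆ ∈ V := Iff.rfl
  have hCn : ∀ k ∈ K, ∀ l ∈ C, k * l * k⁻¹ ∈ C := by
    intro k hk l hl
    obtain ⟨hlK, hl'⟩ := memC.1 hl
    refine memC.2 ⟨mul_mem (mul_mem hk hlK) (inv_mem hk), fun n hn' => ?_⟩
    rw [show ⁅k * l * k⁻¹, n⁆ = k * ⁅l, k⁻¹ * n * k⁻¹⁻¹⁆ * k⁻¹ by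
      simp only [commutatorElement_def]; group]
    exact hVn k hk _ (hl' _ (hnorm k⁻¹ (inv_mem hk) n hn'))
  have hdC : d ∈ C := memC.2 ⟨hdK, fun n hn' => by
    refine hF.commutator_coprime_mem ((le_sup_right : _ ≤ Y) (Subgroup.mem_zpowers d))
      ((le_sup_left : N ≤ Y) hn') ?_
    obtain ⟨j, hj⟩ := hN.two ⟨n, hn'⟩
    refine Nat.Coprime.coprime_dvd_left (orderOf_dvd_of_pow_eq_one hd7a) ?_
    refine Nat.Coprime.coprime_dvd_right
      (orderOf_dvd_of_pow_eq_one (congrArg Subtype.val hj : n ^ 2 ^ j = 1)) ?_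
    exact Nat.Coprime.pow a j (by norm_num)⟩
  have hCN : C ⊔ N = K := by
    refine (hsimp _ le_sup_right (sup_le (fun x hx => (memC.1 hx).1) hNK) ?_).resolve_left
      fun e' => hdN (e' ▸ (le_sup_left : C ≤ C ⊔ N) hdC)
    intro k hk l hl
    have hle : C ⊔ N ≤ (C ⊔ N).comap (MulAut.conj k).toMonoidHom :=
      sup_le (fun x hx => (le_sup_left : C ≤ _) (hCn k hk x hx))
        (fun x hx => (le_sup_right : N ≤ _) (hnorm k hk x hx))
    exact hle hl
  have hNnC : N ≤ Subgroup.normalizer (C : Set G) := fun n hn' =>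
    Subgroup.mem_normalizer_iff.2 fun x => ⟨hCn n (hNK hn') x, fun hx => by
      simpa [mul_assoc] using hCn n⁻¹ (inv_mem (hNK hn')) _ hx⟩
  obtain ⟨cc, hcc, n0, hn0, hsc⟩ : ∃ cc ∈ C, ∃ n0 ∈ N, s = cc * n0 := by
    have h1 : s ∈ ((C ⊔ N : Subgroup G) : Set G) := hCN.ge hs
    rw [Subgroup.coe_mul_of_right_le_normalizer_left C N hNnC, Set.mem_mul] at h1
    obtain ⟨a', ha', b', hb', hab⟩ := h1
    exact ⟨a', ha', b', hb', hab.symm⟩
  have hfp : FpfSection s N V :=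
    { le := hVN
      normal := fun y hy v hv => hVn y (hNK hy) v hv
      cube := c.s_cube
      three := h3N
      actY := fun y hy => hnorm s hs y hy
      actN := fun v hv => hVn s hs v hv
      fixed := fun y hy hys => by
        rcases c.mem_zpowers_z_iff.1 (hNfix y hy hys) with e' | e' <;> rw [e']
        · exact one_mem _
        · exact hzV }
  have hmov : ∀ n ∈ N, s * n * s⁻¹ = ⁅cc, n0 * n * n0⁻¹⁆ * (n0 * n * n0⁻¹) := fun n _ => by
    rw [hsc, commutatorElement_def]; group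
  have hn0V : n0 ∈ V := by
    refine hfp.mem_of_fixed_mod hn0 ?_
    rw [hmov n0 hn0, mul_inv_cancel_right]
    have := (memC.1 hcc).2 n0 hn0
    rw [(hVc _ this n0 hn0).eq, inv_mul_cancel_left]
    exact this
  have hall : N ≤ V := fun n hn' => by
    refine hfp.mem_of_fixed_mod hn' ?_
    rw [hmov n hn', (hVc n0 hn0V n hn').eq, mul_inv_cancel_right]
    have := (memC.1 hcc).2 n hn'
    rw [(hVc _ this n hn').eq, inv_mul_cancel_left]
    exact this
  exact (Subgroup.card_le_of_le hall).trans hV8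

end CfsgLib.SelfCentralSix57
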