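import Cfsg.Agent.SelfCentralSix57.Ctx

/-!
# The Sylow 2-subgroup of the nilpotent part
-/

set_option autoImplicit false
set_option linter.style.haveILetI false
set_option linter.unusedSectionVars false

namespace CfsgLib.SelfCentralSix57

universe u

variable {G : Type u} [Group G] [Finite G]

/-- A normal subgroup `M` of `K` of order prime to three normalises a 2-subgroup `P` over `N` of odd
index in it. -/
theorem Ctx.normalises_two {z s : G} (c : Ctx z s) {K N M P : Subgroup G} (hNK : N ≤ K)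
    (hnorm : ∀ k ∈ K, ∀ n ∈ N, k * n * k⁻¹ ∈ N) (hs : s ∈ K) (hz : z ∈ N)
    (hN3 : ¬ 3 ∣ Nat.card N) (hNfix : ∀ n ∈ N, Commute n s → n ∈ Subgroup.zpowers z)
    (hMK : M ≤ K) (hM : ∀ k ∈ K, ∀ m ∈ M, k * m * k⁻¹ ∈ M) (hM3 : ¬ 3 ∣ Nat.card M)
    (hNP : N ≤ P) (hPM : P ≤ M) (hP : IsPGroup 2 P) (hodd : ¬ 2 ∣ P.relIndex M) :
    ∀ m ∈ M, ∀ p ∈ P, m * p * m⁻¹ ∈ P := by
  haveI hn : (N.subgroupOf K).Normal := ⟨fun n hn k => by
    rw [Subgroup.mem_subgroupOf] at hn ⊢
    exact hnorm k k.2 n hn⟩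
  let φ : M →* K ⧸ N.subgroupOf K :=
    (QuotientGroup.mk' (N.subgroupOf K)).comp (Subgroup.inclusion hMK)
  have hW : φ.range = (M.subgroupOf K).map (QuotientGroup.mk' (N.subgroupOf K)) := by
    rw [MonoidHom.range_comp, Subgroup.inclusion_range]
  haveI hMn : (M.subgroupOf K).Normal := ⟨fun m hm k => by
    rw [Subgroup.mem_subgroupOf] at hm ⊢
    exact hM k k.2 m hm⟩
  haveI hWn : φ.range.Normal := by
    rw [hW]
    exact hMn.map _ (QuotientGroup.mk'_surjective _)
  have hW3 : ¬ 3 ∣ Nat.card φ.range := fun h => hM3 (h.trans (Subgroup.card_range_dvd φ))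
  haveI : Group.IsNilpotent φ.range :=
    (SelfCentralThree.nilpotent_and_class_two (c.hyp_quot hNK hs hz hN3 hNfix)
      (by rw [Subgroup.normalizer_eq_top]; trivial) hW3).1
  haveI : Fact (Nat.Prime 2) := ⟨Nat.prime_two⟩
  set Q := (P.subgroupOf M).map φ.rangeRestrict with hQ
  have hQ2 : IsPGroup 2 Q :=
    (hP.of_equiv (Subgroup.subgroupOfEquivOfLe hPM).symm).map φ.rangeRestrict
  have hQi : ¬ 2 ∣ Q.index := fun h =>
    hodd (h.trans (Subgroup.index_map_dvd _ φ.rangeRestrict_surjective))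
  have hQn : Q.Normal := by
    have h1 : ((hQ2.toSylow hQi : Sylow 2 φ.range) : Subgroup φ.range).Normal :=
      Sylow.normal_of_normalizerCondition Group.normalizerCondition_of_isNilpotent _
    rwa [IsPGroup.toSylow_coe] at h1
  have hback : Q.comap φ.rangeRestrict = P.subgroupOf M := by
    rw [hQ, Subgroup.comap_map_eq, sup_eq_left]
    intro m hm
    rw [MonoidHom.ker_rangeRestrict, MonoidHom.mem_ker] at hm
    have h1 : (QuotientGroup.mk (Subgroup.inclusion hMK m) : K ⧸ N.subgroupOf K) = 1 := hm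
    exact hNP (Subgroup.mem_subgroupOf.1 ((QuotientGroup.eq_one_iff (N := N.subgroupOf K) _).1 h1))
  intro m hm p hp
  have h1 : (P.subgroupOf M).Normal := hback ▸ hQn.comap _
  exact Subgroup.mem_subgroupOf.1
    (h1.conj_mem ⟨p, hPM hp⟩ (Subgroup.mem_subgroupOf.2 hp) ⟨m, hm⟩)

end CfsgLib.SelfCentralSix57
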