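import Cfsg.Agent.SelfCentralSix57.S3Cfg
import Cfsg.Agent.SelfCentralSix57.NilNormal
import Cfsg.Agent.SelfCentralSix57.Core168
import Cfsg.Agent.S2751

/-!
# A second parabolic bounds the order of `R`
-/

set_option autoImplicit false
set_option linter.style.haveILetI false
set_option linter.unusedSectionVars false

namespace CfsgLib.SelfCentralSix57

universe u

variable {G : Type u} [Group G] [Finite G]

/-- A Sylow 2-subgroup of `G` inside `K` meets a normal subgroup in one of odd index. -/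
theorem not_two_dvd_relIndex_inf {K M : Subgroup G} (P : Sylow 2 G) (hP : (P : Subgroup G) ≤ K)
    (hMK : M ≤ K) (hM : ∀ k ∈ K, ∀ m ∈ M, k * m * k⁻¹ ∈ M) :
    ¬ 2 ∣ ((P : Subgroup G) ⊓ M).relIndex M := by
  haveI : Fact (Nat.Prime 2) := ⟨Nat.prime_two⟩
  rw [Subgroup.inf_relIndex_right]
  haveI hn : (M.subgroupOf K).Normal := ⟨fun m hm k => by
    rw [Subgroup.mem_subgroupOf] at hm ⊢
    exact hM k k.2 m hm⟩
  set M' := M.subgroupOf K
  set P' : Sylow 2 K := P.subtype hP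
  have hP'o : ¬ 2 ∣ (P' : Subgroup K).index := P'.not_dvd_index
  have hrel : (P' : Subgroup K).relIndex M' = (P : Subgroup G).relIndex M := by
    rw [Sylow.coe_subtype]
    exact Subgroup.relIndex_subgroupOf hMK
  rw [← hrel]
  refine fun h => hP'o (h.trans (dvd_trans (dvd_of_eq ?_)
    (Subgroup.relIndex_dvd_index_of_le (le_sup_left (a := (P' : Subgroup K)) (b := M')))))
  -- compare the two ways to count the join
  set A := (P' : Subgroup K)
  have e1 := (A.subgroupOf (A ⊔ M')).card_mul_index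
  have e2 := (M'.subgroupOf (A ⊔ M')).card_mul_index
  have e3 := (M'.subgroupOf A).card_mul_index
  have e4 := (A.subgroupOf M').card_mul_index
  rw [Nat.card_congr (Subgroup.subgroupOfEquivOfLe le_sup_left).toEquiv] at e1
  rw [Nat.card_congr (Subgroup.subgroupOfEquivOfLe le_sup_right).toEquiv,
    show (M'.subgroupOf (A ⊔ M')).index = M'.relIndex (A ⊔ M') from rfl,
    Subgroup.relIndex_sup_right] at e2
  have hX : ∀ X Y : Subgroup K, Nat.card (X.subgroupOf Y) = Nat.card ↥(X ⊓ Y) := fun X Y => by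
    rw [← Subgroup.inf_subgroupOf_right]
    exact Nat.card_congr (Subgroup.subgroupOfEquivOfLe inf_le_right).toEquiv
  rw [hX, inf_comm, show (M'.subgroupOf A).index = M'.relIndex A from rfl] at e3
  rw [hX, show (A.subgroupOf M').index = A.relIndex M' from rfl] at e4
  rw [show (A.subgroupOf (A ⊔ M')).index = A.relIndex (A ⊔ M') from rfl, ← e2, ← e3, ← e4] at e1
  have hpos : 0 < Nat.card ↥(A ⊓ M') * M'.relIndex A :=
    e3.symm ▸ Nat.card_pos
  refine (mul_left_cancel₀ hpos.ne' ?_).symm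
  rw [e1]; ring

/-- The order of a Sylow 2-subgroup inside `K` over a normal 2-subgroup. -/
theorem card_sylow_over {K M : Subgroup G} (P : Sylow 2 G) (hPK : (P : Subgroup G) ≤ K)
    (hMP : M ≤ (P : Subgroup G)) {t m : ℕ} (hi : M.relIndex K = t * m) (ht : ∃ e, t = 2 ^ e)
    (hm : ¬ 2 ∣ m) : Nat.card (P : Subgroup G) = t * Nat.card M := by
  haveI : Fact (Nat.Prime 2) := ⟨Nat.prime_two⟩
  obtain ⟨e, rfl⟩ := ht
  obtain ⟨a, ha⟩ := IsPGroup.iff_card.1 (P.2.to_le hMP)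
  obtain ⟨b, hb⟩ := IsPGroup.iff_card.1 P.2
  have hodd : ¬ 2 ∣ (P : Subgroup G).relIndex K := fun h =>
    P.not_dvd_index (h.trans (Subgroup.relIndex_dvd_index_of_le hPK))
  have h1 : Nat.card K = 2 ^ (e + a) * m := by
    rw [← (M.subgroupOf K).card_mul_index,
      Nat.card_congr (Subgroup.subgroupOfEquivOfLe (hMP.trans hPK)).toEquiv,
      show (M.subgroupOf K).index = _ from hi, ha, pow_add]
    ring
  have h2 : Nat.card K = 2 ^ b * (P : Subgroup G).relIndex K := by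
    rw [← ((P : Subgroup G).subgroupOf K).card_mul_index,
      Nat.card_congr (Subgroup.subgroupOfEquivOfLe hPK).toEquiv, hb]
    rfl
  have hco : ∀ {k : ℕ}, ¬ 2 ∣ k → ∀ j : ℕ, Nat.Coprime (2 ^ j) k := fun hk j =>
    Nat.Coprime.pow_left j ((Nat.prime_two.coprime_iff_not_dvd).2 hk)
  rw [hb, ha, ← pow_add]
  exact Nat.dvd_antisymm ((hco hm b).dvd_of_dvd_mul_right ⟨_, h1.symm.trans h2⟩)
    ((hco hodd (e + a)).dvd_of_dvd_mul_right ⟨m, h2.symm.trans h1⟩)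

namespace S3Cfg

variable {z s u : G} {R W : Subgroup G} (h : S3Cfg z s u R W)
include h

theorem s_not_mem_of_three {M : Subgroup G} (hM : ¬ 3 ∣ Nat.card M) : s ∉ M := fun hs =>
  hM (h.ctx.s_ord ▸ Subgroup.orderOf_dvd_natCard M hs)

theorem R_le_M₁ : R ≤ h.M₁ := le_sup_left.trans le_sup_left

theorem S_le_M₁ : h.S ≤ h.M₁ := sup_le h.R_le_M₁ le_sup_right

/-- The part of index three or six. -/
theorem index_facts {K M N : Subgroup G} (hNK : N ≤ K)
    (hnorm : ∀ k ∈ K, ∀ n ∈ N, k * n * k⁻¹ ∈ N) (hN : TwoR z s N) (hNR : N ≤ R) (hK1 : h.M₁ ≤ K)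
    (hMK : M ≤ K) (hM : ∀ k ∈ K, ∀ m ∈ M, k * m * k⁻¹ ∈ M)
    (hM3 : ¬ 3 ∣ Nat.card M) (hi : M.relIndex K = 3 ∨ M.relIndex K = 6) :
    R ≤ M ∧ ¬ 2 ∣ R.relIndex M ∧
      (∀ k ∈ K, k ∈ M ⊔ Subgroup.zpowers s ∨ u⁻¹ * k ∈ M ⊔ Subgroup.zpowers s) ∧
      ∀ k ∈ K, ∀ r ∈ R, k * r * k⁻¹ ∈ R := by
  classical
  haveI : Fact (Nat.Prime 3) := ⟨Nat.prime_three⟩
  have hsK : s ∈ K := hK1 h.s_mem_M₁
  have huK : u ∈ K := hK1 (h.S_le_M₁ h.u_mem_S)
  have hsM : s ∉ M := h.s_not_mem_of_three hM3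
  have huM : u ∉ M := fun hu => by
    have h1 : u * (s * u⁻¹ * s⁻¹) ∈ M := mul_mem hu (hM s hsK _ (inv_mem hu))
    rw [show u * (s * u⁻¹ * s⁻¹) = (u * s * u⁻¹) * s⁻¹ by group, h.u_inv, ← mul_inv_rev,
      inv_mem_iff] at h1
    have h2 : s ^ 2 * s ^ 2 ∈ M := by rw [sq]; exact mul_mem h1 h1
    rw [← pow_add, show 2 + 2 = 3 + 1 from rfl, pow_succ, h.ctx.s_cube, one_mul] at h2
    exact hsM h2
  set M3 := M ⊔ Subgroup.zpowers s with hM3def
  have hs3 : s ^ 3 ∈ M := by rw [h.ctx.s_cube]; exact one_mem M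
  have hc3 : Nat.card M3 = 3 * Nat.card M := card_sup_three (hM s hsK) hs3 hsM
  have hM3K : M3 ≤ K := sup_le hMK (Subgroup.zpowers_le.2 hsK)
  -- two-elements of `M⟨s⟩` lie in `M`
  haveI hn : (M.subgroupOf K).Normal := ⟨fun m hm k => by
    rw [Subgroup.mem_subgroupOf] at hm ⊢
    exact hM k k.2 m hm⟩
  have htwo : ∀ x ∈ M3, ∀ k : ℕ, x ^ 2 ^ k ∈ M → x ∈ M := by
    intro x hx k hk
    obtain ⟨m, hm, j, rfl⟩ := (mem_sup_zpowers (hM s hsK)).1 hx
    let π := QuotientGroup.mk' (M.subgroupOf K)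
    have hπ : ∀ (v : G) (hv : v ∈ K), π ⟨v, hv⟩ = 1 ↔ v ∈ M := fun v hv => by
      rw [QuotientGroup.mk'_apply, QuotientGroup.eq_one_iff, Subgroup.mem_subgroupOf]
    have e1 : π ⟨m * s ^ j, mul_mem (hMK hm) (pow_mem hsK j)⟩ = π ⟨s, hsK⟩ ^ j := by
      rw [← map_pow, show (⟨m * s ^ j, mul_mem (hMK hm) (pow_mem hsK j)⟩ : K) =
        ⟨m, hMK hm⟩ * ⟨s, hsK⟩ ^ j from Subtype.ext (by simp), map_mul, (hπ m (hMK hm)).2 hm,
        one_mul]
    refine (hπ _ (mul_mem (hMK hm) (pow_mem hsK j))).1 (orderOf_eq_one_iff.1 ?_)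
    refine Nat.eq_one_of_dvd_coprimes ((by norm_num : Nat.Coprime 2 3).pow_left k)
      (orderOf_dvd_of_pow_eq_one ?_) ?_
    · rw [← map_pow]
      exact (hπ _ (pow_mem (mul_mem (hMK hm) (pow_mem hsK j)) _)).2 hk
    · rw [e1]
      refine (orderOf_pow_dvd j).trans (orderOf_dvd_of_pow_eq_one ?_)
      rw [← map_pow]
      exact (hπ _ (pow_mem hsK 3)).2 hs3
  have huM3 : u ∉ M3 := fun hu => huM (htwo u hu 2 (by
    rw [show 2 ^ 2 = 2 * 2 from rfl, pow_mul, sq u]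
    rcases h.u_sq with e | e <;> rw [e]
    · rw [one_pow]; exact one_mem M
    · rw [sq, h.ctx.z_sq]; exact one_mem M))
  have hi6 : M.relIndex K = 6 := by
    refine hi.resolve_left fun e => huM3 ?_
    have h1 := (M.subgroupOf K).card_mul_index
    rw [Nat.card_congr (Subgroup.subgroupOfEquivOfLe hMK).toEquiv,
      show (M.subgroupOf K).index = 3 from e, mul_comm, ← hc3] at h1
    exact (Subgroup.eq_of_le_of_card_ge hM3K h1.ge).ge huK
  have hidx : (M3.subgroupOf K).index = 2 := by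
    have h1 := (M3.subgroupOf K).card_mul_index
    rw [Nat.card_congr (Subgroup.subgroupOfEquivOfLe hM3K).toEquiv, hc3] at h1
    have h2 := (M.subgroupOf K).card_mul_index
    rw [Nat.card_congr (Subgroup.subgroupOfEquivOfLe hMK).toEquiv,
      show (M.subgroupOf K).index = 6 from hi6, ← h1] at h2
    have h3 := Nat.card_pos (α := M)
    nlinarith
  have split : ∀ a ∈ K, a ∉ M3 → ∀ b ∈ K, b ∉ M3 → a⁻¹ * b ∈ M3 := by
    intro a ha ha' b hb hb'
    exact (Subgroup.mul_mem_iff_of_index_two hidx (a := (⟨a, ha⟩ : K)⁻¹) (b := ⟨b, hb⟩)).2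
      ⟨fun e => absurd (inv_mem_iff.1 e) ha', fun e => absurd e hb'⟩
  have hconj3 : ∀ k ∈ K, ∀ v ∈ M3, k * v * k⁻¹ ∈ M3 := fun k hk v hv =>
    (Subgroup.normal_of_index_eq_two hidx).conj_mem ⟨v, hM3K hv⟩ hv ⟨k, hk⟩
  have hRK : R ≤ K := h.R_le_M₁.trans hK1
  have hRM3 : R ≤ M3 := by
    intro r hr
    by_contra hr3
    -- `s r s⁻¹ r⁻¹` lies in `M`
    have hρR : s * r * s⁻¹ * r⁻¹ ∈ R := mul_mem (h.rs.act r hr) (inv_mem hr)
    have hs3' : s ∈ M3 := (le_sup_right : _ ≤ M3) (Subgroup.mem_zpowers s)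
    have hρ3 : s * r * s⁻¹ * r⁻¹ ∈ M3 := by
      rw [mul_assoc (s * r) s⁻¹, mul_assoc s r]
      refine mul_mem hs3' ?_
      rw [← mul_assoc]
      exact hconj3 r (hRK hr) _ (inv_mem hs3')
    obtain ⟨k, hk⟩ := h.rs.two ⟨_, hρR⟩
    have hρ : s * r * s⁻¹ * r⁻¹ ∈ M := htwo _ hρ3 k (by
      rw [show (s * r * s⁻¹ * r⁻¹) ^ 2 ^ k = 1 from congrArg Subtype.val hk]; exact one_mem M)
    obtain ⟨m, hm, j, hj⟩ := (mem_sup_zpowers (hM s hsK)).1
      (split r (hRK hr) hr3 u huK huM3)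
    have hu' : u = r * (m * s ^ j) := by rw [← hj, mul_inv_cancel_left]
    -- hence `u` centralises `s` modulo `M`
    have hcs : s * u * s⁻¹ * u⁻¹ ∈ M := by
      rw [hu', show s * (r * (m * s ^ j)) * s⁻¹ * (r * (m * s ^ j))⁻¹ =
        (s * r * s⁻¹ * r⁻¹) * (r * (s * m * s⁻¹ * m⁻¹) * r⁻¹) by group]
      exact mul_mem hρ (hM r (hRK hr) _ (mul_mem (hM s hsK m hm) (inv_mem hm)))
    have h1 : u * (s * u⁻¹ * s⁻¹) ∈ M := by
      have := inv_mem hcs
      simpa [mul_assoc] using this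
    rw [show u * (s * u⁻¹ * s⁻¹) = (u * s * u⁻¹) * s⁻¹ by group, h.u_inv, ← mul_inv_rev,
      inv_mem_iff] at h1
    have h2 : s ^ 2 * s ^ 2 ∈ M := by rw [sq]; exact mul_mem h1 h1
    rw [← pow_add, show 2 + 2 = 3 + 1 from rfl, pow_succ, h.ctx.s_cube, one_mul] at h2
    exact hsM h2
  have hRM : R ≤ M := fun r hr => by
    obtain ⟨k, hk⟩ := h.rs.two ⟨r, hr⟩
    exact htwo r (hRM3 hr) k (by
      rw [show r ^ 2 ^ k = 1 from congrArg Subtype.val hk]; exact one_mem M)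
  obtain ⟨P, hP⟩ := h.sylow
  have hPS : (P : Subgroup G) = h.S := hP
  have hinf : (P : Subgroup G) ⊓ M = R := by
    refine le_antisymm (fun x hx => ?_) (le_inf (hPS ▸ h.R_le_S) hRM)
    rcases h.mem_S.1 (hPS ▸ hx.1) with e | ⟨r, hr, rfl⟩
    · exact e
    · exact absurd ((Subgroup.mul_mem_cancel_left M (hRM hr)).1 hx.2) huM
  have hodd : ¬ 2 ∣ R.relIndex M :=
    hinf ▸ not_two_dvd_relIndex_inf P (hPS ▸ h.S_le_M₁.trans hK1) hMK hM
  have hMR := h.ctx.normalises_two hNK hnorm hsK hN.mem hN.three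
    (fun n hn hc => h.ctx.mem_zpowers_of_fixed hN.three hN.central hn hc) hMK hM hM3 hNR hRM
    h.rs.two hodd
  have hM3R : ∀ v ∈ M3, ∀ r ∈ R, v * r * v⁻¹ ∈ R := by
    intro v hv r hr
    obtain ⟨m, hm, j, rfl⟩ := (mem_sup_zpowers (hM s hsK)).1 hv
    rw [show m * s ^ j * r * (m * s ^ j)⁻¹ = m * (s ^ j * r * (s ^ j)⁻¹) * m⁻¹ by group]
    exact hMR m hm _ (h.normR _ (h.ctx.comm.symm.pow_left j) r hr)
  refine ⟨hRM, hodd, fun k hk => ?_, ?_⟩
  · by_cases hk3 : k ∈ M3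
    · exact Or.inl hk3
    · exact Or.inr (split u huK huM3 k hk hk3)
  intro k hk r hr
  by_cases hk3 : k ∈ M3
  · exact hM3R k hk3 r hr
  · have hv := split u huK huM3 k hk hk3
    rw [show k * r * k⁻¹ = u * ((u⁻¹ * k) * r * (u⁻¹ * k)⁻¹) * u⁻¹ by group]
    exact h.uR _ (hM3R _ hv r hr)

/-- The part of index sixty does not occur. -/
theorem false_of_sixty {K M N : Subgroup G} (hnorm : ∀ k ∈ K, ∀ n ∈ N, k * n * k⁻¹ ∈ N)
    (hN : TwoR z s N) (hK1 : h.M₁ ≤ K) (hNM : N ≤ M) (hMK : M ≤ K)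
    (hM : ∀ k ∈ K, ∀ m ∈ M, k * m * k⁻¹ ∈ M) (hsq : ∀ m ∈ M, m * m ∈ N)
    (hi : M.relIndex K = 60) : False := by
  classical
  haveI : Fact (Nat.Prime 2) := ⟨Nat.prime_two⟩
  obtain ⟨P, hP⟩ := h.sylow
  have hPS : (P : Subgroup G) = h.S := hP
  have hM2 : IsPGroup 2 M := fun m => by
    obtain ⟨k, hk⟩ := hN.two ⟨_, hsq m m.2⟩
    refine ⟨k + 1, Subtype.ext ?_⟩
    have hk' : ((m : G) * m) ^ 2 ^ k = 1 := congrArg Subtype.val hk
    rw [pow_succ', pow_mul, SubgroupClass.coe_pow, SubgroupClass.coe_pow, sq, hk',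
      Subgroup.coe_one]
  have hnormS : h.S ≤ Subgroup.normalizer (M : Set G) := fun a ha =>
    Subgroup.mem_normalizer_iff.2 fun x => ⟨hM a (hK1 (h.S_le_M₁ ha)) x, fun hx => by
      simpa [mul_assoc] using hM a⁻¹ (inv_mem (hK1 (h.S_le_M₁ ha))) _ hx⟩
  have h2 : IsPGroup 2 ↥(h.S ⊔ M) := h.S_two.to_sup_of_normal_right' hM2 hnormS
  have hMS : M ≤ h.S := by
    have := P.3 h2 (hPS ▸ le_sup_left)
    rw [hPS] at this
    exact le_sup_right.trans this.le
  have hMR : M ≤ R := h.s3sub.le_core hMS fun m hm n hn => hM m (hK1 hm) n hn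
  have hMfix : ∀ r ∈ R, (r⁻¹ * (s * r * s⁻¹) ∈ M) → r ∈ M := by
    intro r hr he
    obtain ⟨n, hn, hc⟩ := exists_fixed h.ctx.s_cube
      (fun h3 => h.rs.three (h3.trans (Subgroup.card_dvd_of_le hMR))) (hM s (hK1 h.s_mem_M₁)) he
    have : r * n ∈ M := by
      rcases h.rs.fixed (mul_mem hr (hMR hn)) hc with e | e <;> rw [e]
      · exact one_mem M
      · exact hNM hN.mem
    exact (Subgroup.mul_mem_cancel_right M hn).1 this
  -- the index of `M` in `R` is two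
  have hcard : 2 * Nat.card M = Nat.card R := by
    have h1 := card_sylow_over P (hPS ▸ h.S_le_M₁.trans hK1) (hPS ▸ hMS) (t := 4) (m := 15)
      (by rw [hi]) ⟨2, rfl⟩ (by norm_num)
    rw [hPS] at h1
    have := h.card_S
    omega
  obtain ⟨r, hr, hrM⟩ : ∃ r ∈ R, r ∉ M := Set.not_subset.1 fun hle => by
    have := Subgroup.card_le_of_le (show R ≤ M from hle)
    have := Nat.card_pos (α := M)
    omega
  have hidx : (M.subgroupOf R).index = 2 := by
    have h1 := (M.subgroupOf R).card_mul_index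
    rw [Nat.card_congr (Subgroup.subgroupOfEquivOfLe hMR).toEquiv, ← hcard, mul_comm 2] at h1
    exact mul_left_cancel₀ Nat.card_pos.ne' h1
  refine hrM (hMfix r hr ?_)
  refine (Subgroup.mul_mem_iff_of_index_two hidx (a := (⟨r, hr⟩ : R)⁻¹)
    (b := ⟨s * r * s⁻¹, h.rs.act r hr⟩)).2
    ⟨fun e => absurd (inv_mem_iff.1 e) hrM, fun e => absurd ?_ hrM⟩
  have := hM s⁻¹ (inv_mem (hK1 h.s_mem_M₁)) _ e
  simpa [mul_assoc] using this

/-- A normal 2-subgroup containing `z` of both parabolics. -/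
theorem card_le_of_core {M₂ T N : Subgroup G} (h2 : S3Sub M₂ h.S T) (hTR : T ≠ R) (hNS : N ≤ h.S)
    (hN1 : ∀ m ∈ h.M₁, ∀ n ∈ N, m * n * m⁻¹ ∈ N) (hN2 : ∀ m ∈ M₂, ∀ n ∈ N, m * n * m⁻¹ ∈ N)
    (hz : z ∈ N) : Nat.card R ≤ 32 := by
  classical
  set K := Subgroup.normalizer (N : Set G) with hK
  have hnorm : ∀ k ∈ K, ∀ n ∈ N, k * n * k⁻¹ ∈ N := fun k hk n hn =>
    (Subgroup.mem_normalizer_iff.1 hk n).1 hn
  have toK : ∀ {M : Subgroup G}, (∀ m ∈ M, ∀ n ∈ N, m * n * m⁻¹ ∈ N) → M ≤ K := fun hM m hm =>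
    Subgroup.mem_normalizer_iff.2 fun n => ⟨hM m hm n, fun hn => by
      simpa [mul_assoc] using hM m⁻¹ (inv_mem hm) _ hn⟩
  have hNR : N ≤ R := h.s3sub.le_core hNS hN1
  have hN : TwoR z s N :=
    { ctx := h.ctx
      two := h.rs.two.to_le hNR
      mem := hz
      central := fun n hn => h.rs.central n (hNR hn)
      act := hN1 s h.s_mem_M₁ }
  have hNK : N ≤ K := Subgroup.le_normalizer
  have hK1 : h.M₁ ≤ K := toK hN1
  have hK2 : M₂ ≤ K := toK hN2
  have hRT : ¬ ∀ k ∈ K, ∀ r ∈ R, k * r * k⁻¹ ∈ R := by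
    intro hall
    refine hTR (Subgroup.eq_of_le_of_card_ge
      (h2.le_core h.R_le_S fun m hm r hr => hall m (hK2 hm) r hr) ?_).symm
    have := h.card_S
    have := h2.cardS
    omega
  rcases h.ctx.local_shape hNK hnorm (hK1 h.s_mem_M₁) hz hN.three
      (fun n hn hc => h.ctx.mem_zpowers_of_fixed hN.three hN.central hn hc) with
    ⟨M, hNM, hMK, hM, hM3, hi⟩ | ⟨M, hNM, hMK, hM, hsq, hi, -⟩ | ⟨hi, hsimp⟩
  · exact absurd (h.index_facts hNK hnorm hN hNR hK1 hMK hM hM3 hi).2.2.2 hRT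
  · exact (h.false_of_sixty hnorm hN hK1 hNM hMK hM hsq hi).elim
  · have hSK : h.S ≤ K := h.S_le_M₁.trans hK1
    have hSC : h.S ≤ K ⊓ Subgroup.centralizer {z} := fun x hx =>
      ⟨hSK hx, Subgroup.mem_centralizer_singleton_iff.2 (h.S_z hx).eq⟩
    obtain ⟨P, hP⟩ := h.sylow
    have hPS : (P : Subgroup G) = h.S := hP
    have hcS : Nat.card h.S = 8 * Nat.card N := by
      rw [← hPS]
      exact card_sylow_over P (hPS ▸ hSK) (hPS ▸ hNS) (m := 21) (by rw [hi]) ⟨3, rfl⟩ (by norm_num)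
    have h8 : 8 ∣ N.relIndex (K ⊓ Subgroup.centralizer {z}) := by
      have h1 : N.relIndex h.S * Nat.card N = Nat.card h.S := by
        rw [mul_comm, ← (N.subgroupOf h.S).card_mul_index,
          Nat.card_congr (Subgroup.subgroupOfEquivOfLe hNS).toEquiv]
        rfl
      rw [hcS] at h1
      have h8' : N.relIndex h.S = 8 := mul_right_cancel₀ Nat.card_pos.ne' h1
      exact h8' ▸ Dvd.intro _ (Subgroup.relIndex_mul_relIndex N h.S _ hNS hSC)
    have hmove : ∃ k ∈ K, ¬ Commute k z := by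
      by_contra hcon
      push Not at hcon
      exact hRT fun k hk => h.normR k (hcon k hk)
    have h8N := h.ctx.card_le_eight_of_168 hN hNK hnorm (hK1 h.s_mem_M₁) hi hsimp h8 hmove
    have := h.card_S
    omega

/-- The bound on the amalgam. -/
theorem card_le_of_amalgam {M₂ T : Subgroup G} (h2 : S3Sub M₂ h.S T) (hTR : T ≠ R)
    (hcore : ∀ N : Subgroup G, N ≤ h.S → (∀ m ∈ h.M₁, ∀ n ∈ N, m * n * m⁻¹ ∈ N) →
      (∀ m ∈ M₂, ∀ n ∈ N, m * n * m⁻¹ ∈ N) → N ≠ ⊥ → Nat.card R ≤ 32) :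
    Nat.card R ≤ 32 := by
  classical
  haveI : Fact (Nat.Prime 2) := ⟨Nat.prime_two⟩
  have h1 := h.s3sub
  have hS : h.M₁ ⊓ M₂ = h.S := by
    have hle : h.S ≤ h.M₁ ⊓ M₂ := le_inf h1.le₂ h2.le₂
    have hd : Nat.card ↥(h.M₁ ⊓ M₂) ∣ 3 * Nat.card h.S :=
      h1.three ▸ Subgroup.card_dvd_of_le inf_le_left
    obtain ⟨c, hc⟩ := Subgroup.card_dvd_of_le hle
    rw [hc, mul_comm 3] at hd
    rcases (Nat.dvd_prime Nat.prime_three).1 (Nat.dvd_of_mul_dvd_mul_left Nat.card_pos hd) with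
      e | e
    · exact (Subgroup.eq_of_le_of_card_ge hle (by rw [hc, e, mul_one])).symm
    · exfalso
      have hcard : Nat.card ↥(h.M₁ ⊓ M₂) = Nat.card h.M₁ := by rw [hc, e, h1.three, mul_comm]
      have hM : h.M₁ ≤ M₂ :=
        inf_eq_left.1 (Subgroup.eq_of_le_of_card_ge inf_le_left hcard.ge)
      have heq : h.M₁ = M₂ := Subgroup.eq_of_le_of_card_ge hM (by rw [h1.three, h2.three])
      refine hTR ((Subgroup.eq_of_le_of_card_ge
        (h2.le_core h.R_le_S (heq ▸ h1.normal)) ?_).symm)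
      have := h.card_S
      have := h2.cardS
      omega
  by_cases hc : ∀ N : Subgroup G, N ≤ h.M₁ ⊓ M₂ → (N.subgroupOf h.M₁).Normal →
      (N.subgroupOf M₂).Normal → N = ⊥
  · have sylow : ∀ {M T' : Subgroup G}, S3Sub M h.S T' →
        ∃ P : Sylow 2 M, (P : Subgroup M) = (h.M₁ ⊓ M₂).subgroupOf M := by
      intro M T' hM
      rw [hS]
      have hidx : (h.S.subgroupOf M).index = 3 := by
        have e := (h.S.subgroupOf M).card_mul_index
        rw [Nat.card_congr (Subgroup.subgroupOfEquivOfLe hM.le₂).toEquiv, hM.three, mul_comm 3] at e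
        exact mul_left_cancel₀ Nat.card_pos.ne' e
      exact ⟨(h.S_two.comap_of_injective M.subtype M.subtype_injective).toSylow
        (by rw [show (Subgroup.comap M.subtype h.S).index = 3 from hidx]; norm_num),
        IsPGroup.toSylow_coe _ _⟩
    have h7 := Cfsg.Agent.S2751.result h.M₁ M₂ (sylow h1) (sylow h2) h1.quotient_equiv
      h2.quotient_equiv hc
    rw [hS, h.card_S] at h7
    obtain ⟨k, hk⟩ := IsPGroup.iff_card.1 h.rs.two
    have h3 := h.card_R_mod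
    rw [hk] at h7 h3 ⊢
    have hk6 : k ≤ 6 := by
      by_contra hk7
      have := Nat.pow_le_pow_right (show 1 ≤ 2 by norm_num) (show 7 ≤ k by omega)
      omega
    interval_cases k <;> omega
  · push Not at hc
    obtain ⟨N, hNS, hn1, hn2, hne⟩ := hc
    refine hcore N (hS ▸ hNS) (fun m hm n hn => ?_) (fun m hm n hn => ?_) hne
    · exact hn1.conj_mem ⟨n, (hNS.trans inf_le_left) hn⟩ hn ⟨m, hm⟩
    · exact hn2.conj_mem ⟨n, (hNS.trans inf_le_right) hn⟩ hn ⟨m, hm⟩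

end S3Cfg

end CfsgLib.SelfCentralSix57
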