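import Cfsg.Agent.SelfCentralSix57.TwoSetting

/-!
# An element moving `z` and normalising the centraliser of a second central involution
-/

set_option autoImplicit false
set_option linter.style.haveILetI false
set_option linter.unusedSectionVars false

namespace CfsgLib.SelfCentralSix57

open scoped commutatorElement

universe u

variable {G : Type u} [Group G] [Finite G]

/-- In a Sylow 2-subgroup `S` centralised by `z` with `z` the only central involution, the
centraliser `D` of an involution `a` of index two is normalised by an element of `C(a) \ C(z)`. -/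
theorem exists_moving (hconj : ∀ x y : G, orderOf x = 2 → orderOf y = 2 → IsConj x y) {z a : G}
    (S : Sylow 2 G) (hz : orderOf z = 2) (hzc : ∀ x ∈ (S : Subgroup G), Commute x z)
    (hzS : z ∈ (S : Subgroup G))
    (hZ : ∀ w ∈ (S : Subgroup G), (∀ x ∈ (S : Subgroup G), Commute w x) → w = 1 ∨ w = z)
    (ha : orderOf a = 2) (haS : a ∈ (S : Subgroup G)) (haz : a ≠ z) {D : Subgroup G}
    (hD : ∀ x, x ∈ D ↔ x ∈ (S : Subgroup G) ∧ Commute x a)
    (hD2 : Nat.card (S : Subgroup G) = 2 * Nat.card D) :
    ∃ g : G, Commute g a ∧ ¬ Commute g z ∧ (∀ x, g * x * g⁻¹ ∈ D ↔ x ∈ D) ∧ g * g ∈ D := by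
  classical
  haveI : Fact (Nat.Prime 2) := ⟨Nat.prime_two⟩
  set C := Subgroup.centralizer ({a} : Set G) with hC
  have hDC : D ≤ C := fun x hx => Subgroup.mem_centralizer_singleton_iff.2 ((hD x).1 hx).2.eq
  obtain ⟨g0, hg0⟩ := isConj_iff.1 (hconj z a hz ha)
  have hSC : (S : Subgroup G).map (MulAut.conj g0).toMonoidHom ≤ C := by
    rintro _ ⟨x, hx, rfl⟩
    refine Subgroup.mem_centralizer_singleton_iff.2 ?_
    simp only [MulEquiv.coe_toMonoidHom, MulAut.conj_apply]
    rw [← hg0]
    exact ((hzc x hx).map (MulAut.conj g0).toMonoidHom).eq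
  obtain ⟨P, hP⟩ := ((S.2.to_le (show D ≤ (S : Subgroup G) from fun x hx => ((hD x).1 hx).1)).comap_of_injective
    C.subtype C.subtype_injective).exists_le_sylow
  set T : Subgroup G := (P : Subgroup C).map C.subtype with hT
  have hDT : D ≤ T := fun x hx => ⟨⟨x, hDC hx⟩, hP hx, rfl⟩
  have hT2 : IsPGroup 2 T := P.2.map _
  have hcard : Nat.card T = Nat.card (S : Subgroup G) := by
    obtain ⟨Q, hQ⟩ := hT2.exists_le_sylow
    refine le_antisymm ((Subgroup.card_le_of_le hQ).trans
      (le_of_eq (Nat.card_congr (Q.equiv S).toEquiv))) ?_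
    have h1 : Nat.card (S : Subgroup G) ∣ Nat.card C := by
      rw [← Subgroup.card_map_of_injective (f := (MulAut.conj g0).toMonoidHom)
        (MulAut.conj g0).injective]
      exact Subgroup.card_dvd_of_le hSC
    obtain ⟨k, hk⟩ := IsPGroup.iff_card.1 S.2
    rw [hk] at h1 ⊢
    rw [hT, Subgroup.card_map_of_injective C.subtype_injective]
    exact Nat.le_of_dvd Nat.card_pos (P.pow_dvd_card_of_pow_dvd_card h1)
  have hT2D : Nat.card T = 2 * Nat.card D := hcard.trans hD2
  obtain ⟨g, hg, hgD⟩ : ∃ g ∈ T, g ∉ D := Set.not_subset.1 fun hle => by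
    have := Subgroup.card_le_of_le (show T ≤ D from hle)
    have := Nat.card_pos (α := D)
    omega
  have hTC : ∀ x ∈ T, Commute x a := by
    rintro _ ⟨x, -, rfl⟩
    exact Subgroup.mem_centralizer_singleton_iff.1 x.2
  refine ⟨g, hTC g hg, fun hgz => ?_, fun x => ⟨fun hx => ?_, fun hx =>
    conj_mem_of_index_two hDT hT2D hg hx⟩, mul_mem_of_index_two hDT hT2D hg hg hgD hgD⟩
  · -- otherwise `a` and `z` are both central in a Sylow subgroup
    have hTz : ∀ x ∈ T, Commute x z := by
      intro x hx
      by_cases hxD : x ∈ D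
      · exact hzc x ((hD x).1 hxD).1
      · have h1 := mul_mem_of_index_two hDT hT2D hx hg hxD hgD
        have h2 := (hzc _ ((hD _).1 h1).1).mul_left hgz.inv_left
        rwa [mul_inv_cancel_right] at h2
    obtain ⟨Q, hQ⟩ := hT2.exists_le_sylow
    have hQT : T = (Q : Subgroup G) := Subgroup.eq_of_le_of_card_ge hQ (by
      rw [hcard]; exact (Nat.card_congr (Q.equiv S).toEquiv).le)
    obtain ⟨n, hn⟩ := MulAction.exists_smul_eq G S Q
    have hmem : ∀ v : G, v ∈ T → (∀ x ∈ T, Commute x v) → v ≠ 1 → n⁻¹ * v * n = z := by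
      intro v hv hvc hv1
      have hmQ : ∀ x, x ∈ (Q : Subgroup G) ↔ n⁻¹ * x * n ∈ (S : Subgroup G) := fun x => by
        rw [← hn, Sylow.coe_subgroup_smul, Subgroup.mem_pointwise_smul_iff_inv_smul_mem]
        simp
      refine (hZ _ ((hmQ v).1 (hQT ▸ hv)) fun x hx => ?_).resolve_left fun e => hv1 ?_
      · have h1 : n * x * n⁻¹ ∈ T := by
          rw [hQT, hmQ]
          simpa [mul_assoc] using hx
        have h2 := (hvc _ h1).symm.map (MulAut.conj n⁻¹).toMonoidHom
        simpa [mul_assoc] using h2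
      · have := congrArg (fun w => n * w * n⁻¹) e
        simpa [mul_assoc] using this
    have haT : a ∈ T := hDT ((hD a).2 ⟨haS, Commute.refl a⟩)
    have hzT : z ∈ T := hDT ((hD z).2 ⟨hzS, (hzc a haS).symm⟩)
    have e1 := hmem a haT hTC fun h => by
      rw [h, orderOf_one] at ha
      omega
    have e2 := hmem z hzT hTz fun h => by
      rw [h, orderOf_one] at hz
      omega
    exact haz (mul_left_cancel (mul_right_cancel (e1.trans e2.symm)))
  · have := conj_mem_of_index_two hDT hT2D (inv_mem hg) hx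
    simpa [mul_assoc] using this

end CfsgLib.SelfCentralSix57
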