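import Cfsg.Agent.SelfCentralSix57.FixMod
import Cfsg.Agent.SelfCentralSix57.CoreBound
import Cfsg.Agent.SelfCentralSix57.Moving

/-!
# When the centre of `R` is `⟨z⟩` its order is at most thirty-two
-/

set_option autoImplicit false
set_option linter.style.haveILetI false
set_option linter.unusedSectionVars false

namespace CfsgLib.SelfCentralSix57

open scoped commutatorElement

universe u

variable {G : Type u} [Group G] [Finite G]

namespace Ctx

variable {z s : G} (c : Ctx z s)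
include c

/-- An element of order three of `C(z)` centralises no other involution of `C(z)`. -/
theorem eq_of_commute_three {d a : G} (hd : d ^ 3 = 1) (hd1 : d ≠ 1) (hdz : Commute d z)
    (ha : orderOf a = 2) (haz : Commute a z) (hda : Commute d a) : a = z := by
  classical
  haveI : Fact (Nat.Prime 3) := ⟨Nat.prime_three⟩
  set C : Subgroup G := Subgroup.centralizer {z}
  have memC : ∀ {x : G}, x ∈ C ↔ Commute x z := Subgroup.mem_centralizer_singleton_iff
  have hs2 : IsPGroup 3 (Subgroup.zpowers (⟨s, memC.2 c.comm.symm⟩ : C)) :=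
    IsPGroup.of_card (n := 1) (by rw [Nat.card_zpowers, ← Subgroup.orderOf_coe, c.s_ord, pow_one])
  obtain ⟨P, hP⟩ := hs2.exists_le_sylow
  have hPs : (P : Subgroup C) = Subgroup.zpowers (⟨s, memC.2 c.comm.symm⟩ : C) := by
    by_contra hne
    set A := Subgroup.zpowers (⟨s, memC.2 c.comm.symm⟩ : C) with hA
    haveI : Group.IsNilpotent (P : Subgroup C) := P.2.isNilpotent
    have hlt : (A.subgroupOf (P : Subgroup C)) < ⊤ := lt_top_iff_ne_top.2 fun e =>
      hne (le_antisymm (fun x hx => by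
        have := e.ge (Subgroup.mem_top (⟨x, hx⟩ : (P : Subgroup C)))
        exact Subgroup.mem_subgroupOf.1 this) hP)
    obtain ⟨⟨x, hxP⟩, hxn, hxA⟩ := SetLike.exists_of_lt
      (Group.normalizerCondition_of_isNilpotent _ hlt)
    refine hxA (Subgroup.mem_subgroupOf.2 ?_)
    have h1 := (Subgroup.mem_normalizer_iff.1 hxn
      ⟨⟨s, memC.2 c.comm.symm⟩, hP (Subgroup.mem_zpowers _)⟩).1
      (Subgroup.mem_subgroupOf.2 (Subgroup.mem_zpowers _))
    obtain ⟨k, hk⟩ := Subgroup.mem_zpowers_iff.1 (Subgroup.mem_subgroupOf.1 h1)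
    have hk' : s ^ k = (x : G) * s * (x : G)⁻¹ := congrArg Subtype.val hk
    obtain ⟨j, hj⟩ := P.2 ⟨x, hxP⟩
    have hj' : (x : G) ^ 3 ^ j = 1 := congrArg (fun v : (P : Subgroup C) => ((v : C) : G)) hj
    have hx3 : (3 ^ j : ℕ) % 2 = 1 := by
      rw [Nat.pow_mod]; norm_num
    have hxs : Commute (x : G) s := by
      rw [← zpow_mod_orderOf, c.s_ord] at hk'
      have h0 := Int.emod_nonneg k (b := ((3 : ℕ) : ℤ)) (by norm_num)
      have h2 := Int.emod_lt_of_pos k (b := ((3 : ℕ) : ℤ)) (by norm_num)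
      push_cast at hk' h0 h2
      interval_cases h3 : k % (3 : ℤ)
      · rw [zpow_zero] at hk'
        exact absurd (conj_eq_one_iff.1 hk'.symm) c.s_ne
      · rw [zpow_one] at hk'
        exact mul_inv_eq_iff_eq_mul.1 hk'.symm
      · exfalso
        have e : (x : G) * s * (x : G)⁻¹ = s⁻¹ := by
          rw [← hk', zpow_two]
          refine eq_inv_of_mul_eq_one_left ?_
          have := c.s_cube
          rwa [pow_succ, pow_two] at this
        have key : ∀ n : ℕ, n % 2 = 1 → (x : G) ^ n * s * ((x : G) ^ n)⁻¹ = s⁻¹ := by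
          intro n
          induction n using Nat.strong_induction_on with
          | _ n ih =>
            intro hn
            match n with
            | 0 => simp at hn
            | 1 => rw [pow_one]; exact e
            | n + 2 =>
              have h4 := ih n (by omega) (by omega)
              rw [pow_add, sq, show (x : G) ^ n * ((x : G) * x) * s * ((x : G) ^ n * ((x : G) * x))⁻¹ =
                (x : G) ^ n * ((x : G) * ((x : G) * s * (x : G)⁻¹) * (x : G)⁻¹) *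
                  ((x : G) ^ n)⁻¹ by group, e, show (x : G) * s⁻¹ * (x : G)⁻¹ =
                  ((x : G) * s * (x : G)⁻¹)⁻¹ by group, e, inv_inv, h4]
        have h5 := key _ hx3
        rw [hj', one_mul, inv_one, mul_one] at h5
        have h6 : s ^ 2 = 1 := by rw [sq]; nth_rewrite 2 [h5]; exact mul_inv_cancel s
        have h7 := orderOf_dvd_of_pow_eq_one h6
        rw [c.s_ord] at h7
        omega
    have h6 : ¬ 2 ∣ orderOf (x : G) := fun h => by
      have := h.trans (orderOf_dvd_of_pow_eq_one hj')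
      omega
    obtain ⟨i, l, hi, hl, e⟩ := c.cent_cases (memC.1 x.2) hxs
    refine Subgroup.mem_zpowers_iff.2 ⟨(l : ℤ), Subtype.ext ?_⟩
    rw [zpow_natCast, SubgroupClass.coe_pow]
    show s ^ l = (x : G)
    interval_cases i
    · rw [e, pow_zero, one_mul]
    · exfalso
      apply h6
      rw [e, pow_one, (c.comm.pow_right l).orderOf_mul_eq_mul_orderOf_of_coprime
        (Nat.Coprime.coprime_dvd_right (orderOf_pow_dvd l) (by rw [c.z_ord, c.s_ord]; norm_num)),
        c.z_ord]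
      exact dvd_mul_right 2 _
  have hd2 : IsPGroup 3 (Subgroup.zpowers (⟨d, memC.2 hdz⟩ : C)) :=
    IsPGroup.of_card (n := 1) (by
      rw [Nat.card_zpowers, ← Subgroup.orderOf_coe, orderOf_eq_prime hd hd1, pow_one])
  obtain ⟨Q, hQ⟩ := hd2.exists_le_sylow
  obtain ⟨e, he⟩ := MulAction.exists_smul_eq C Q P
  have hed : (e * ⟨d, memC.2 hdz⟩ * e⁻¹ : C) ∈ (P : Subgroup C) := by
    rw [← he, Sylow.coe_subgroup_smul, Subgroup.mem_pointwise_smul_iff_inv_smul_mem]
    simpa [mul_assoc] using hQ (Subgroup.mem_zpowers _)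
  rw [hPs, Subgroup.mem_zpowers_iff] at hed
  obtain ⟨k, hk⟩ := hed
  have hk' : s ^ k = (e : G) * d * (e : G)⁻¹ := congrArg Subtype.val hk
  have hae : Commute ((e : G) * a * (e : G)⁻¹) s := by
    have h1 : Commute ((e : G) * a * (e : G)⁻¹) (s ^ k) := by
      rw [hk']
      exact hda.symm.map (MulAut.conj (e : G)).toMonoidHom
    have hk3 : k % 3 ≠ 0 := fun h0 => by
      rw [← zpow_mod_orderOf, c.s_ord] at hk'
      push_cast at hk'
      rw [h0, zpow_zero] at hk'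
      exact hd1 (conj_eq_one_iff.1 hk'.symm)
    rw [← zpow_mod_orderOf, c.s_ord] at h1
    push_cast at h1
    have h4 := Int.emod_nonneg k (b := (3 : ℤ)) (by norm_num)
    have h5 := Int.emod_lt_of_pos k (b := (3 : ℤ)) (by norm_num)
    interval_cases h3 : k % (3 : ℤ)
    · exact absurd rfl hk3
    · rwa [zpow_one] at h1
    · have h2 := h1.pow_right 2
      rwa [zpow_two, ← sq, ← pow_mul, show 2 * 2 = 3 + 1 from rfl, pow_succ, c.s_cube, one_mul] at h2
  have hez : Commute ((e : G) * a * (e : G)⁻¹) z := by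
    have h1 := haz.map (MulAut.conj (e : G)).toMonoidHom
    simp only [MulEquiv.coe_toMonoidHom, MulAut.conj_apply] at h1
    rwa [(memC.1 e.2).eq, mul_inv_cancel_right] at h1
  rcases c.eq_one_or_z hez hae fun h3 => by
    have : orderOf ((e : G) * a * (e : G)⁻¹) = 2 := by
      simpa using (MulAut.conj (e : G)).orderOf_eq a |>.trans ha
    rw [this] at h3
    omega with h | h
  · rw [conj_eq_one_iff] at h
    rw [h, orderOf_one] at ha
    omega
  · have h1 : (e : G) * a * (e : G)⁻¹ = (e : G) * z * (e : G)⁻¹ := by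
      rw [h, (memC.1 e.2).eq, mul_inv_cancel_right]
    exact mul_left_cancel (mul_right_cancel h1)

end Ctx

namespace S3Cfg

variable {z s u : G} {R W : Subgroup G} (h : S3Cfg z s u R W)
include h

/-- The centre of the Sylow subgroup. -/
theorem center_S (h8 : 8 < Nat.card R) (hZ : ∀ w ∈ R, (∀ r ∈ R, Commute w r) → w = 1 ∨ w = z)
    {w : G} (hw : w ∈ h.S) (hc : ∀ x ∈ h.S, Commute w x) : w = 1 ∨ w = z :=
  hZ w (h.center_mem_R h8 hw hc) fun r hr => hc r (h.R_le_S hr)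

/-- A singular element fixed modulo `⟨z⟩` has commutators in `⟨z⟩` with the Sylow subgroup. -/
theorem comm_fixed {a : G} (ha : a ∈ h.fixMod) (haP : a ∈ h.rs.zTwo) {x : G} (hx : x ∈ h.S) :
    ⁅a, x⁆ = 1 ∨ ⁅a, x⁆ = z := by
  rcases h.mem_S.1 hx with hx | ⟨r, hr, rfl⟩
  · exact haP.2 x hx
  · obtain ⟨haR, ζ, hζ, e⟩ := ha
    have e1 : ⁅a, r * u⁆ = ⁅a, r⁆ * (r * ⁅a, u⁆ * r⁻¹) := by
      simp only [commutatorElement_def]; group
    have e2 : ⁅a, u⁆ = ζ := by
      have h1 : u * a⁻¹ * u⁻¹ = a⁻¹ * ζ := by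
        rw [show u * a⁻¹ * u⁻¹ = (u * a * u⁻¹)⁻¹ by group, e, mul_inv_rev,
          inv_eq_of_mul_eq_one_right (h.rs.sq_z hζ), ((h.rs.z_comm hζ haR).inv_right).eq]
      rw [commutatorElement_def, mul_assoc a u, mul_assoc a, h1, mul_inv_cancel_left]
    rw [e1, e2, ← (h.rs.z_comm hζ hr).eq, mul_inv_cancel_right]
    exact h.rs.z_mul (haP.2 r hr) hζ

/-- The bound of thirty-two. -/
theorem card_le_of_singular (h8 : 8 < Nat.card R)
    (hZ : ∀ w ∈ R, (∀ r ∈ R, Commute w r) → w = 1 ∨ w = z) {a : G} (ha : a ∈ h.fixMod)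
    (haP : a ∈ h.rs.zTwo) (ha2 : a * a = 1) (ha1 : a ≠ 1) (haz : a ≠ z) :
    Nat.card R = 32 := by
  classical
  haveI : Fact (Nat.Prime 2) := ⟨Nat.prime_two⟩
  haveI : Fact (Nat.Prime 3) := ⟨Nat.prime_three⟩
  obtain ⟨Sy, hSy⟩ := h.sylow
  have hS : (Sy : Subgroup G) = h.S := hSy
  have haR : a ∈ R := haP.1
  have haord : orderOf a = 2 := orderOf_eq_prime (by rw [sq, ha2]) ha1
  obtain ⟨r0, hr0, har0⟩ : ∃ r0 ∈ R, ⁅a, r0⁆ = z := by
    by_contra hcon
    push Not at hcon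
    refine (hZ a haR fun r hr => ?_).elim ha1 haz
    exact commutatorElement_eq_one_iff_commute.1 ((haP.2 r hr).resolve_right (hcon r hr))
  set T : Subgroup G := h.S ⊓ Subgroup.centralizer {a} with hTdef
  have hT : ∀ x, x ∈ T ↔ x ∈ h.S ∧ Commute x a := fun x =>
    ⟨fun hx => ⟨hx.1, Subgroup.mem_centralizer_singleton_iff.1 hx.2⟩,
      fun hx => ⟨hx.1, Subgroup.mem_centralizer_singleton_iff.2 hx.2.eq⟩⟩
  have hTS : T ≤ h.S := fun x hx => hx.1
  have hr0S : r0 ∈ h.S := h.R_le_S hr0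
  have hr0T : r0 ∉ T := fun hm => h.ctx.z_ne
    (har0 ▸ commutatorElement_eq_one_iff_commute.2 ((hT r0).1 hm).2.symm)
  have split : ∀ x ∈ h.S, x ∈ T ∨ x * r0 ∈ T := by
    intro x hx
    rcases h.comm_fixed ha haP hx with e | e
    · exact Or.inl ((hT x).2 ⟨hx, (commutatorElement_eq_one_iff_commute.1 e).symm⟩)
    · refine Or.inr ((hT _).2 ⟨mul_mem hx hr0S, Commute.symm ?_⟩)
      rw [← commutatorElement_eq_one_iff_commute,
        show ⁅a, x * r0⁆ = ⁅a, x⁆ * (x * ⁅a, r0⁆ * x⁻¹) by simp only [commutatorElement_def]; group,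
        e, har0, (h.S_z hx).eq, mul_inv_cancel_right, h.ctx.z_sq]
  have hT2 : Nat.card h.S = 2 * Nat.card T := by
    have hi : (T.subgroupOf h.S).index = 2 := by
      rw [Subgroup.index_eq_two_iff]
      refine ⟨⟨r0, hr0S⟩, fun b => ?_⟩
      rcases split b b.2 with hb | hb
      · refine Or.inr ⟨hb, fun hm => hr0T ?_⟩
        have := mul_mem (inv_mem hb) (show (b : G) * r0 ∈ T from hm)
        rwa [inv_mul_cancel_left] at this
      · refine Or.inl ⟨hb, fun hm => hr0T ?_⟩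
        have := mul_mem (inv_mem (show (b : G) ∈ T from hm)) hb
        rwa [inv_mul_cancel_left] at this
    have h1 := (T.subgroupOf h.S).card_mul_index
    rw [Nat.card_congr (Subgroup.subgroupOfEquivOfLe hTS).toEquiv, hi, mul_comm] at h1
    exact h1.symm
  have hTR : T ≠ R := fun e => hr0T (e.symm ▸ hr0)
  have hrconj : ∀ x ∈ h.S, ∀ t ∈ T, x * t * x⁻¹ ∈ T := fun x hx t ht =>
    conj_mem_of_index_two hTS hT2 hx ht
  have hzT : z ∈ T := (hT z).2 ⟨h.z_mem_S, (h.rs.central a haR).symm⟩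
  have haT : a ∈ T := (hT a).2 ⟨h.R_le_S haR, Commute.refl a⟩
  obtain ⟨g, hga, hgz, hgT, hgg⟩ := exists_moving h.hconj Sy h.ctx.z_ord
    (fun x hx => h.S_z (hS ▸ hx)) (hS.symm ▸ h.z_mem_S)
    (fun w hw hc => h.center_S h8 hZ (hS ▸ hw) fun x hx => hc x (hS.symm ▸ hx))
    haord (hS.symm ▸ h.R_le_S haR) haz (D := T)
    (fun x => by rw [hS]; exact hT x) (by rw [hS]; exact hT2)
  -- central involutions of `T`
  have hr0sq : r0 * r0 ∈ T := mul_mem_of_index_two hTS hT2 hr0S hr0S hr0T hr0T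
  have hE : ∀ w ∈ T, w * w = 1 → (∀ t ∈ T, Commute w t) →
      (w = 1 ∨ w = z) ∨ (w = a ∨ w = z * a) := by
    intro w hw hw2 hwc
    set c := r0 * w * r0⁻¹ * w with hc
    have hw' : r0 * w * r0⁻¹ ∈ T := hrconj r0 hr0S w hw
    have hw'c : ∀ t ∈ T, Commute (r0 * w * r0⁻¹) t := fun t ht => by
      have h1 := (hwc _ (hrconj r0⁻¹ (inv_mem hr0S) t ht)).map (MulAut.conj r0).toMonoidHom
      simpa [mul_assoc] using h1
    have hcc : ∀ t ∈ T, Commute c t := fun t ht => (hw'c t ht).mul_left (hwc t ht)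
    have hcr : Commute c r0 := by
      have h1 : r0 * c * r0⁻¹ = c := by
        calc r0 * c * r0⁻¹ = (r0 * r0) * w * (r0 * r0)⁻¹ * (r0 * w * r0⁻¹) := by rw [hc]; group
          _ = w * (r0 * w * r0⁻¹) := by rw [← (hwc _ hr0sq).eq, mul_inv_cancel_right]
          _ = c := by rw [(hwc _ hw').eq]
      exact (mul_inv_eq_iff_eq_mul.1 h1).symm
    have allS : ∀ v : G, (∀ t ∈ T, Commute v t) → Commute v r0 → ∀ x ∈ h.S, Commute v x := by
      intro v hv hv0 x hx
      rcases split x hx with e | e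
      · exact hv x e
      · have := (hv _ e).mul_right hv0.inv_right
        rwa [mul_inv_cancel_right] at this
    rcases h.center_S h8 hZ (mul_mem (hTS hw') (hTS hw)) (allS c hcc hcr) with e | e
    · refine Or.inl (h.center_S h8 hZ (hTS hw) (allS w hwc ?_))
      have : r0 * w * r0⁻¹ = w := by
        rw [eq_inv_of_mul_eq_one_left e, inv_eq_of_mul_eq_one_right hw2]
      exact (mul_inv_eq_iff_eq_mul.1 this).symm
    · have hwac : ∀ t ∈ T, Commute (w * a) t := fun t ht =>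
        (hwc t ht).mul_left ((hT t).1 ht).2.symm
      have h2 : Commute (w * a) r0 := by
        rw [← commutatorElement_eq_one_iff_commute]
        have ew : ⁅w, r0⁆ = z := by
          have e1 : r0 * w * r0⁻¹ = z * w := by
            rw [← e, mul_assoc _ w w, hw2, mul_one]
          have e2 : r0 * w⁻¹ * r0⁻¹ = w⁻¹ * z := by
            rw [show r0 * w⁻¹ * r0⁻¹ = (r0 * w * r0⁻¹)⁻¹ by group, e1, mul_inv_rev, h.ctx.z_inv]
          rw [commutatorElement_def, mul_assoc w r0, mul_assoc w, e2, mul_inv_cancel_left]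
        rw [show ⁅w * a, r0⁆ = w * ⁅a, r0⁆ * w⁻¹ * ⁅w, r0⁆ by
          simp only [commutatorElement_def]; group, har0, ew, (h.S_z (hTS hw)).eq,
          mul_inv_cancel_right, h.ctx.z_sq]
      have e3 : w = w * a * a := by rw [mul_assoc, ha2, mul_one]
      rcases h.center_S h8 hZ (mul_mem (hTS hw) (hTS haT)) (allS _ hwac h2) with e4 | e4
      · exact Or.inr (Or.inl (by rw [e3, e4, one_mul]))
      · exact Or.inr (Or.inr (by rw [e3, e4]))
  have hgz2 : g * z * g⁻¹ = z * a := by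
    have hgc : ∀ t ∈ T, Commute (g * z * g⁻¹) t := by
      intro t ht
      have h1 : g⁻¹ * t * g ∈ T := (hgT _).1 (by simpa [mul_assoc] using ht)
      have h2 := (h.S_z (hTS h1)).symm.map (MulAut.conj g).toMonoidHom
      simpa [mul_assoc] using h2
    rcases hE _ ((hgT z).2 hzT) (by
        rw [show g * z * g⁻¹ * (g * z * g⁻¹) = g * (z * z) * g⁻¹ by group, h.ctx.z_sq]; group)
      hgc with (e | e) | (e | e)
    · exact absurd (conj_eq_one_iff.1 e) h.ctx.z_ne
    · exact absurd (mul_inv_eq_iff_eq_mul.1 e) hgz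
    · refine absurd ?_ haz.symm
      have e1 : g * z * g⁻¹ = g * a * g⁻¹ := by rw [e, hga.eq, mul_inv_cancel_right]
      exact mul_left_cancel (mul_right_cancel e1)
    · exact e
  have hr0a : r0 * a * r0⁻¹ = z * a := by
    have : a * r0 * a⁻¹ * r0⁻¹ = z := by rw [← commutatorElement_def]; exact har0
    have e1 : r0 * a⁻¹ * r0⁻¹ = a⁻¹ * z := by rw [← this]; group
    rw [inv_eq_of_mul_eq_one_right ha2] at e1
    rw [e1, h.rs.central a haR |>.eq]
  have hr0z : r0 * z * r0⁻¹ = z := by rw [(h.rs.central r0 hr0).eq, mul_inv_cancel_right]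
  -- the normaliser of `T`
  set NT : Subgroup G := Subgroup.normalizer (T : Set G) with hNT
  have hSN : h.S ≤ NT := fun x hx => Subgroup.mem_normalizer_iff.2 fun t => ⟨hrconj x hx t,
    fun ht => by simpa [mul_assoc] using hrconj x⁻¹ (inv_mem hx) _ ht⟩
  have hgN : g ∈ NT := Subgroup.mem_normalizer_iff.2 fun t => (hgT t).symm
  set y0 := r0 * g with hy0
  have hy0N : y0 ∈ NT := mul_mem (hSN hr0S) hgN
  have hy0z : y0 * z * y0⁻¹ = a := by
    calc y0 * z * y0⁻¹ = r0 * (g * z * g⁻¹) * r0⁻¹ := by rw [hy0]; group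
      _ = (r0 * z * r0⁻¹) * (r0 * a * r0⁻¹) := by rw [hgz2]; group
      _ = a := by rw [hr0z, hr0a, ← mul_assoc, h.ctx.z_sq, one_mul]
  have hy0a : y0 * a * y0⁻¹ = z * a := by
    calc y0 * a * y0⁻¹ = r0 * (g * a * g⁻¹) * r0⁻¹ := by rw [hy0]; group
      _ = _ := by rw [hga.eq, mul_inv_cancel_right, hr0a]
  have hy0za : y0 * (z * a) * y0⁻¹ = z := by
    rw [show y0 * (z * a) * y0⁻¹ = (y0 * z * y0⁻¹) * (y0 * a * y0⁻¹) by group, hy0z, hy0a,
      ← mul_assoc, h.rs.central a haR |>.eq, mul_assoc, ha2, mul_one]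
  -- the kernel of the action on `⟨z, a⟩`
  set K0 : Subgroup G := NT ⊓ Subgroup.centralizer {z} ⊓ Subgroup.centralizer {a} with hK0
  have memK : ∀ {x : G}, x ∈ K0 ↔ x ∈ NT ∧ Commute x z ∧ Commute x a := fun {x} =>
    ⟨fun hx => ⟨hx.1.1, Subgroup.mem_centralizer_singleton_iff.1 hx.1.2,
      Subgroup.mem_centralizer_singleton_iff.1 hx.2⟩, fun hx => ⟨⟨hx.1,
      Subgroup.mem_centralizer_singleton_iff.2 hx.2.1.eq⟩,
      Subgroup.mem_centralizer_singleton_iff.2 hx.2.2.eq⟩⟩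
  have hfix : ∀ x ∈ NT, x * z * x⁻¹ = z → x * a * x⁻¹ = a → x ∈ K0 := fun x hx e1 e2 =>
    memK.2 ⟨hx, mul_inv_eq_iff_eq_mul.1 e1, mul_inv_eq_iff_eq_mul.1 e2⟩
  have hK3 : ¬ 3 ∣ Nat.card K0 := fun h3 => by
    obtain ⟨d, hd⟩ := exists_prime_orderOf_dvd_card' 3 h3
    obtain ⟨-, hdz, hda⟩ := memK.1 d.2
    have hd' : orderOf (d : G) = 3 := by rw [Subgroup.orderOf_coe, hd]
    exact haz (h.ctx.eq_of_commute_three (by rw [← hd', pow_orderOf_eq_one])
      (fun e => by rw [e, orderOf_one] at hd'; omega) hdz haord (h.rs.central a haR) hda)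
  have cube : y0 ^ 3 ∈ K0 := by
    refine hfix _ (pow_mem hy0N 3) ?_ ?_
    · rw [show y0 ^ 3 * z * (y0 ^ 3)⁻¹ = y0 * (y0 * (y0 * z * y0⁻¹) * y0⁻¹) * y0⁻¹ by
        simp only [pow_succ, pow_zero, one_mul]; group, hy0z, hy0a, hy0za]
    · rw [show y0 ^ 3 * a * (y0 ^ 3)⁻¹ = y0 * (y0 * (y0 * a * y0⁻¹) * y0⁻¹) * y0⁻¹ by
        simp only [pow_succ, pow_zero, one_mul]; group, hy0a, hy0za, hy0z]
  obtain ⟨i, m, hm3, hym⟩ := Nat.exists_eq_pow_mul_and_not_dvd (orderOf_pos y0).ne' 3 (by norm_num)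
  set y := y0 ^ m with hy
  have hyN : y ∈ NT := pow_mem hy0N m
  have hyfix : ¬ Commute y z := by
    intro hc
    have h1 : y0 ^ (m % 3) * z * (y0 ^ (m % 3))⁻¹ = z := by
      have hk : (y0 ^ 3) ^ (m / 3) ∈ K0 := pow_mem cube _
      have e : y = y0 ^ (m % 3) * (y0 ^ 3) ^ (m / 3) := by
        rw [hy, ← pow_mul, ← pow_add, Nat.mod_add_div]
      calc y0 ^ (m % 3) * z * (y0 ^ (m % 3))⁻¹
          = y0 ^ (m % 3) * ((y0 ^ 3) ^ (m / 3) * z * ((y0 ^ 3) ^ (m / 3))⁻¹) *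
            (y0 ^ (m % 3))⁻¹ := by rw [(memK.1 hk).2.1.eq, mul_inv_cancel_right]
        _ = y * z * y⁻¹ := by rw [e]; group
        _ = z := by rw [hc.eq, mul_inv_cancel_right]
    have hm : m % 3 = 1 ∨ m % 3 = 2 := by omega
    rcases hm with e | e <;> rw [e] at h1
    · rw [pow_one, hy0z] at h1; exact haz h1
    · rw [show y0 ^ 2 * z * (y0 ^ 2)⁻¹ = y0 * (y0 * z * y0⁻¹) * y0⁻¹ by
        rw [sq]; group, hy0z, hy0a] at h1
      exact ha1 (mul_eq_left.1 h1)
  have hy3 : y ^ 3 = 1 := by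
    have hk : y ^ 3 ∈ K0 := by rw [hy, ← pow_mul, mul_comm, pow_mul]; exact pow_mem cube _
    have hp : (y ^ 3) ^ 3 ^ i = 1 := by
      rw [hy, ← pow_mul, ← pow_mul, show m * (3 * 3 ^ i) = 3 ^ i * m * 3 by ring, ← hym, pow_mul,
        pow_orderOf_eq_one, one_pow]
    refine orderOf_eq_one_iff.1 (Nat.eq_one_of_dvd_coprimes ?_ (orderOf_dvd_of_pow_eq_one hp)
      (Subgroup.orderOf_dvd_natCard K0 hk))
    exact ((Nat.prime_three.coprime_iff_not_dvd).2 hK3).pow_left i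
  have hy1 : y ≠ 1 := fun e => hyfix (e ▸ Commute.one_left z)
  have hyord : orderOf y = 3 := orderOf_eq_prime hy3 hy1
  have hEN : ∀ x ∈ NT, (x * z * x⁻¹ = z ∨ x * z * x⁻¹ = a ∨ x * z * x⁻¹ = z * a) ∧
      (x * a * x⁻¹ = z ∨ x * a * x⁻¹ = a ∨ x * a * x⁻¹ = z * a) := by
    intro x hx
    have key : ∀ e ∈ T, e * e = 1 → e ≠ 1 → (∀ t ∈ T, Commute e t) →
        x * e * x⁻¹ = z ∨ x * e * x⁻¹ = a ∨ x * e * x⁻¹ = z * a := by
      intro e he he2 he1 hec
      have hc : ∀ t ∈ T, Commute (x * e * x⁻¹) t := fun t ht => by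
        have h1 := (hec _ ((Subgroup.mem_normalizer_iff.1 (inv_mem hx) t).1 ht)).map
          (MulAut.conj x).toMonoidHom
        simpa [mul_assoc] using h1
      rcases hE _ ((Subgroup.mem_normalizer_iff.1 hx e).1 he) (by
          rw [show x * e * x⁻¹ * (x * e * x⁻¹) = x * (e * e) * x⁻¹ by group, he2]; group) hc with
        (q | q) | (q | q)
      · exact absurd (conj_eq_one_iff.1 q) he1
      · exact Or.inl q
      · exact Or.inr (Or.inl q)
      · exact Or.inr (Or.inr q)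
    exact ⟨key z hzT h.ctx.z_sq h.ctx.z_ne fun t ht => (h.S_z (hTS ht)).symm,
      key a haT ha2 ha1 fun t ht => ((hT t).1 ht).2.symm⟩
  have hKn : ∀ x ∈ NT, ∀ k ∈ K0, x * k * x⁻¹ ∈ K0 := by
    intro x hx k hk
    obtain ⟨hkN, hkz, hka⟩ := memK.1 hk
    have hkza : Commute k (z * a) := hkz.mul_right hka
    have key : ∀ e : G, (e = z ∨ e = a ∨ e = z * a) → Commute k e := by
      rintro e (rfl | rfl | rfl) <;> assumption
    have cxe : ∀ e : G, Commute k (x⁻¹ * e * x) → Commute (x * k * x⁻¹) e := fun e he => by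
      have := he.map (MulAut.conj x).toMonoidHom
      simpa [mul_assoc] using this
    refine memK.2 ⟨mul_mem (mul_mem hx hkN) (inv_mem hx), cxe z (key _ ?_), cxe a (key _ ?_)⟩
    · simpa using (hEN x⁻¹ (inv_mem hx)).1
    · simpa using (hEN x⁻¹ (inv_mem hx)).2
  -- an element inverting a conjugate of `y`
  set J := K0 ⊔ Subgroup.zpowers y with hJ
  have hyK : ∀ k ∈ K0, y * k * y⁻¹ ∈ K0 := hKn y hyN
  have hyr : r0 * y * r0⁻¹ * y ∈ K0 := by
    have hm : m % 3 = 1 ∨ m % 3 = 2 := by omega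
    have hk : (y0 ^ 3) ^ (m / 3) ∈ K0 := pow_mem cube _
    have e : y = y0 ^ (m % 3) * (y0 ^ 3) ^ (m / 3) := by
      rw [hy, ← pow_mul, ← pow_add, Nat.mod_add_div]
    -- it suffices to look at the action
    have act : ∀ x ∈ ({z, a} : Set G), ∀ j : ℕ, y0 ^ j * x * (y0 ^ j)⁻¹ ∈ ({z, a, z * a} : Set G) := by
      intro x hx j
      induction j with
      | zero => rcases hx with rfl | rfl <;> simp
      | succ j ih =>
        rw [pow_succ', show y0 * y0 ^ j * x * (y0 * y0 ^ j)⁻¹ = y0 * (y0 ^ j * x * (y0 ^ j)⁻¹) * y0⁻¹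
          by group]
        rcases ih with e' | e' | e' <;> rw [e'] <;> simp [hy0z, hy0a, hy0za]
    have hkey : ∀ x : G, Commute ((y0 ^ 3) ^ (m / 3)) x →
        y * x * y⁻¹ = y0 ^ (m % 3) * x * (y0 ^ (m % 3))⁻¹ := fun x hx => by
      rw [e]
      calc y0 ^ (m % 3) * (y0 ^ 3) ^ (m / 3) * x * (y0 ^ (m % 3) * (y0 ^ 3) ^ (m / 3))⁻¹
          = y0 ^ (m % 3) * ((y0 ^ 3) ^ (m / 3) * x * ((y0 ^ 3) ^ (m / 3))⁻¹) *
            (y0 ^ (m % 3))⁻¹ := by group
        _ = _ := by rw [hx.eq, mul_inv_cancel_right]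
    obtain ⟨-, hkz, hka⟩ := memK.1 hk
    have y_z := hkey z hkz
    have y_a := hkey a hka
    have y_za := hkey (z * a) (hkz.mul_right hka)
    have hr0za : r0 * (z * a) * r0⁻¹ = a := by
      rw [show r0 * (z * a) * r0⁻¹ = (r0 * z * r0⁻¹) * (r0 * a * r0⁻¹) by group, hr0z, hr0a,
        ← mul_assoc, h.ctx.z_sq, one_mul]
    have hri : ∀ x : G, r0⁻¹ * x * r0 = r0⁻¹ * x * r0⁻¹⁻¹ := fun x => by rw [inv_inv]
    have ri_z : r0⁻¹ * z * r0 = z := by (conv_lhs => rw [← hr0z]); group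
    have ri_a : r0⁻¹ * a * r0 = z * a := by (conv_lhs => rw [← hr0za]); group
    have ri_za : r0⁻¹ * (z * a) * r0 = a := by (conv_lhs => rw [← hr0a]); group
    refine hfix _ (mul_mem (mul_mem (mul_mem (hSN hr0S) hyN) (inv_mem (hSN hr0S))) hyN) ?_ ?_ <;>
      rw [show ∀ x : G, r0 * y * r0⁻¹ * y * x * (r0 * y * r0⁻¹ * y)⁻¹ =
        r0 * (y * (r0⁻¹ * (y * x * y⁻¹) * r0) * y⁻¹) * r0⁻¹ from fun x => by group] <;>
      rcases hm with hm | hm <;>
      simp only [hm, pow_one, sq, show ∀ x : G, y0 * y0 * x * (y0 * y0)⁻¹ =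
        y0 * (y0 * x * y0⁻¹) * y0⁻¹ from fun x => by group, hy0z, hy0a, hy0za] at y_z y_a y_za <;>
      simp only [y_z, y_a, y_za, ri_z, ri_a, ri_za, hr0z, hr0a, hr0za]
  have hy3K : y ^ 3 ∈ K0 := by rw [hy3]; exact one_mem K0
  have hynK : y ∉ K0 := fun hm => hyfix (memK.1 hm).2.1
  have hrJ : r0 * y * r0⁻¹ ∈ J := by
    have := mul_mem ((le_sup_left : K0 ≤ J) hyr)
      (inv_mem ((le_sup_right : _ ≤ J) (Subgroup.mem_zpowers y)))
    rwa [mul_inv_cancel_right] at this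
  have hJcard : Nat.card J = 3 * Nat.card K0 := card_sup_three hyK hy3K hynK
  have sylow3 : ∀ x : G, x ∈ J → orderOf x = 3 → ∃ P : Sylow 3 J,
      (P : Subgroup J).map J.subtype = Subgroup.zpowers x := by
    intro x hx hord
    have hle : Subgroup.zpowers x ≤ J := Subgroup.zpowers_le.2 hx
    have hp : IsPGroup 3 ((Subgroup.zpowers x).subgroupOf J) :=
      IsPGroup.of_card (n := 1) (by
        rw [Nat.card_congr (Subgroup.subgroupOfEquivOfLe hle).toEquiv, Nat.card_zpowers, hord,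
          pow_one])
    refine ⟨hp.toSylow ?_, ?_⟩
    · intro h3
      have h1 := ((Subgroup.zpowers x).subgroupOf J).card_mul_index
      rw [Nat.card_congr (Subgroup.subgroupOfEquivOfLe hle).toEquiv, Nat.card_zpowers, hord,
        hJcard] at h1
      exact hK3 (mul_left_cancel₀ (by norm_num) h1 ▸ h3)
    · rw [IsPGroup.toSylow_coe, Subgroup.map_subgroupOf_eq_of_le hle]
  have hryord : orderOf (r0 * y * r0⁻¹) = 3 := by
    simpa using (MulAut.conj r0).orderOf_eq y |>.trans hyord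
  obtain ⟨P1, hP1⟩ := sylow3 y ((le_sup_right : _ ≤ J) (Subgroup.mem_zpowers y)) hyord
  obtain ⟨P2, hP2⟩ := sylow3 _ hrJ hryord
  obtain ⟨c, hc⟩ := MulAction.exists_smul_eq J P2 P1
  have hcy : (c : G) * (r0 * y * r0⁻¹) * (c : G)⁻¹ ∈ Subgroup.zpowers y := by
    obtain ⟨v, hv, e⟩ := hP2.ge (Subgroup.mem_zpowers (r0 * y * r0⁻¹))
    refine hP1.le ⟨c * v * c⁻¹, ?_, ?_⟩
    · rw [← hc, Sylow.coe_subgroup_smul, SetLike.mem_coe,
        Subgroup.mem_pointwise_smul_iff_inv_smul_mem]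
      simp [mul_assoc]
      exact hv
    · show (c : G) * (v : G) * (c : G)⁻¹ = _
      rw [← e]; rfl
  have hinv : (c : G) * (r0 * y * r0⁻¹) * (c : G)⁻¹ = y⁻¹ := by
    haveI hJn : (K0.subgroupOf J).Normal := ⟨fun v hv q => by
      rw [Subgroup.mem_subgroupOf] at hv ⊢
      exact hKn q ((sup_le (fun k hk => (memK.1 hk).1) (Subgroup.zpowers_le.2 hyN) : J ≤ NT) q.2)
        v hv⟩
    obtain ⟨k, hk, j, hj⟩ := (mem_sup_zpowers hyK).1 c.2
    obtain ⟨l, hl⟩ := (Subgroup.mem_zpowers_iff).1 hcy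
    set π := QuotientGroup.mk' (K0.subgroupOf J)
    have hyJ : y ∈ J := (le_sup_right : _ ≤ J) (Subgroup.mem_zpowers y)
    set q := π ⟨y, hyJ⟩ with hq
    have hmem : ∀ (v : G) (hv : v ∈ J), π ⟨v, hv⟩ = 1 ↔ v ∈ K0 := fun v hv => by
      rw [QuotientGroup.mk'_apply, QuotientGroup.eq_one_iff, Subgroup.mem_subgroupOf]
    have hr : π ⟨r0 * y * r0⁻¹, hrJ⟩ = q⁻¹ := by
      refine eq_inv_of_mul_eq_one_left ?_
      rw [hq, ← map_mul]
      exact (hmem _ (mul_mem hrJ hyJ)).2 hyr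
    have hcq : π c = q ^ j := by
      rw [show c = ⟨k, (le_sup_left : K0 ≤ J) hk⟩ * ⟨y, hyJ⟩ ^ j from Subtype.ext (by simpa using hj),
        map_mul, (hmem k _).2 hk, one_mul, map_pow]
    have h1 : π (c * ⟨r0 * y * r0⁻¹, hrJ⟩ * c⁻¹) = q⁻¹ := by
      rw [map_mul, map_mul, map_inv, hcq, hr]; group
    have h2 : π (c * ⟨r0 * y * r0⁻¹, hrJ⟩ * c⁻¹) = q ^ l := by
      rw [hq, ← map_zpow]
      exact congrArg π (Subtype.ext (by simpa using hl.symm))
    have h3 : q ^ (l + 1) = 1 := by rw [zpow_add_one, ← h2, h1, inv_mul_cancel]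
    have hq3 : orderOf q = 3 := orderOf_eq_prime
      (by rw [hq, ← map_pow]; exact (hmem _ (pow_mem hyJ 3)).2 hy3K)
      fun e => hynK ((hmem y hyJ).1 e)
    have h4 := orderOf_dvd_iff_zpow_eq_one.2 h3
    rw [hq3] at h4
    rw [← hl]
    refine eq_inv_of_mul_eq_one_left ?_
    rw [← zpow_add_one]
    exact orderOf_dvd_iff_zpow_eq_one.1 (hyord ▸ h4)
  have hJN : J ≤ NT := sup_le (fun k hk => (memK.1 hk).1) (Subgroup.zpowers_le.2 hyN)
  set x := (c : G) * r0 with hx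
  have hxN : x ∈ NT := mul_mem (hJN c.2) (hSN hr0S)
  have hxy : x * y * x⁻¹ = y⁻¹ := by rw [hx, ← hinv]; group
  obtain ⟨j, e, he, hje⟩ := Nat.exists_eq_pow_mul_and_not_dvd (orderOf_pos x).ne' 2 (by norm_num)
  set x2 := x ^ e with hx2
  have hx2y : x2 * y * x2⁻¹ = y⁻¹ := by
    have key : ∀ n : ℕ, n % 2 = 1 → x ^ n * y * (x ^ n)⁻¹ = y⁻¹ := by
      intro n
      induction n using Nat.strong_induction_on with
      | _ n ih =>
        intro hn
        match n with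
        | 0 => simp at hn
        | 1 => rw [pow_one]; exact hxy
        | n + 2 =>
          have h4 := ih n (by omega) (by omega)
          rw [pow_add, sq, show x ^ n * (x * x) * y * (x ^ n * (x * x))⁻¹ =
            x ^ n * (x * (x * y * x⁻¹) * x⁻¹) * (x ^ n)⁻¹ by group, hxy,
            show x * y⁻¹ * x⁻¹ = (x * y * x⁻¹)⁻¹ by group, hxy, inv_inv, h4]
    exact key e (by omega)
  have hx2N : x2 ∈ NT := pow_mem hxN e
  have hx2p : IsPGroup 2 ((Subgroup.zpowers x2).subgroupOf NT) := by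
    refine IsPGroup.of_equiv ?_ (Subgroup.subgroupOfEquivOfLe (Subgroup.zpowers_le.2 hx2N)).symm
    obtain ⟨i', -, hi'⟩ := (Nat.dvd_prime_pow Nat.prime_two).1
      (orderOf_dvd_of_pow_eq_one (show x2 ^ 2 ^ j = 1 by
        rw [hx2, ← pow_mul, mul_comm, ← hje, pow_orderOf_eq_one]))
    exact IsPGroup.of_card (n := i') (by rw [Nat.card_zpowers, hi'])
  obtain ⟨Q, hQ⟩ := hx2p.exists_le_sylow
  obtain ⟨n, hn⟩ := MulAction.exists_smul_eq NT Q (Sy.subtype (hS ▸ hSN))
  set r := (n : G) * x2 * (n : G)⁻¹ with hrdef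
  set y' := (n : G) * y * (n : G)⁻¹ with hy'def
  have hrS : r ∈ h.S := by
    have h1 : (n * ⟨x2, hx2N⟩ * n⁻¹ : NT) ∈ (Sy.subtype (hS ▸ hSN) : Subgroup NT) := by
      rw [← hn, Sylow.coe_subgroup_smul, Subgroup.mem_pointwise_smul_iff_inv_smul_mem]
      simpa [mul_assoc] using hQ (Subgroup.mem_subgroupOf.2 (Subgroup.mem_zpowers x2))
    rw [Sylow.coe_subtype, Subgroup.mem_subgroupOf, hS] at h1
    exact h1
  have hry : r * y' * r⁻¹ = y'⁻¹ := by
    rw [hrdef, hy'def, show (n : G) * x2 * (n : G)⁻¹ * ((n : G) * y * (n : G)⁻¹) *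
      ((n : G) * x2 * (n : G)⁻¹)⁻¹ = (n : G) * (x2 * y * x2⁻¹) * (n : G)⁻¹ by group, hx2y]
    group
  have hy'N : y' ∈ NT := mul_mem (mul_mem n.2 hyN) (inv_mem n.2)
  have hy'3 : y' ^ 3 = 1 := by rw [hy'def, conj_pow, hy3]; group
  have hy'K : y' ∉ K0 := fun hm => hynK (by
    simpa [hy'def, mul_assoc] using hKn (n : G)⁻¹ (inv_mem n.2) _ hm)
  have hy'T : y' ∉ T := fun hm => hy'K (memK.2 ⟨hy'N, h.S_z (hTS hm), ((hT y').1 hm).2⟩)
  have hrT : r ∉ T := by
    intro hm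
    have hrK : r ∈ K0 := memK.2 ⟨hSN hrS, h.S_z hrS, ((hT r).1 hm).2⟩
    refine hy'K ?_
    have h1 : r * (y' * r⁻¹ * y'⁻¹) ∈ K0 := mul_mem hrK (hKn y' hy'N _ (inv_mem hrK))
    rw [show r * (y' * r⁻¹ * y'⁻¹) = (r * y' * r⁻¹) * y'⁻¹ by group, hry, ← mul_inv_rev,
      inv_mem_iff] at h1
    have h2 : y' = y' ^ 3 * (y' * y')⁻¹ := by rw [pow_succ, sq]; group
    rw [h2, hy'3, one_mul]
    exact inv_mem h1
  -- the second parabolic
  have hy'n : ∀ t ∈ T, y' * t * y'⁻¹ ∈ T := fun t ht => (Subgroup.mem_normalizer_iff.1 hy'N t).1 ht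
  set Y := T ⊔ Subgroup.zpowers y' with hY
  set M2 := Y ⊔ Subgroup.zpowers r with hM2
  have hy'mem : y' ∈ Y := (le_sup_right : _ ≤ Y) (Subgroup.mem_zpowers y')
  have hYr : ∀ v ∈ Y, r * v * r⁻¹ ∈ Y := by
    intro v hv
    obtain ⟨t, ht, k, rfl⟩ := (mem_sup_zpowers hy'n).1 hv
    have hcp : ∀ v : G, r * (t * v ^ k) * r⁻¹ = (r * t * r⁻¹) * (r * v * r⁻¹) ^ k := fun v => by
      rw [conj_pow]; group
    rw [hcp y', hry]
    exact mul_mem ((le_sup_left : T ≤ Y) (hrconj r hrS t ht)) (pow_mem (inv_mem hy'mem) k)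
  have hrr : r * r ∈ T := mul_mem_of_index_two hTS hT2 hrS hrS hrT hrT
  have hrY : r ∉ Y := by
    intro hm
    rcases (mem_sup_three hy'n (by rw [hy'3]; exact one_mem T)).1 hm with e' | ⟨t, ht, e'⟩ | ⟨t, ht, e'⟩
    · exact hrT e'
    all_goals
      refine hy'T ?_
      have h1 : t⁻¹ * r ∈ h.S := mul_mem (inv_mem (hTS ht)) hrS
      rw [e', inv_mul_cancel_left] at h1
      obtain ⟨q, hq⟩ := h.two_power h1
      have hy'o : orderOf y' = 3 := orderOf_eq_prime hy'3 fun e0 => hy'T (e0 ▸ one_mem T)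
      exfalso
      have hd := orderOf_dvd_of_pow_eq_one hq
      first
        | (rw [hy'o] at hd
           exact absurd (Nat.prime_three.dvd_of_dvd_pow hd) (by norm_num))
        | (rw [← sq, Nat.Coprime.orderOf_pow (by rw [hy'o]; norm_num), hy'o] at hd
           exact absurd (Nat.prime_three.dvd_of_dvd_pow hd) (by norm_num))
  have hSM : T ⊔ Subgroup.zpowers r = h.S :=
    Subgroup.eq_of_le_of_card_ge (sup_le hTS (Subgroup.zpowers_le.2 hrS))
      (by rw [card_sup_two (hrconj r hrS) hrr hrT, hT2])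
  have h2 : S3Sub M2 h.S T :=
    { le₁ := hTS
      le₂ := hSM ▸ sup_le ((le_sup_left : T ≤ Y).trans le_sup_left) le_sup_right
      two := h.S_two
      normal := by
        have hle : M2 ≤ NT := sup_le (sup_le Subgroup.le_normalizer (Subgroup.zpowers_le.2 hy'N))
          (Subgroup.zpowers_le.2 (hSN hrS))
        exact fun v hv t ht => (Subgroup.mem_normalizer_iff.1 (hle hv) t).1 ht
      cardS := hT2
      cardM := by
        rw [hM2, card_sup_two hYr ((le_sup_left : T ≤ Y) hrr) hrY,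
          card_sup_three hy'n (by rw [hy'3]; exact one_mem T) hy'T]
        ring
      gen := ⟨y', (le_sup_left : Y ≤ M2) hy'mem, r, hrS, hy'T, by rw [hy'3]; exact one_mem T, hrT,
        by rw [hry, inv_mul_cancel]; exact one_mem T⟩ }
  have h32 : Nat.card R ≤ 32 := h.card_le_of_amalgam h2 hTR fun N hNS hN1 hN2 hne => by
    obtain ⟨w, hwN, hw2, hwc⟩ := exists_central_involution h.S_two hNS
      (fun v hv q hq => hN1 v (h.S_le_M₁ hv) q hq) hne
    refine h.card_le_of_core h2 hTR hNS hN1 hN2 ?_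
    rcases h.center_S h8 hZ (hNS hwN) hwc with e' | e'
    · rw [e', orderOf_one] at hw2; omega
    · exact e' ▸ hwN
  obtain ⟨k, hk⟩ := IsPGroup.iff_card.1 h.rs.two
  have h3 := h.card_R_mod
  rw [hk] at h8 h32 h3 ⊢
  have : k ≤ 5 := by
    by_contra hk6
    have := Nat.pow_le_pow_right (show 1 ≤ 2 by norm_num) (show 6 ≤ k by omega)
    omega
  interval_cases k <;> omega

end S3Cfg

end CfsgLib.SelfCentralSix57
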