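import Cfsg.Agent.SelfCentralSix57.ExtraFix

/-!
# The centre of `R` is not `⟨z⟩` when `R` has more than eight elements
-/

set_option autoImplicit false
set_option linter.style.haveILetI false
set_option linter.unusedSectionVars false

namespace CfsgLib.SelfCentralSix57

open scoped commutatorElement

universe u

variable {G : Type u} [Group G] [Finite G]

/-- An odd group of order at most fifteen has no three such elements of order three. -/
theorem false_of_three_elements {X : Type u} [Group X] [Finite X] (O : Subgroup X) [O.Normal]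
    (hodd : ¬ 2 ∣ Nat.card O) (h15 : Nat.card O ≤ 15) {o₁ o₂ o₃ i : X} (ho₁ : o₁ ∈ O)
    (ho₂ : o₂ ∈ O) (ho₃ : o₃ ∈ O) (h1 : orderOf o₁ = 3) (h2 : orderOf o₂ = 3)
    (h3 : orderOf o₃ = 3) (hne : o₂ ∉ Subgroup.zpowers o₁) (hi₁ : i * o₁ * i⁻¹ = o₁⁻¹)
    (hi₂ : i * o₂ * i⁻¹ = o₂⁻¹) (hi₃ : i * o₃ * i⁻¹ = o₃) : False := by
  classical
  haveI : Fact (Nat.Prime 3) := ⟨Nat.prime_three⟩
  set a : O := ⟨o₁, ho₁⟩
  set b : O := ⟨o₂, ho₂⟩
  have hoa : orderOf a = 3 := by rw [← Subgroup.orderOf_coe]; exact h1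
  have hob : orderOf b = 3 := by rw [← Subgroup.orderOf_coe]; exact h2
  have hba : b ∉ Subgroup.zpowers a := fun hm => hne (by
    obtain ⟨k, hk⟩ := Subgroup.mem_zpowers_iff.1 hm
    exact Subgroup.mem_zpowers_iff.2 ⟨k, by simpa [a, b] using congrArg Subtype.val hk⟩)
  have hd : 3 ∣ Nat.card O := hoa ▸ orderOf_dvd_natCard a
  have hn3 : Nat.card O ≠ 3 := fun e => hba (by
    have htop : Subgroup.zpowers a = ⊤ :=
      Subgroup.eq_top_of_card_eq _ (by rw [Nat.card_zpowers, hoa, e])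
    exact htop ▸ Subgroup.mem_top b)
  have hpos := Nat.card_pos (α := O)
  have hn : Nat.card O = 9 ∨ Nat.card O = 15 := by omega
  rcases hn with hn | hn
  · -- the group is generated by the two inverted elements
    have hab : ∀ p q : O, p * q = q * p :=
      IsPGroup.commutative_of_card_eq_prime_sq (p := 3) (by rw [hn]; norm_num)
    set H := Subgroup.closure ({a, b} : Set O)
    have hle : Subgroup.zpowers a ≤ H := Subgroup.zpowers_le.2 (Subgroup.subset_closure (Or.inl rfl))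
    have hH : H = ⊤ := by
      have hd' : Nat.card H ∣ 9 := hn ▸ Subgroup.card_subgroup_dvd_card H
      have h4 : 3 < Nat.card H := by
        have h5 := Subgroup.card_le_of_le hle
        rw [Nat.card_zpowers, hoa] at h5
        refine lt_of_le_of_ne h5 fun e => hba ?_
        exact (Subgroup.eq_of_le_of_card_ge hle (by rw [Nat.card_zpowers, hoa, ← e])).ge
          (Subgroup.subset_closure (Or.inr rfl))
      refine Subgroup.eq_top_of_card_eq _ ?_
      rw [hn]
      have := (Nat.dvd_prime_pow Nat.prime_three (m := 2)).1 hd'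
      obtain ⟨k, hk, e⟩ := this
      interval_cases k <;> omega
    have hinv : ∀ p : O, p ∈ H → i * (p : X) * i⁻¹ = (p : X)⁻¹ := by
      intro p hp
      induction hp using Subgroup.closure_induction with
      | mem q hq =>
        rcases hq with rfl | rfl
        · exact hi₁
        · exact hi₂
      | one => simp
      | mul p q _ _ ihp ihq =>
        rw [hab p q, Subgroup.coe_mul, show i * ((q : X) * p) * i⁻¹ = (i * q * i⁻¹) * (i * p * i⁻¹) by
          group, ihp, ihq, ← mul_inv_rev]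
        have := congrArg (fun x : O => (x : X)⁻¹) (hab p q)
        simpa using this
      | inv p _ ihp =>
        rw [Subgroup.coe_inv, show i * (p : X)⁻¹ * i⁻¹ = (i * p * i⁻¹)⁻¹ by group, ihp]
    have h6 := hinv ⟨o₃, ho₃⟩ (hH ▸ Subgroup.mem_top _)
    rw [hi₃] at h6
    have h7 : o₃ ^ 2 = 1 := by rw [sq]; nth_rewrite 2 [h6]; exact mul_inv_cancel o₃
    have := orderOf_dvd_of_pow_eq_one h7
    rw [h3] at this
    omega
  · -- the Sylow subgroup of order three is unique
    refine hba ?_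
    have syl : ∀ p : O, orderOf p = 3 → ∃ Q : Sylow 3 O, (Q : Subgroup O) = Subgroup.zpowers p := by
      intro p hp
      have hq : IsPGroup 3 (Subgroup.zpowers p) :=
        IsPGroup.of_card (n := 1) (by rw [Nat.card_zpowers, hp, pow_one])
      refine ⟨hq.toSylow ?_, IsPGroup.toSylow_coe _ _⟩
      intro h'
      have := (Subgroup.zpowers p).card_mul_index
      rw [Nat.card_zpowers, hp, hn] at this
      omega
    obtain ⟨Qa, hQa⟩ := syl a hoa
    obtain ⟨Qb, hQb⟩ := syl b hob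
    have hone : Nat.card (Sylow 3 O) = 1 := by
      have hd1 := Qa.card_dvd_index
      have hidx : (Qa : Subgroup O).index = 5 := by
        have := (Qa : Subgroup O).card_mul_index
        rw [hQa, Nat.card_zpowers, hoa, hn] at this
        rw [hQa]
        omega
      rw [hidx] at hd1
      rcases (Nat.dvd_prime (by norm_num)).1 hd1 with e | e
      · exact e
      · have hm := card_sylow_modEq_one 3 O
        rw [e] at hm
        exact absurd hm (by decide)
    haveI := (Nat.card_eq_one_iff_unique.1 hone).1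
    rw [← hQa, Subsingleton.elim Qa Qb, hQb]
    exact Subgroup.mem_zpowers b

namespace S3Cfg

variable {z s u : G} {R W : Subgroup G} (h : S3Cfg z s u R W)
include h

section

variable (hP : ∀ x ∈ R, x ∈ h.rs.zTwo) (hZ : ∀ w ∈ R, (∀ r ∈ R, Commute w r) → w = 1 ∨ w = z)
  (h32 : Nat.card R = 32)

theorem z_pair {a : G} (ha1 : a ≠ 1) (haz : a ≠ z) : a ∉ Subgroup.zpowers z := fun hm =>
  (h.ctx.mem_zpowers_z_iff.1 hm).elim ha1 haz

include hP hZ h32 in
/-- All elements of the fixed part are singular. -/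
theorem fix_singular {a : G} (ha : a ∈ h.fixMod) (ha2 : a * a = 1) (ha1 : a ≠ 1) (haz : a ≠ z) :
    ∀ f ∈ h.fixMod, f * f = 1 := by
  classical
  intro f hf
  refine (h.sq_cases hP hZ hf.1).resolve_right fun hfz => ?_
  obtain ⟨h8, hgen⟩ := h.card_fixMod hP hZ h32
  have hfR := hf.1
  have haR := ha.1
  have hfa : Commute f a := h.fixMod_commute ha hf (hP f hfR)
  have hfa2 : f * a * (f * a) = z := by rw [hfa.symm.mul_mul_mul_comm, hfz, ha2, mul_one]
  set f₁ := s * f * s⁻¹ with hf₁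
  set a₁ := s * a * s⁻¹ with ha₁
  have hf₁R : f₁ ∈ R := h.rs.act f hfR
  have ha₁R : a₁ ∈ R := h.rs.act a haR
  have hff : ⁅f, f₁⁆ = z := (h.comm_translate hP hZ hfR).trans hfz
  have haa : ⁅a, a₁⁆ = 1 := (h.comm_translate hP hZ haR).trans ha2
  -- `a` does not commute with the translate of `f`
  have haf : ⁅a, f₁⁆ = z := by
    refine (h.comm_cases hP haR hf₁R).resolve_left fun e => ?_
    refine (hZ a haR fun r hr => ?_).elim ha1 haz
    obtain ⟨p, hp, g, hg, rfl⟩ := hgen r hr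
    have hEF : Subgroup.zpowers z ⊔ Subgroup.zpowers a ⊔ Subgroup.zpowers f = h.fixMod := by
      have hle : Subgroup.zpowers z ⊔ Subgroup.zpowers a ⊔ Subgroup.zpowers f ≤ h.fixMod :=
        sup_le (sup_le (Subgroup.zpowers_le.2 h.z_mem_fixMod) (Subgroup.zpowers_le.2 ha))
          (Subgroup.zpowers_le.2 hf)
      refine Subgroup.eq_of_le_of_card_ge hle ?_
      have hza : ∀ n ∈ Subgroup.zpowers z, a * n * a⁻¹ ∈ Subgroup.zpowers z := fun n hn => by
        rw [← (h.rs.z_comm (h.ctx.mem_zpowers_z_iff.1 hn) haR).eq, mul_inv_cancel_right]; exact hn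
      have hA2 : ∀ n ∈ Subgroup.zpowers z ⊔ Subgroup.zpowers a, f * n * f⁻¹ ∈
          Subgroup.zpowers z ⊔ Subgroup.zpowers a := fun n hn => by
        rw [(h.fixMod_commute (hle (le_sup_left (b := Subgroup.zpowers f) hn)) hf (hP f hfR)).eq,
          mul_inv_cancel_right]
        exact hn
      have h4 : Nat.card ↥(Subgroup.zpowers z ⊔ Subgroup.zpowers a) = 4 := by
        rw [card_sup_two hza (ha2 ▸ one_mem _) (h.z_pair ha1 haz), h.ctx.card_zpowers_z]
      rw [card_sup_two hA2 (by rw [hfz]; exact (le_sup_left (b := Subgroup.zpowers a)) (Subgroup.mem_zpowers z))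
        (fun hm => ?_), h4, h8]
      rcases (mem_sup_two hza (ha2 ▸ one_mem _)).1 hm with e' | ⟨n, hn, e'⟩
      · have := h.rs.sq_z (h.ctx.mem_zpowers_z_iff.1 e')
        exact h.ctx.z_ne (hfz ▸ this)
      · have hn' := h.ctx.mem_zpowers_z_iff.1 hn
        have : f * f = 1 := by
          rw [e', (h.rs.z_comm hn' haR).symm.mul_mul_mul_comm, ha2, h.rs.sq_z hn', one_mul]
        exact h.ctx.z_ne (hfz ▸ this)
    set K : Subgroup G := Subgroup.centralizer {a} ⊓ R
    have hK : h.fixMod ≤ K.comap (MulAut.conj s).toMonoidHom := by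
      rw [← hEF]
      refine sup_le (sup_le ?_ ?_) ?_ <;> rw [Subgroup.zpowers_le]
      · refine ⟨Subgroup.mem_centralizer_singleton_iff.2 ?_, h.rs.act z h.zR⟩
        show s * z * s⁻¹ * a = a * (s * z * s⁻¹)
        rw [h.rs.s_z, (h.rs.central a haR).eq]
      · exact ⟨Subgroup.mem_centralizer_singleton_iff.2
          (commutatorElement_eq_one_iff_commute.1 haa).symm.eq, ha₁R⟩
      · exact ⟨Subgroup.mem_centralizer_singleton_iff.2
          (commutatorElement_eq_one_iff_commute.1 e).symm.eq, hf₁R⟩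
    exact (h.fixMod_commute hp ha (hP a haR)).mul_right
      (show Commute a (s * g * s⁻¹) from
        (Subgroup.mem_centralizer_singleton_iff.1 (hK hg).1).symm)
  have hfb : ⁅f, a₁⁆ = z := by
    have h0 := h.comm_translate hP hZ (mul_mem hfR haR)
    rw [hfa2, show s * (f * a) * s⁻¹ = f₁ * a₁ by rw [hf₁, ha₁]; group,
      h.rs.commutator_mul (hP f hfR) (hP a haR) (mul_mem hf₁R ha₁R),
      h.rs.mul_commutator (hP f hfR) hf₁R ha₁R, h.rs.mul_commutator (hP a haR) hf₁R ha₁R, hff,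
      haf, haa, mul_one, mul_assoc] at h0
    rcases h.comm_cases hP hfR ha₁R with e | e
    · rw [e, one_mul, h.ctx.z_sq] at h0; exact absurd h0.symm h.ctx.z_ne
    · exact e
  set y := s * (f * a) * s⁻¹ with hy
  have hyR : y ∈ R := h.rs.act _ (mul_mem hfR haR)
  have hy' : y = f₁ * a₁ := by rw [hy, hf₁, ha₁]; group
  have hfy : Commute f y := by
    rw [← commutatorElement_eq_one_iff_commute, hy', h.rs.mul_commutator (hP f hfR) hf₁R ha₁R, hff,
      hfb, h.ctx.z_sq]
  have hy2 : y * y = z := by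
    rw [hy, show s * (f * a) * s⁻¹ * (s * (f * a) * s⁻¹) = s * (f * a * (f * a)) * s⁻¹ by group,
      hfa2, h.rs.s_z]
  set v := f * y with hv
  have hvR : v ∈ R := mul_mem hfR hyR
  have hv2 : v * v = 1 := by rw [hv, hfy.symm.mul_mul_mul_comm, hfz, hy2, h.ctx.z_sq]
  have hfaF : f * a ∈ h.fixMod := mul_mem hf ha
  have hfa0 : ¬ (f * a = 1 ∨ f * a = z) := fun e => h.ctx.z_ne (hfa2 ▸ h.rs.sq_z e)
  have hyF : y ∉ h.fixMod := fun hm => hfa0 (h.eq_of_fixMod_shift hfaF hm)
  refine h.false_of_avoid hP hZ h32 hvR hv2 (fun e => ?_)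
    (fun hm => hyF ((Subgroup.mul_mem_cancel_left _ hf).1 hm)) (fun hm => ?_) (fun hm => ?_)
  · exact hyF (by rw [show y = f⁻¹ * v by rw [hv, inv_mul_cancel_left], e, mul_one]; exact inv_mem hf)
  · have hn : f * a * y * (s * y * s⁻¹) = 1 ∨ f * a * y * (s * y * s⁻¹) = z :=
      h.rs.norm (mul_mem hfR haR)
    set ν := f * a * y * (s * y * s⁻¹) with hν
    have hνF : ν ∈ h.fixMod := by
      rcases hn with e | e <;> rw [e]
      · exact one_mem _
      · exact h.z_mem_fixMod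
    have e1 : s * v * s⁻¹ = (f₁ * a₁⁻¹ * f₁⁻¹) * ((f * a)⁻¹ * ν) := by
      rw [hν, hv, hf₁, ha₁]
      rw [show (f * a)⁻¹ * (f * a * y * (s * y * s⁻¹)) = y * (s * y * s⁻¹) by group, hy]
      group
    rw [e1, Subgroup.mul_mem_cancel_right _ (mul_mem (inv_mem hfaF) hνF)] at hm
    obtain ⟨ζ, hζ, e2⟩ : ∃ ζ, (ζ = 1 ∨ ζ = z) ∧ f₁ * a₁⁻¹ * f₁⁻¹ = ζ * a₁⁻¹ :=
      ⟨⁅f₁, a₁⁻¹⁆, h.comm_cases hP hf₁R (inv_mem ha₁R), by rw [commutatorElement_def]; group⟩
    have hζF : ζ ∈ h.fixMod := by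
      rcases hζ with e | e <;> rw [e]
      · exact one_mem _
      · exact h.z_mem_fixMod
    rw [e2, Subgroup.mul_mem_cancel_left _ hζF, inv_mem_iff] at hm
    exact (h.eq_of_fixMod_shift ha hm).elim ha1 haz
  · rw [show s * (s * v * s⁻¹) * s⁻¹ = (s * (s * f * s⁻¹) * s⁻¹) * (s * (s * y * s⁻¹) * s⁻¹) by
      rw [hv]; group, hy, h.rs.s_cubed, Subgroup.mul_mem_cancel_right _ hfaF] at hm
    have h1 : s * (s * (s * f * s⁻¹) * s⁻¹) * s⁻¹ ∈ h.fixMod := by rw [h.rs.s_cubed]; exact hf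
    have h2 := h.rs.sq_z (h.eq_of_fixMod_shift hm h1)
    rw [show s * (s * f * s⁻¹) * s⁻¹ * (s * (s * f * s⁻¹) * s⁻¹) =
      s * (s * (f * f) * s⁻¹) * s⁻¹ by group, hfz, h.rs.s_z, h.rs.s_z] at h2
    exact h.ctx.z_ne h2

include hP hZ h32 in
/-- The final configuration. -/
theorem false_of_extraspecial {a : G} (ha : a ∈ h.fixMod) (ha2 : a * a = 1) (ha1 : a ≠ 1)
    (haz : a ≠ z) : False := by
  classical
  haveI : Fact (Nat.Prime 2) := ⟨Nat.prime_two⟩
  haveI : Fact (Nat.Prime 3) := ⟨Nat.prime_three⟩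
  have hsing := h.fix_singular hP hZ h32 ha ha2 ha1 haz
  obtain ⟨h8, -⟩ := h.card_fixMod hP hZ h32
  set F := h.fixMod with hFdef
  have huF : ∀ f ∈ F, Commute u f := fun f hf =>
    mul_inv_eq_iff_eq_mul.1 (h.fixMod_centralised hf (hsing f hf) (hP f hf.1))
  have hFF : ∀ f ∈ F, ∀ g ∈ F, Commute f g := fun f hf g hg => h.fixMod_commute hg hf (hP f hf.1)
  have hun : ∀ f ∈ F, u * f * u⁻¹ ∈ F := fun f hf => by
    rw [(huF f hf).eq, mul_inv_cancel_right]; exact hf
  have huu : u * u ∈ F := by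
    rcases h.u_sq with e | e <;> rw [e]
    · exact one_mem F
    · exact h.z_mem_fixMod
  set A := F ⊔ Subgroup.zpowers u with hAdef
  have memA : ∀ {x}, x ∈ A ↔ x ∈ F ∨ ∃ f ∈ F, x = f * u := fun {x} => mem_sup_two hun huu
  have hAR : ∀ x ∈ A, x ∈ R → x ∈ F := by
    intro x hx hxR
    rcases memA.1 hx with e | ⟨f, hf, rfl⟩
    · exact e
    · exact absurd ((Subgroup.mul_mem_cancel_left R hf.1).1 hxR) h.u_not_mem
  have hA16 : Nat.card A = 16 := by
    rw [card_sup_two hun huu (fun hm => h.u_not_mem hm.1), h8]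
  have hAS : A ≤ h.S := sup_le (fun x hx => h.R_le_S hx.1) le_sup_right
  have hFA : F ≤ A := le_sup_left
  have huA : u ∈ A := (le_sup_right : _ ≤ A) (Subgroup.mem_zpowers u)
  have hAab : ∀ p ∈ A, ∀ q ∈ A, Commute p q := by
    intro p hp q hq
    rcases memA.1 hp with e | ⟨f, hf, rfl⟩ <;> rcases memA.1 hq with e' | ⟨g, hg, rfl⟩
    · exact hFF _ e _ e'
    · exact (hFF _ e _ hg).mul_right (huF _ e).symm
    · exact (hFF _ hf _ e').mul_left (huF _ e')
    · exact ((hFF _ hf _ hg).mul_right (huF _ hf).symm).mul_left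
        ((huF _ hg).mul_right (Commute.refl u))
  -- elements of `R` outside `F` do not commute with `u` modulo `⟨z⟩`
  have hout : ∀ x ∈ R, (⁅x, u⁆ = 1 ∨ ⁅x, u⁆ = z) → x ∈ F := fun x hx he => by
    refine ⟨hx, ⁅x⁻¹, u⁆, ?_, by simp only [commutatorElement_def]; group⟩
    have e : ⁅x⁻¹, u⁆ = x⁻¹ * ⁅x, u⁆⁻¹ * x := by simp only [commutatorElement_def]; group
    rcases he with e' | e' <;> rw [e, e']
    · exact Or.inl (by group)
    · refine Or.inr ?_
      rw [h.ctx.z_inv, (h.rs.central x⁻¹ (inv_mem hx)).eq, inv_mul_cancel_right]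
  -- centralisers of elements of `F`
  have hD : ∀ b ∈ F, b ≠ 1 → b ≠ z → ∃ x ∈ R, ¬ Commute x b := fun b hb hb1 hbz => by
    by_contra hcon
    push Not at hcon
    exact (hZ b hb.1 fun r hr => (hcon r hr).symm).elim hb1 hbz
  have hmove : ∀ x ∈ R, ∀ b ∈ F, ¬ Commute x b → x * b * x⁻¹ = z * b := fun x hx b hb hxb => by
    have := (h.comm_cases hP hx hb.1).resolve_left
      fun e => hxb (commutatorElement_eq_one_iff_commute.1 e)
    rw [← this, commutatorElement_def]; group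
  have hcomm2 : ∀ x ∈ R, ∀ y ∈ R, ∀ b ∈ F, ¬ Commute x b → ¬ Commute y b → Commute (x⁻¹ * y) b := by
    intro x hx y hy b hb hxb hyb
    refine mul_inv_eq_iff_eq_mul.1 ?_
    calc x⁻¹ * y * b * (x⁻¹ * y)⁻¹ = x⁻¹ * (y * b * y⁻¹) * x := by group
      _ = x⁻¹ * (x * b * x⁻¹) * x := by rw [hmove x hx b hb hxb, hmove y hy b hb hyb]
      _ = b := by group
  -- the moving elements
  obtain ⟨Sy, hSy⟩ := h.sylow
  have hS : (Sy : Subgroup G) = h.S := hSy
  have moving : ∀ b ∈ F, b ≠ 1 → b ≠ z →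
      ∃ g : G, g * z * g⁻¹ = z * b ∧ ∀ x ∈ A, g * x * g⁻¹ ∈ A := by
    intro b hb hb1 hbz
    have hbR := hb.1
    have hb2 := hsing b hb
    obtain ⟨r0, hr0, hr0b⟩ := hD b hb hb1 hbz
    set D : Subgroup G := R ⊓ Subgroup.centralizer {b} with hDdef
    have memD : ∀ {x}, x ∈ D ↔ x ∈ R ∧ Commute x b := fun {x} =>
      ⟨fun hx => ⟨hx.1, Subgroup.mem_centralizer_singleton_iff.1 hx.2⟩,
        fun hx => ⟨hx.1, Subgroup.mem_centralizer_singleton_iff.2 hx.2.eq⟩⟩
    have hsplit : ∀ r ∈ R, r ∈ D ∨ r0⁻¹ * r ∈ D := fun r hr => by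
      by_cases hrb : Commute r b
      · exact Or.inl (memD.2 ⟨hr, hrb⟩)
      · exact Or.inr (memD.2 ⟨mul_mem (inv_mem hr0) hr, hcomm2 r0 hr0 r hr b hb hr0b hrb⟩)
    have hD16 : Nat.card D = 16 := by
      have hlt : Nat.card D < 32 := by
        refine lt_of_le_of_ne (h32 ▸ Subgroup.card_le_of_le (show D ≤ R from fun x hx => hx.1)) ?_
        intro e
        refine hr0b (memD.1 ((Subgroup.eq_of_le_of_card_ge
          (show D ≤ R from fun x hx => hx.1) (h32.trans e.symm).le).ge hr0)).2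
      have hge : 32 ≤ 2 * Nat.card D := by
        have hsub : (R : Set G) ⊆ (D : Set G) ∪ (r0 * ·) '' (D : Set G) := fun r hr => by
          rcases hsplit r hr with e | e
          · exact Or.inl e
          · exact Or.inr ⟨_, e, mul_inv_cancel_left r0 r⟩
        have h1 := (Set.ncard_le_ncard hsub (Set.toFinite _)).trans (Set.ncard_union_le _ _)
        have h2 : ((r0 * ·) '' (D : Set G)).ncard ≤ (D : Set G).ncard :=
          Set.ncard_image_le (Set.toFinite _)
        have h3 : (R : Set G).ncard = Nat.card R := (Nat.card_coe_set_eq _).symm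
        have h4 : (D : Set G).ncard = Nat.card D := (Nat.card_coe_set_eq _).symm
        omega
      obtain ⟨k, hk⟩ := IsPGroup.iff_card.1 (h.rs.two.to_le (show D ≤ R from fun x hx => hx.1))
      rw [hk] at hlt hge ⊢
      have : k ≤ 4 := by
        by_contra hk5
        have := Nat.pow_le_pow_right (show 1 ≤ 2 by norm_num) (show 5 ≤ k by omega)
        omega
      interval_cases k <;> omega
    set T : Subgroup G := h.S ⊓ Subgroup.centralizer {b} with hTdef
    have memT : ∀ x, x ∈ T ↔ x ∈ h.S ∧ Commute x b := fun x =>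
      ⟨fun hx => ⟨hx.1, Subgroup.mem_centralizer_singleton_iff.1 hx.2⟩,
        fun hx => ⟨hx.1, Subgroup.mem_centralizer_singleton_iff.2 hx.2.eq⟩⟩
    have hTsup : T = D ⊔ Subgroup.zpowers u := by
      refine le_antisymm (fun x hx => ?_) (sup_le (fun x hx => (memT x).2
        ⟨h.R_le_S hx.1, (memD.1 hx).2⟩) (Subgroup.zpowers_le.2 ((memT u).2 ⟨h.u_mem_S, huF b hb⟩)))
      obtain ⟨hxS, hxb⟩ := (memT x).1 hx
      rcases h.mem_S.1 hxS with e | ⟨r, hr, rfl⟩
      · exact (le_sup_left : D ≤ _) (memD.2 ⟨e, hxb⟩)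
      · have := hxb.mul_left (huF b hb).inv_left
        rw [mul_inv_cancel_right] at this
        exact mul_mem ((le_sup_left : D ≤ _) (memD.2 ⟨hr, this⟩))
          ((le_sup_right (a := D)) (Subgroup.mem_zpowers u))
    have huD : ∀ x ∈ D, u * x * u⁻¹ ∈ D := fun x hx => by
      refine memD.2 ⟨h.uR x (memD.1 hx).1, ?_⟩
      have := (memD.1 hx).2.map (MulAut.conj u).toMonoidHom
      simp only [MulEquiv.coe_toMonoidHom, MulAut.conj_apply] at this
      rwa [(huF b hb).eq, mul_inv_cancel_right] at this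
    have hT32 : Nat.card T = 32 := by
      rw [hTsup, card_sup_two huD (memD.2 ⟨huu.1, hFF _ huu b hb⟩) (fun hm => h.u_not_mem hm.1),
        hD16]
    have hS64 : Nat.card h.S = 64 := by rw [h.card_S, h32]
    have hFD : F ≤ D := fun x hx => memD.2 ⟨hx.1, hFF x hx b hb⟩
    have hAT : A ≤ T := hTsup ▸ sup_le (hFD.trans le_sup_left) le_sup_right
    have hTS : T ≤ h.S := fun x hx => hx.1
    obtain ⟨g, hgb, hgz, hgT, -⟩ := exists_moving h.hconj Sy h.ctx.z_ord
      (fun x hx => h.S_z (hS ▸ hx)) (hS.symm ▸ h.z_mem_S)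
      (fun w hw hc => h.center_S (by omega) hZ (hS ▸ hw) fun x hx => hc x (hS.symm ▸ hx))
      (orderOf_eq_prime (by rw [sq, hb2]) hb1) (hS.symm ▸ h.R_le_S hbR) hbz (D := T)
      (fun x => by rw [hS]; exact memT x) (by rw [hS, hS64, hT32])
    obtain ⟨d₁, hd₁, d₂, hd₂, hc₁, hc₂, hd⟩ := h.exists_noncommuting hP hZ h32 hbR
    have hd₁T : d₁ ∈ T := (memT d₁).2 ⟨h.R_le_S hd₁, hc₁⟩
    have hd₂T : d₂ ∈ T := (memT d₂).2 ⟨h.R_le_S hd₂, hc₂⟩
    obtain ⟨x, hxD, hxF⟩ : ∃ x ∈ D, x ∉ F := Set.not_subset.1 fun hle => by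
      have := Subgroup.card_le_of_le (show D ≤ F from hle)
      rw [h8, hD16] at this
      omega
    -- `A` is the only abelian subgroup of index two of `T`
    set B := A.map (MulAut.conj g).toMonoidHom with hBdef
    have hBT : B ≤ T := by
      rintro _ ⟨p, hp, rfl⟩
      exact (hgT p).2 (hAT hp)
    have hB16 : Nat.card B = 16 := by
      rw [Subgroup.card_map_of_injective (f := (MulAut.conj g).toMonoidHom) (MulAut.conj g).injective,
        hA16]
    have hBab : ∀ p ∈ B, ∀ q ∈ B, Commute p q := by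
      rintro _ ⟨p, hp, rfl⟩ _ ⟨q, hq, rfl⟩
      exact (hAab p hp q hq).map _
    have hBA : B = A := by
      by_contra hne
      obtain ⟨k, hk⟩ := commutator_cases hAT hBT (by rw [hT32, hA16]) (by rw [hT32, hB16])
        (Ne.symm hne) hAab hBab
      have hkz : k = z := by
        rcases hk d₁ hd₁T d₂ hd₂T with e | e <;> rw [hd] at e
        · exact absurd e h.ctx.z_ne
        · exact e.symm
      exact hxF (hout x (memD.1 hxD).1
        (hkz ▸ hk x ((memT x).2 ⟨h.R_le_S hxD.1, (memD.1 hxD).2⟩) u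
          ((memT u).2 ⟨h.u_mem_S, huF b hb⟩)))
    refine ⟨g, ?_, fun p hp => hBA.le ⟨p, hp, rfl⟩⟩
    -- the image of `z`
    have hzT : z ∈ T := (memT z).2 ⟨h.z_mem_S, (h.rs.central b hbR).symm⟩
    have hgc : ∀ t ∈ T, Commute (g * z * g⁻¹) t := by
      intro t ht
      have h1 : g⁻¹ * t * g ∈ T := (hgT _).1 (by simpa [mul_assoc] using ht)
      have h2 := (h.S_z (hTS h1)).symm.map (MulAut.conj g).toMonoidHom
      simpa [mul_assoc] using h2
    have hxT : x ∈ T := (memT x).2 ⟨h.R_le_S hxD.1, (memD.1 hxD).2⟩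
    have hpA : g * z * g⁻¹ ∈ A := hBA.le ⟨z, hFA h.z_mem_fixMod, rfl⟩
    set p := g * z * g⁻¹ with hpdef
    have hpF : p ∈ F := by
      rcases memA.1 hpA with e | ⟨f, hf, e⟩
      · exact e
      · exfalso
        refine hxF (hout x hxD.1 ?_)
        have hc := hgc x hxT
        rw [e] at hc
        have e1 : x * u * x⁻¹ = (x * f⁻¹ * x⁻¹) * f * u := by
          calc x * u * x⁻¹ = (x * f⁻¹ * x⁻¹) * (x * (f * u) * x⁻¹) := by group
            _ = _ := by rw [← hc.eq, mul_inv_cancel_right]; group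
        rw [commutatorElement_def, e1, mul_inv_cancel_right,
          show x * f⁻¹ * x⁻¹ * f = ⁅x, f⁻¹⁆ by simp only [commutatorElement_def]; group]
        exact h.comm_cases hP hxD.1 (inv_mem hf.1)
    have hpR := hpF.1
    by_cases hpr : Commute p r0
    · exfalso
      have hc : ∀ r ∈ R, Commute p r := fun r hr => by
        rcases hsplit r hr with e | e
        · exact hgc r ((memT r).2 ⟨h.R_le_S hr, (memD.1 e).2⟩)
        · have := hpr.mul_right (hgc _ ((memT _).2 ⟨h.R_le_S e.1, (memD.1 e).2⟩))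
          rwa [mul_inv_cancel_left] at this
      rcases hZ p hpR hc with e | e
      · exact h.ctx.z_ne (conj_eq_one_iff.1 e)
      · exact hgz (mul_inv_eq_iff_eq_mul.1 e)
    · have hc : ∀ r ∈ R, Commute (p * b) r := fun r hr => by
        have h1 : Commute (p * b) r0 := by
          rw [← commutatorElement_eq_one_iff_commute, h.rs.commutator_mul (hP p hpR) (hP b hbR) hr0,
            (h.comm_cases hP hpR hr0).resolve_left
              fun e => hpr (commutatorElement_eq_one_iff_commute.1 e),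
            (h.comm_cases hP hbR hr0).resolve_left
              fun e => hr0b (commutatorElement_eq_one_iff_commute.1 e).symm, h.ctx.z_sq]
        have h2 : ∀ t ∈ D, Commute (p * b) t := fun t ht =>
          (hgc t ((memT t).2 ⟨h.R_le_S ht.1, (memD.1 ht).2⟩)).mul_left (memD.1 ht).2.symm
        rcases hsplit r hr with e | e
        · exact h2 r e
        · have := h1.mul_right (h2 _ e)
          rwa [mul_inv_cancel_left] at this
      have e3 : p = p * b * b := by rw [mul_assoc, hb2, mul_one]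
      rcases hZ _ (mul_mem hpR hbR) hc with e | e
      · exfalso
        rw [e, one_mul] at e3
        refine hbz ?_
        have e4 : g * z * g⁻¹ = g * b * g⁻¹ := by
          rw [← hpdef, e3, hgb.eq, mul_inv_cancel_right]
        exact (mul_left_cancel (mul_right_cancel e4)).symm
      · rwa [e] at e3
  -- `u` is an involution
  have hu1 : u * u = 1 := by
    refine h.u_sq.resolve_right fun e => ?_
    obtain ⟨g, hg, hgA⟩ := moving a ha ha1 haz
    have hsqA : ∀ x ∈ A, x * x = 1 ∨ x * x = z := by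
      intro x hx
      rcases memA.1 hx with e' | ⟨f, hf, rfl⟩
      · exact Or.inl (hsing x e')
      · rw [((huF f hf)).mul_mul_mul_comm, hsing f hf, one_mul, e]; exact Or.inr rfl
    have h1 := hsqA _ (hgA u huA)
    rw [show g * u * g⁻¹ * (g * u * g⁻¹) = g * (u * u) * g⁻¹ by group, e, hg] at h1
    rcases h1 with e' | e'
    · exact haz (by rw [← inv_eq_of_mul_eq_one_right e', h.ctx.z_inv])
    · exact ha1 (mul_eq_left.1 e')
  have hA2 : ∀ x ∈ A, x * x = 1 := by
    intro x hx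
    rcases memA.1 hx with e | ⟨f, hf, rfl⟩
    · exact hsing x e
    · rw [((huF f hf)).mul_mul_mul_comm, hsing f hf, hu1, one_mul]
  -- the action of the normaliser
  set N := Subgroup.normalizer (A : Set G) with hN
  have toN : ∀ g : G, (∀ x ∈ A, g * x * g⁻¹ ∈ A) → g ∈ N := by
    intro g hg
    have hmap : A.map (MulAut.conj g).toMonoidHom = A := Subgroup.eq_of_le_of_card_ge
      (by rintro _ ⟨x, hx, rfl⟩; exact hg x hx)
      (by rw [Subgroup.card_map_of_injective (f := (MulAut.conj g).toMonoidHom)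
        (MulAut.conj g).injective])
    refine Subgroup.mem_normalizer_iff.2 fun x => ⟨hg x, fun hx => ?_⟩
    obtain ⟨x', hx', e⟩ := hmap.ge hx
    have e' : x' = x := by simpa [mul_assoc] using e
    exact e' ▸ hx'
  have hRn : ∀ r ∈ R, ∀ x ∈ A, r * x * r⁻¹ ∈ A := by
    intro r hr x hx
    have hFn : ∀ f ∈ F, r * f * r⁻¹ ∈ F := fun f hf => by
      have e : r * f * r⁻¹ = ⁅r, f⁆ * f := by rw [commutatorElement_def]; group
      rw [e]
      refine mul_mem ?_ hf
      rcases h.comm_cases hP hr hf.1 with e' | e' <;> rw [e']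
      · exact one_mem F
      · exact h.z_mem_fixMod
    have hru : r * u * r⁻¹ ∈ A := by
      have hF' : r * u * r⁻¹ * u⁻¹ ∈ F := by
        set p := u * r⁻¹ * u⁻¹ with hp
        have hpR : p ∈ R := h.uR _ (inv_mem hr)
        refine ⟨by rw [show r * u * r⁻¹ * u⁻¹ = r * p by rw [hp]; group]; exact mul_mem hr hpR, ?_⟩
        have e2 : u * (r * u * r⁻¹ * u⁻¹) * u⁻¹ = p⁻¹ * r⁻¹ := by
          calc u * (r * u * r⁻¹ * u⁻¹) * u⁻¹ = (u * r * u⁻¹) * ((u * u) * r⁻¹ * (u * u)⁻¹) := by group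
            _ = p⁻¹ * r⁻¹ := by rw [hu1, hp]; group
        refine ⟨(r * p * (r * p))⁻¹, ?_, ?_⟩
        · rcases h.sq_cases hP hZ (mul_mem hr hpR) with e' | e' <;> rw [e']
          · exact Or.inl inv_one
          · exact Or.inr h.ctx.z_inv
        · rw [e2, show r * u * r⁻¹ * u⁻¹ = r * p by rw [hp]; group]
          group
      have := mul_mem (hFA hF') huA
      rwa [inv_mul_cancel_right] at this
    rcases memA.1 hx with e | ⟨f, hf, rfl⟩
    · exact hFA (hFn x e)
    · rw [show r * (f * u) * r⁻¹ = (r * f * r⁻¹) * (r * u * r⁻¹) by group]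
      exact mul_mem (hFA (hFn f hf)) hru
  have hSN : h.S ≤ N := by
    intro x hx
    rcases h.mem_S.1 hx with e | ⟨r, hr, rfl⟩
    · exact toN x (hRn x e)
    · exact mul_mem (toN r (hRn r hr)) (toN u fun p hp => by
        rw [(hAab u huA p hp).eq, mul_inv_cancel_right]; exact hp)
  let φ : N →* MulAut A := Subgroup.normalizerMonoidHom A
  have hφ : ∀ (g : N) (x : A), ((φ g x : A) : G) = (g : G) * x * (g : G)⁻¹ := fun _ _ => rfl
  set π := φ.rangeRestrict with hπ
  have hπs : Function.Surjective π := φ.rangeRestrict_surjective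
  set zA : A := ⟨z, hFA h.z_mem_fixMod⟩ with hzA
  set P : Subgroup φ.range := (h.S.subgroupOf N).map π with hPdef
  -- the stabiliser
  have hstab : ∀ q : φ.range, (q : MulAut A) zA = zA → q ∈ P := by
    intro q hq
    obtain ⟨⟨n, hn⟩, rfl⟩ := hπs q
    have hnz : Commute n z := mul_inv_eq_iff_eq_mul.1 (by
      have := congrArg Subtype.val hq
      exact this)
    obtain ⟨r, hr, w, hw, i, j, e⟩ := h.decomp n hnz
    have hnA : ∀ x ∈ A, n * x * n⁻¹ ∈ A := fun x hx => (Subgroup.mem_normalizer_iff.1 hn x).1 hx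
    have huj : u ^ j ∈ A := pow_mem huA j
    have hnF : ∀ f ∈ F, n * f * n⁻¹ ∈ F := fun f hf =>
      hAR _ (hnA f (hFA hf)) (h.normR n hnz f hf.1)
    have hconjF : ∀ f ∈ F, s ^ i * f * (s ^ i)⁻¹ ∈ F := by
      intro f hf
      have hy : s ^ i * f * (s ^ i)⁻¹ ∈ R := h.normR _ (h.ctx.comm.symm.pow_left i) f hf.1
      have e1 : n * f * n⁻¹ = r * (s ^ i * f * (s ^ i)⁻¹) * r⁻¹ := by
        rw [e, show r * w * s ^ i * u ^ j * f * (r * w * s ^ i * u ^ j)⁻¹ =
          r * (w * (s ^ i * (u ^ j * f * (u ^ j)⁻¹) * (s ^ i)⁻¹) * w⁻¹) * r⁻¹ by group,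
          ((huF f hf).pow_left j).eq, mul_inv_cancel_right,
          ← (h.W_comm _ hy w hw).eq, mul_inv_cancel_right]
      have e2 := hnF f hf
      rw [e1] at e2
      have e3 := hRn r⁻¹ (inv_mem hr) _ (hFA e2)
      rw [inv_inv, show r⁻¹ * (r * (s ^ i * f * (s ^ i)⁻¹) * r⁻¹) * r =
        s ^ i * f * (s ^ i)⁻¹ by group] at e3
      exact hAR _ e3 hy
    have hsi : s ^ i = 1 := by
      have e6 : s ^ i = s ^ (i % 3) := by
        conv_lhs => rw [← Nat.mod_add_div i 3, pow_add, pow_mul, h.ctx.s_cube, one_pow, mul_one]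
      have hlt : i % 3 < 3 := Nat.mod_lt _ (by norm_num)
      have hc := hconjF a ha
      rw [e6] at hc ⊢
      interval_cases hm : i % 3
      · rw [pow_zero]
      · rw [pow_one] at hc
        exact absurd (h.eq_of_fixMod_shift ha hc) (not_or.2 ⟨ha1, haz⟩)
      · rw [show s ^ 2 * a * (s ^ 2)⁻¹ = s * (s * a * s⁻¹) * s⁻¹ by rw [sq]; group] at hc
        have h1 : s * (s * (s * a * s⁻¹) * s⁻¹) * s⁻¹ ∈ F := by rw [h.rs.s_cubed]; exact ha
        rcases h.eq_of_fixMod_shift hc h1 with e' | e'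
        · have : a = 1 := by rw [← h.rs.s_cubed a, e']; group
          exact absurd this ha1
        · have : a = z := by rw [← h.rs.s_cubed a, e', h.rs.s_z]
          exact absurd this haz
    rw [hsi, mul_one] at e
    -- `w` centralises `A`
    have hwN : ∀ x ∈ A, w * x * w⁻¹ ∈ A := by
      intro x hx
      have h1 := hnA x hx
      rw [e, show r * w * u ^ j * x * (r * w * u ^ j)⁻¹ =
        r * (w * (u ^ j * x * (u ^ j)⁻¹) * w⁻¹) * r⁻¹ by group, (hAab _ huj x hx).eq,
        mul_inv_cancel_right] at h1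
      have := hRn r⁻¹ (inv_mem hr) _ h1
      simpa [mul_assoc] using this
    have hwu : Commute w u := by
      rw [← commutatorElement_eq_one_iff_commute]
      refine h.W_inf (k := 1) ?_ ?_
      · rw [commutatorElement_def, mul_assoc w u, mul_assoc w]
        exact mul_mem hw (h.normW u h.u_z _ (inv_mem hw))
      · rw [pow_one, sq]
        exact hA2 _ (mul_mem (hwN u huA) (inv_mem huA))
    have hwA : ∀ x ∈ A, Commute w x := by
      intro x hx
      rcases memA.1 hx with e' | ⟨f, hf, rfl⟩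
      · exact (h.W_comm x e'.1 w hw).symm
      · exact (h.W_comm f hf.1 w hw).symm.mul_right hwu
    have hsS : r * u ^ j ∈ h.S := mul_mem (h.R_le_S hr) (pow_mem h.u_mem_S j)
    refine ⟨⟨r * u ^ j, hSN hsS⟩, hsS, Subtype.ext (MulEquiv.ext fun x => Subtype.ext ?_)⟩
    show (r * u ^ j) * (x : G) * (r * u ^ j)⁻¹ = n * (x : G) * n⁻¹
    rw [e, show r * w * u ^ j * (x : G) * (r * w * u ^ j)⁻¹ =
      r * (w * (u ^ j * x * (u ^ j)⁻¹) * w⁻¹) * r⁻¹ by group, (hAab _ huj x x.2).eq,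
      mul_inv_cancel_right, (hwA x x.2).eq, mul_inv_cancel_right,
      show r * u ^ j * (x : G) * (r * u ^ j)⁻¹ = r * (u ^ j * x * (u ^ j)⁻¹) * r⁻¹ by group,
      (hAab _ huj x x.2).eq, mul_inv_cancel_right]
  have hPz : ∀ q ∈ P, ((q : φ.range) : MulAut A) zA = zA := by
    rintro _ ⟨⟨n, hn⟩, hnS, rfl⟩
    apply Subtype.ext
    show n * z * n⁻¹ = z
    rw [(h.S_z (x := n) hnS).eq, mul_inv_cancel_right]
  have hP2 : IsPGroup 2 P :=
    (h.S_two.comap_of_injective N.subtype N.subtype_injective).map π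
  have hPodd : ¬ 2 ∣ P.index := by
    intro h2
    have h3 := h2.trans (Subgroup.index_map_dvd _ hπs)
    have h4 := (Sy.subtype (hS ▸ hSN)).not_dvd_index
    rw [Sylow.coe_subtype, hS] at h4
    exact h4 h3
  have hPR : ∀ q ∈ P, ∃ (r : G) (hr : r ∈ R), π ⟨r, hSN (h.R_le_S hr)⟩ = q := by
    rintro _ ⟨⟨n, hn⟩, hnS, rfl⟩
    rcases h.mem_S.1 hnS with e | ⟨r, hr, e⟩
    · exact ⟨n, e, rfl⟩
    · refine ⟨r, hr, Subtype.ext (MulEquiv.ext fun x => Subtype.ext ?_)⟩
      show r * (x : G) * r⁻¹ = n * (x : G) * n⁻¹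
      have e : n = r * u := e
      rw [e, show r * u * (x : G) * (r * u)⁻¹ = r * (u * x * u⁻¹) * r⁻¹ by group,
        (hAab u huA x x.2).eq, mul_inv_cancel_right]
  have hPab : ∀ p ∈ P, ∀ q ∈ P, p * q = q * p := by
    intro p hp q hq
    obtain ⟨r, hr, rfl⟩ := hPR p hp
    obtain ⟨r', hr', rfl⟩ := hPR q hq
    rw [← map_mul, ← map_mul]
    refine Subtype.ext (MulEquiv.ext fun x => Subtype.ext ?_)
    obtain ⟨ζ, hζ, e⟩ := h.swap_eq hP hr hr'
    show r * r' * (x : G) * (r * r')⁻¹ = r' * r * (x : G) * (r' * r)⁻¹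
    have hzx : Commute ζ (x : G) := by
      rcases hζ with rfl | rfl
      · exact Commute.one_left _
      · exact (h.S_z (hAS x.2)).symm
    rw [e, show r' * r * ζ * (x : G) * (r' * r * ζ)⁻¹ = r' * r * (ζ * x * ζ⁻¹) * (r' * r)⁻¹ by group,
      hzx.eq, mul_inv_cancel_right]
  -- fixed points of `P`
  have hfixP : ∀ p : A, (∀ q ∈ P, ((q : φ.range) : MulAut A) p = p) → (p : G) = 1 ∨ (p : G) = z := by
    intro p hp
    have hp' : ∀ r ∈ R, Commute r (p : G) := fun r hr => mul_inv_eq_iff_eq_mul.1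
      (congrArg Subtype.val (hp _ ⟨⟨r, hSN (h.R_le_S hr)⟩, h.R_le_S hr, rfl⟩))
    rcases memA.1 p.2 with e | ⟨f, hf, e⟩
    · exact hZ _ e.1 fun r hr => (hp' r hr).symm
    · exfalso
      obtain ⟨x, hx, hxF⟩ : ∃ x ∈ R, x ∉ F := Set.not_subset.1 fun hle => by
        have := Subgroup.card_le_of_le (show R ≤ F from hle)
        rw [h8, h32] at this
        omega
      refine hxF (hout x hx ?_)
      have hc := hp' x hx
      rw [e] at hc
      have e1 : x * u * x⁻¹ = (x * f⁻¹ * x⁻¹) * f * u := by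
        calc x * u * x⁻¹ = (x * f⁻¹ * x⁻¹) * (x * (f * u) * x⁻¹) := by group
          _ = _ := by rw [hc.eq, mul_inv_cancel_right]; group
      rw [commutatorElement_def, e1, mul_inv_cancel_right,
        show x * f⁻¹ * x⁻¹ * f = ⁅x, f⁻¹⁆ by simp only [commutatorElement_def]; group]
      exact h.comm_cases hP hx (inv_mem hf.1)
  -- Burnside's transfer
  let Ps : Sylow 2 φ.range := hP2.toSylow hPodd
  have hPs : (Ps : Subgroup φ.range) = P := IsPGroup.toSylow_coe _ _
  have hnc : Subgroup.normalizer ((Ps : Subgroup φ.range) : Set φ.range) ≤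
      Subgroup.centralizer ((Ps : Subgroup φ.range) : Set φ.range) := by
    intro q hq
    rw [hPs] at hq ⊢
    have hq' : ((q : φ.range) : MulAut A) zA = zA := by
      have hfix : ∀ p ∈ P, ((p : φ.range) : MulAut A) ((q : MulAut A) zA) = (q : MulAut A) zA := by
        intro p hp
        have h1 := hPz _ ((Subgroup.mem_normalizer_iff.1 (inv_mem hq) p).1 hp)
        rw [inv_inv] at h1
        have h2 := congrArg (fun v => (q : MulAut A) v) h1
        simpa [MulAut.mul_apply] using h2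
      rcases hfixP _ hfix with e | e
      · exfalso
        have : (q : MulAut A) zA = 1 := Subtype.ext e
        rw [← map_one (q : MulAut A)] at this
        exact h.ctx.z_ne (congrArg Subtype.val ((q : MulAut A).injective this))
      · exact Subtype.ext e
    exact Subgroup.mem_centralizer_iff.2 fun p hp => hPab p hp q (hstab q hq')
  set O := (MonoidHom.transferSylow Ps hnc).ker with hO
  haveI : O.Normal := MonoidHom.normal_ker _
  have hcompl : Subgroup.IsComplement' O (Ps : Subgroup φ.range) :=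
    MonoidHom.ker_transferSylow_isComplement' Ps hnc
  have hreg : ∀ o ∈ O, ((o : φ.range) : MulAut A) zA = zA → o = 1 := by
    intro o ho he
    have := hcompl.disjoint.le_bot ⟨ho, hPs.symm ▸ hstab o he⟩
    exact this
  have heq : ∀ o ∈ O, ∀ o' ∈ O, ((o : φ.range) : MulAut A) zA = ((o' : φ.range) : MulAut A) zA →
      o = o' := by
    intro o ho o' ho' e
    refine (inv_mul_eq_one.1 (hreg _ (mul_mem (inv_mem ho') ho) ?_)).symm
    rw [Subgroup.coe_mul, Subgroup.coe_inv, MulAut.mul_apply, e]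
    exact (o' : MulAut A).symm_apply_apply zA
  have hOodd : ¬ 2 ∣ Nat.card O := by
    rw [← hcompl.index_eq_card, hPs]
    exact hPodd
  have hO15 : Nat.card O ≤ 15 := by
    let f : O → {x : A // x ≠ 1} := fun o => ⟨((o : φ.range) : MulAut A) zA, fun e => h.ctx.z_ne (by
      rw [← map_one ((o : φ.range) : MulAut A)] at e
      exact congrArg Subtype.val (((o : φ.range) : MulAut A).injective e))⟩
    have hf : Function.Injective f := fun o o' e =>
      Subtype.ext (heq o o.2 o' o'.2 (congrArg Subtype.val e))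
    refine (Nat.card_le_card_of_injective f hf).trans ?_
    haveI := Fintype.ofFinite A
    rw [Nat.card_eq_fintype_card, Fintype.card_subtype_compl, Fintype.card_subtype_eq,
      ← Nat.card_eq_fintype_card, hA16]
  -- translating elements
  have hexO : ∀ b ∈ F, b ≠ 1 → b ≠ z → ∃ o ∈ O, (((o : φ.range) : MulAut A) zA : G) = z * b := by
    intro b hb hb1 hbz
    obtain ⟨g, hg, hgA⟩ := moving b hb hb1 hbz
    obtain ⟨⟨⟨o, ho⟩, ⟨p, hp⟩⟩, e⟩ := hcompl.2 (π ⟨g, toN g hgA⟩)
    refine ⟨o, ho, ?_⟩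
    have e' : o * p = π ⟨g, toN g hgA⟩ := e
    have h1 : (((o * p : φ.range)) : MulAut A) zA = ((o : φ.range) : MulAut A) zA := by
      rw [Subgroup.coe_mul, MulAut.mul_apply, hPz p (hPs ▸ hp)]
    rw [← h1, e']
    exact hg
  -- fixing elements
  have hfx : ∀ b ∈ F, ∀ c ∈ F, b ≠ 1 → b ≠ z → c ≠ 1 → c ≠ z → c ≠ b → c ≠ z * b →
      ∃ x ∈ R, Commute x b ∧ ¬ Commute x c := by
    intro b hb c hc hb1 hbz hc1 hcz hcb hczb
    by_contra hcon
    push Not at hcon
    obtain ⟨r0, hr0, hr0b⟩ := hD b hb hb1 hbz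
    have e3 : c = c * b * b := by rw [mul_assoc, hsing b hb, mul_one]
    by_cases hr0c : Commute r0 c
    · refine (hZ c hc.1 fun r hr => ?_).elim hc1 hcz
      by_cases hrb : Commute r b
      · exact (hcon r hr hrb).symm
      · have := hr0c.symm.mul_right
          ((hcon _ (mul_mem (inv_mem hr0) hr) (hcomm2 r0 hr0 r hr b hb hr0b hrb))).symm
        rwa [mul_inv_cancel_left] at this
    · have h1 : Commute (c * b) r0 := by
        rw [← commutatorElement_eq_one_iff_commute, h.rs.commutator_mul (hP c hc.1) (hP b hb.1) hr0,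
          (h.comm_cases hP hc.1 hr0).resolve_left
            fun e => hr0c (commutatorElement_eq_one_iff_commute.1 e).symm,
          (h.comm_cases hP hb.1 hr0).resolve_left
            fun e => hr0b (commutatorElement_eq_one_iff_commute.1 e).symm, h.ctx.z_sq]
      have hcb' : ∀ r ∈ R, Commute (c * b) r := fun r hr => by
        by_cases hrb : Commute r b
        · exact (hcon r hr hrb).symm.mul_left hrb.symm
        · have hm := hcomm2 r0 hr0 r hr b hb hr0b hrb
          have := h1.mul_right ((hcon _ (mul_mem (inv_mem hr0) hr) hm).symm.mul_left hm.symm)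
          rwa [mul_inv_cancel_left] at this
      rcases hZ (c * b) (mul_mem hc.1 hb.1) hcb' with e | e
      · exact hcb (by rw [e3, e, one_mul])
      · exact hczb (by rw [e3, e])
  -- a basis of `F`
  obtain ⟨b, hb, hb1, hbz, hba, hbza⟩ : ∃ b ∈ F, b ≠ 1 ∧ b ≠ z ∧ b ≠ a ∧ b ≠ z * a := by
    by_contra hcon
    push Not at hcon
    have hsub : (F : Set G) ⊆ (({1, z, a, z * a} : Finset G) : Set G) := fun q hq => by
      by_cases q1 : q = 1
      · simp [q1]
      by_cases q2 : q = z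
      · simp [q2]
      by_cases q3 : q = a
      · simp [q3]
      · simp [hcon q hq q1 q2 q3]
    have h1 := Set.ncard_le_ncard hsub (Set.toFinite _)
    rw [Set.ncard_coe_finset] at h1
    have h3 : (F : Set G).ncard = Nat.card F := (Nat.card_coe_set_eq _).symm
    have := (Finset.card_le_four : ({1, z, a, z * a} : Finset G).card ≤ 4)
    omega
  have haR := ha.1
  have hbR := hb.1
  have hb2 := hsing b hb
  have hab : Commute a b := hFF a ha b hb
  set c := a * b with hc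
  have hcF : c ∈ F := mul_mem ha hb
  have hc1 : c ≠ 1 := fun e => hba (by
    rw [← inv_eq_of_mul_eq_one_right e, inv_eq_of_mul_eq_one_right ha2])
  have hcz : c ≠ z := fun e => hbza (by
    have : b = a * z := by rw [← e, hc, ← mul_assoc, ha2, one_mul]
    rw [this, h.rs.central a haR |>.eq])
  have hFcases : ∀ q ∈ F, ∃ ζ, (ζ = 1 ∨ ζ = z) ∧ (q = ζ ∨ q = ζ * a ∨ q = ζ * b ∨ q = ζ * c) := by
    set E := Subgroup.zpowers z ⊔ Subgroup.zpowers a
    have hza : ∀ n ∈ Subgroup.zpowers z, a * n * a⁻¹ ∈ Subgroup.zpowers z := fun n hn => by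
      rw [← (h.rs.z_comm (h.ctx.mem_zpowers_z_iff.1 hn) haR).eq, mul_inv_cancel_right]; exact hn
    have memE : ∀ {v}, v ∈ E ↔ v ∈ Subgroup.zpowers z ∨ ∃ n ∈ Subgroup.zpowers z, v = n * a :=
      fun {v} => mem_sup_two hza (ha2 ▸ one_mem _)
    have hE : E ≤ F := sup_le (Subgroup.zpowers_le.2 h.z_mem_fixMod) (Subgroup.zpowers_le.2 ha)
    have hbE : b ∉ E := fun hm => by
      rcases memE.1 hm with e | ⟨n, hn, e⟩
      · exact (h.ctx.mem_zpowers_z_iff.1 e).elim hb1 hbz
      · rcases h.ctx.mem_zpowers_z_iff.1 hn with e' | e' <;> rw [e'] at e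
        · exact hba (by rw [e, one_mul])
        · exact hbza e
    have hEb : ∀ n ∈ E, b * n * b⁻¹ ∈ E := fun n hn => by
      rw [(hFF b hb n (hE hn)).eq, mul_inv_cancel_right]; exact hn
    have hEF : E ⊔ Subgroup.zpowers b = F := by
      refine Subgroup.eq_of_le_of_card_ge (sup_le hE (Subgroup.zpowers_le.2 hb)) ?_
      rw [card_sup_two hEb (hb2 ▸ one_mem E) hbE, card_sup_two hza (ha2 ▸ one_mem _)
        (h.z_pair ha1 haz), h.ctx.card_zpowers_z, h8]
    intro q hq
    rcases (mem_sup_two hEb (hb2 ▸ one_mem E)).1 (hEF.ge hq) with e | ⟨v, hv, rfl⟩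
    · rcases memE.1 e with e' | ⟨n, hn, rfl⟩
      · exact ⟨q, h.ctx.mem_zpowers_z_iff.1 e', Or.inl rfl⟩
      · exact ⟨n, h.ctx.mem_zpowers_z_iff.1 hn, Or.inr (Or.inl rfl)⟩
    · rcases memE.1 hv with e' | ⟨n, hn, rfl⟩
      · exact ⟨v, h.ctx.mem_zpowers_z_iff.1 e', Or.inr (Or.inr (Or.inl rfl))⟩
      · exact ⟨n, h.ctx.mem_zpowers_z_iff.1 hn, Or.inr (Or.inr (Or.inr (mul_assoc _ _ _)))⟩
  -- three commuting-pattern elements
  obtain ⟨x₁, hx₁, hx₁a, hx₁b⟩ := hfx a ha b hb ha1 haz hb1 hbz hba hbza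
  obtain ⟨x₂, hx₂, hx₂b, hx₂a⟩ := hfx b hb a ha hb1 hbz ha1 haz (Ne.symm hba) (fun e => hbza (by
    rw [e, ← mul_assoc, h.ctx.z_sq, one_mul]))
  set x₃ := x₁ * x₂ with hx₃
  have hx₃R : x₃ ∈ R := mul_mem hx₁ hx₂
  have conjz : ∀ x ∈ R, x * z * x⁻¹ = z := fun x hx => by
    rw [(h.rs.central x hx).eq, mul_inv_cancel_right]
  have e1a : x₁ * a * x₁⁻¹ = a := by rw [hx₁a.eq, mul_inv_cancel_right]
  have e1b := hmove x₁ hx₁ b hb hx₁b
  have e2b : x₂ * b * x₂⁻¹ = b := by rw [hx₂b.eq, mul_inv_cancel_right]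
  have e2a := hmove x₂ hx₂ a ha hx₂a
  have e1c : x₁ * c * x₁⁻¹ = z * c := by
    rw [hc, show x₁ * (a * b) * x₁⁻¹ = (x₁ * a * x₁⁻¹) * (x₁ * b * x₁⁻¹) by group, e1a, e1b,
      ← mul_assoc, (h.rs.central a haR).eq, mul_assoc]
  have e2c : x₂ * c * x₂⁻¹ = z * c := by
    rw [hc, show x₂ * (a * b) * x₂⁻¹ = (x₂ * a * x₂⁻¹) * (x₂ * b * x₂⁻¹) by group, e2a, e2b,
      mul_assoc]
  have e3 : ∀ q : G, x₃ * q * x₃⁻¹ = x₁ * (x₂ * q * x₂⁻¹) * x₁⁻¹ := fun q => by rw [hx₃]; group
  have e3a : x₃ * a * x₃⁻¹ = z * a := by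
    rw [e3, e2a, show x₁ * (z * a) * x₁⁻¹ = (x₁ * z * x₁⁻¹) * (x₁ * a * x₁⁻¹) by group,
      conjz x₁ hx₁, e1a]
  have e3b : x₃ * b * x₃⁻¹ = z * b := by rw [e3, e2b, e1b]
  have e3c : x₃ * c * x₃⁻¹ = c := by
    rw [hc, show x₃ * (a * b) * x₃⁻¹ = (x₃ * a * x₃⁻¹) * (x₃ * b * x₃⁻¹) by group, e3a, e3b,
      ← mul_assoc, mul_assoc z a z, (h.rs.central a haR).eq, ← mul_assoc z z, h.ctx.z_sq, one_mul]
  -- the three translations
  let inv : ∀ x, x ∈ R → φ.range := fun x hx => π ⟨x, hSN (h.R_le_S hx)⟩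
  have hinv : ∀ x (hx : x ∈ R) (v : A), (((inv x hx : φ.range) : MulAut A) v : G) = x * v * x⁻¹ :=
    fun x hx v => rfl
  have hinvz : ∀ x (hx : x ∈ R), ((inv x hx : φ.range) : MulAut A) zA = zA :=
    fun x hx => Subtype.ext (conjz x hx)
  -- conjugation of a translation
  have hconjO : ∀ x (hx : x ∈ R) (o : φ.range), o ∈ O →
      inv x hx * o * (inv x hx)⁻¹ ∈ O ∧
        ((((inv x hx * o * (inv x hx)⁻¹ : φ.range)) : MulAut A) zA : G) =
          x * ((o : MulAut A) zA : G) * x⁻¹ := by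
    intro x hx o ho
    refine ⟨‹O.Normal›.conj_mem o ho _, ?_⟩
    rw [Subgroup.coe_mul, Subgroup.coe_mul, MulAut.mul_apply, MulAut.mul_apply, Subgroup.coe_inv]
    have hz' : (((inv x hx : φ.range) : MulAut A))⁻¹ zA = zA := by
      conv_lhs => rw [← hinvz x hx]
      exact ((inv x hx : φ.range) : MulAut A).symm_apply_apply zA
    rw [hz', hinv x hx]
  have core : ∀ (q : G) (x : G) (hx : x ∈ R) (y : G) (hy : y ∈ R) (o : φ.range), o ∈ O →
      ((o : MulAut A) zA : G) = z * q → q ∈ F → q ≠ 1 → x * q * x⁻¹ = q →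
      (∀ p ∈ F, x * p * x⁻¹ = p → p = 1 ∨ p = z ∨ p = q ∨ p = z * q) → x ∉ F →
      y * q * y⁻¹ = z * q →
      orderOf o = 3 ∧ inv x hx * o * (inv x hx)⁻¹ = o ∧ inv y hy * o * (inv y hy)⁻¹ = o⁻¹ := by
    intro q x hx y hy o ho hoz hq hq1 hxq hxfix hxF hyq
    have hcomm : inv x hx * o * (inv x hx)⁻¹ = o := by
      refine heq _ (hconjO x hx o ho).1 _ ho (Subtype.ext ?_)
      rw [(hconjO x hx o ho).2, hoz, show x * (z * q) * x⁻¹ = (x * z * x⁻¹) * (x * q * x⁻¹) by group,
        conjz x hx, hxq]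
    have ho1 : o ≠ 1 := fun e => by
      rw [e] at hoz
      have : z = z * q := hoz
      exact hq1 (mul_eq_left.1 this.symm)
    have hpts : ∀ k : ℕ, (((o ^ k : φ.range) : MulAut A) zA : G) = z ∨
        (((o ^ k : φ.range) : MulAut A) zA : G) = z * q ∨
        (((o ^ k : φ.range) : MulAut A) zA : G) = q := by
      intro k
      set p := ((o ^ k : φ.range) : MulAut A) zA with hp
      have hfix : x * (p : G) * x⁻¹ = p := by
        have h1 := (hconjO x hx _ (pow_mem ho k)).2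
        rw [show inv x hx * o ^ k * (inv x hx)⁻¹ = o ^ k by rw [← conj_pow, hcomm]] at h1
        exact h1.symm
      have hp1 : (p : G) ≠ 1 := fun e => by
        have h1 : ((o ^ k : φ.range) : MulAut A) zA = ((o ^ k : φ.range) : MulAut A) 1 := by
          rw [map_one]; exact Subtype.ext e
        exact h.ctx.z_ne (congrArg Subtype.val (((o ^ k : φ.range) : MulAut A).injective h1))
      rcases memA.1 p.2 with e | ⟨f, hf, e⟩
      · rcases hxfix _ e hfix with e' | e' | e' | e'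
        · exact absurd e' hp1
        · exact Or.inl e'
        · exact Or.inr (Or.inr e')
        · exact Or.inr (Or.inl e')
      · exfalso
        refine hxF (hout x hx ?_)
        rw [e] at hfix
        have e1 : x * u * x⁻¹ = (x * f⁻¹ * x⁻¹) * f * u := by
          calc x * u * x⁻¹ = (x * f⁻¹ * x⁻¹) * (x * (f * u) * x⁻¹) := by group
            _ = _ := by rw [hfix]; group
        rw [commutatorElement_def, e1, mul_inv_cancel_right,
          show x * f⁻¹ * x⁻¹ * f = ⁅x, f⁻¹⁆ by simp only [commutatorElement_def]; group]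
        exact h.comm_cases hP hx (inv_mem hf.1)
    have hord : orderOf o = 3 := by
      have hle : orderOf o ≤ 3 := by
        let F3 : Fin (orderOf o) → ({z, z * q, q} : Finset G) := fun k =>
          ⟨(((o ^ (k : ℕ) : φ.range) : MulAut A) zA : G), by
            rcases hpts k with e | e | e <;> rw [e] <;> simp⟩
        have hinj : Function.Injective F3 := fun i j e => by
          have h2 := heq _ (pow_mem ho i) _ (pow_mem ho j) (Subtype.ext (congrArg Subtype.val e :))
          exact Fin.ext (pow_injOn_Iio_orderOf i.2 j.2 h2)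
        have := Fintype.card_le_of_injective F3 hinj
        rw [Fintype.card_fin, Fintype.card_coe] at this
        exact this.trans Finset.card_le_three
      have hodd : ¬ 2 ∣ orderOf o := fun h2 => hOodd (h2.trans (Subgroup.orderOf_dvd_natCard O ho))
      have hne1 : orderOf o ≠ 1 := fun e => ho1 (orderOf_eq_one_iff.1 e)
      omega
    refine ⟨hord, hcomm, ?_⟩
    have ho3 : o ^ 3 = 1 := by rw [← hord, pow_orderOf_eq_one]
    have ho2 : o ^ 2 = o⁻¹ := eq_inv_of_mul_eq_one_left (by rw [← pow_succ, ho3])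
    have hz2 : (((o ^ 2 : φ.range) : MulAut A) zA : G) = q := by
      have hinj0 := pow_injOn_Iio_orderOf (x := o)
      rw [hord] at hinj0
      rcases hpts 2 with e | e | e
      · exfalso
        have h2 : o ^ 2 = o ^ 0 := heq _ (pow_mem ho 2) _ (pow_mem ho 0) (Subtype.ext (by
          rw [e, pow_zero]; rfl))
        exact absurd (hinj0 (by norm_num : (2:ℕ) ∈ Set.Iio 3) (by norm_num : (0:ℕ) ∈ Set.Iio 3) h2)
          (by norm_num)
      · exfalso
        have h2 : o ^ 2 = o ^ 1 := heq _ (pow_mem ho 2) _ (pow_mem ho 1) (Subtype.ext (by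
          rw [e, pow_one, hoz]))
        exact absurd (hinj0 (by norm_num : (2:ℕ) ∈ Set.Iio 3) (by norm_num : (1:ℕ) ∈ Set.Iio 3) h2)
          (by norm_num)
      · exact e
    rw [← ho2]
    refine heq _ (hconjO y hy o ho).1 _ (pow_mem ho 2) (Subtype.ext ?_)
    rw [(hconjO y hy o ho).2, hz2, hoz, show y * (z * q) * y⁻¹ = (y * z * y⁻¹) * (y * q * y⁻¹) by group,
      conjz y hy, hyq, ← mul_assoc, h.ctx.z_sq, one_mul]
  obtain ⟨o₁, ho₁, hz₁⟩ := hexO a ha ha1 haz
  obtain ⟨o₂, ho₂, hz₂⟩ := hexO b hb hb1 hbz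
  obtain ⟨o₃, ho₃, hz₃⟩ := hexO c hcF hc1 hcz
  have notF : ∀ x ∈ R, ∀ q ∈ F, x * q * x⁻¹ = z * q → x ∉ F := fun x hx q hq e hm => by
    rw [(hFF x hm q hq).eq, mul_inv_cancel_right] at e
    exact h.ctx.z_ne (mul_eq_right.1 e.symm)
  have fixed_pts : ∀ x ∈ R, ∀ p ∈ F, x * p * x⁻¹ = p → ∀ q q' q'' : G,
      (∀ ζ, (ζ = 1 ∨ ζ = z) → p ≠ ζ * q' ∧ p ≠ ζ * q'') →
      ({q, q', q''} : Set G) = {a, b, c} → p = 1 ∨ p = z ∨ p = q ∨ p = z * q := by
    intro x hx p hp hfix q q' q'' hne hset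
    obtain ⟨ζ, hζ, e⟩ := hFcases p hp
    rcases e with e | e
    · rcases hζ with rfl | rfl
      · exact Or.inl e
      · exact Or.inr (Or.inl e)
    have hmem : ∃ v, v ∈ ({q, q', q''} : Set G) ∧ p = ζ * v := by
      rw [hset]
      rcases e with e | e | e
      · exact ⟨a, by simp, e⟩
      · exact ⟨b, by simp, e⟩
      · exact ⟨c, by simp, e⟩
    obtain ⟨v, hv, e'⟩ := hmem
    rcases hv with rfl | rfl | rfl
    · rcases hζ with rfl | rfl
      · exact Or.inr (Or.inr (Or.inl (by rw [e', one_mul])))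
      · exact Or.inr (Or.inr (Or.inr e'))
    · exact absurd e' (hne ζ hζ).1
    · exact absurd e' (hne ζ hζ).2
  have not_fixed : ∀ x ∈ R, ∀ q : G, x * q * x⁻¹ = z * q → ∀ p : G, x * p * x⁻¹ = p →
      ∀ ζ, (ζ = 1 ∨ ζ = z) → p ≠ ζ * q := by
    intro x hx q hq p hp ζ hζ e
    rw [e, show x * (ζ * q) * x⁻¹ = (x * ζ * x⁻¹) * (x * q * x⁻¹) by group, hq,
      ← (h.rs.z_comm hζ hx).eq, mul_inv_cancel_right] at hp
    exact h.ctx.z_ne (mul_eq_right.1 (mul_left_cancel hp))
  obtain ⟨c1, cx1, iy1⟩ := core a x₁ hx₁ x₃ hx₃R o₁ ho₁ hz₁ ha ha1 e1a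
    (fun p hp hpf => fixed_pts x₁ hx₁ p hp hpf a b c (fun ζ hζ =>
      ⟨not_fixed x₁ hx₁ b e1b p hpf ζ hζ, not_fixed x₁ hx₁ c e1c p hpf ζ hζ⟩) rfl)
    (notF x₁ hx₁ b hb e1b) e3a
  obtain ⟨c2, cx2, iy2⟩ := core b x₂ hx₂ x₃ hx₃R o₂ ho₂ hz₂ hb hb1 e2b
    (fun p hp hpf => fixed_pts x₂ hx₂ p hp hpf b a c (fun ζ hζ =>
      ⟨not_fixed x₂ hx₂ a e2a p hpf ζ hζ, not_fixed x₂ hx₂ c e2c p hpf ζ hζ⟩)
      (Set.insert_comm b a {c})) (notF x₂ hx₂ a ha e2a) e3b
  obtain ⟨c3, cx3, -⟩ := core c x₃ hx₃R x₁ hx₁ o₃ ho₃ hz₃ hcF hc1 e3c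
    (fun p hp hpf => fixed_pts x₃ hx₃R p hp hpf c a b (fun ζ hζ =>
      ⟨not_fixed x₃ hx₃R a e3a p hpf ζ hζ, not_fixed x₃ hx₃R b e3b p hpf ζ hζ⟩)
      (by rw [Set.insert_comm c a, Set.pair_comm c b])) (notF x₃ hx₃R a ha e3a) e1c
  refine false_of_three_elements O hOodd hO15 ho₁ ho₂ ho₃ c1 c2 c3 (fun hm => ?_) iy1 iy2 cx3
  obtain ⟨k, hk⟩ := Subgroup.mem_zpowers_iff.1 hm
  have hcm : inv x₁ hx₁ * o₂ * (inv x₁ hx₁)⁻¹ = o₂ := by rw [← hk, ← conj_zpow, cx1]
  have := (hconjO x₁ hx₁ o₂ ho₂).2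
  rw [hcm, hz₂, show x₁ * (z * b) * x₁⁻¹ = (x₁ * z * x₁⁻¹) * (x₁ * b * x₁⁻¹) by group,
    conjz x₁ hx₁, e1b] at this
  exact h.ctx.z_ne (mul_eq_right.1 (mul_left_cancel this).symm)

end

/-- The centre of `R` is larger when `R` has more than eight elements. -/
theorem false_of_one_central (h8 : 8 < Nat.card R)
    (hZ : ∀ w ∈ R, (∀ r ∈ R, Commute w r) → w = 1 ∨ w = z) : False := by
  obtain ⟨a, ha, haP, ha2, ha1, haz⟩ := h.exists_singular_fixed h8 hZ
  have h32 := h.card_le_of_singular h8 hZ ha haP ha2 ha1 haz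
  exact h.false_of_extraspecial (h.rs.zTwo_eq_of_card hZ h32) hZ h32 ha ha2 ha1 haz

end S3Cfg

end CfsgLib.SelfCentralSix57
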