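import Cfsg.Agent.SelfCentralSix57.MovedZ

/-!
# A second central involution of `R`
-/

set_option autoImplicit false
set_option linter.style.haveILetI false
set_option linter.unusedSectionVars false

namespace CfsgLib.SelfCentralSix57

open scoped commutatorElement

universe u

variable {G : Type u} [Group G] [Finite G]

namespace S3Cfg

variable {z s u : G} {R W : Subgroup G} (h : S3Cfg z s u R W)
include h

/-- Two subgroups of index two. -/
theorem inv_mul_mem_other {T : Subgroup G} (hTS : T ≤ h.S) (hT : Nat.card T = Nat.card R) {p q : G}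
    (hp : p ∈ R) (hq : q ∈ R) (hp' : p ∉ T) (hq' : q ∉ T) : p⁻¹ * q ∈ T := by
  have hidx : (T.subgroupOf h.S).index = 2 := by
    have h1 := (T.subgroupOf h.S).card_mul_index
    rw [Nat.card_congr (Subgroup.subgroupOfEquivOfLe hTS).toEquiv, h.card_S, ← hT, mul_comm 2] at h1
    exact mul_left_cancel₀ Nat.card_pos.ne' h1
  exact (Subgroup.mul_mem_iff_of_index_two hidx
    (a := (⟨p, h.R_le_S hp⟩ : h.S)⁻¹) (b := ⟨q, h.R_le_S hq⟩)).2
    ⟨fun e => absurd (inv_mem_iff.1 e) hp', fun e => absurd e hq'⟩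

theorem mul_mem_other {T : Subgroup G} (hTS : T ≤ h.S) (hT : Nat.card T = Nat.card R) {p q : G}
    (hp : p ∈ R) (hq : q ∈ R) (hp' : p ∉ T) (hq' : q ∉ T) : p * q ∈ T := by
  have h1 := h.inv_mul_mem_other hTS hT (inv_mem hp) hq (fun e => hp' (inv_mem_iff.1 e)) hq'
  rwa [inv_inv] at h1

theorem other_normal {T : Subgroup G} (hTS : T ≤ h.S) (hT : Nat.card T = Nat.card R) {x t : G}
    (hx : x ∈ h.S) (ht : t ∈ T) : x * t * x⁻¹ ∈ T :=
  conj_mem_of_index_two hTS (by rw [h.card_S, hT]) hx ht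

/-- An involution centralised by the other subgroup has commutators in `⟨z⟩`. -/
theorem comm_of_other {T : Subgroup G} (hTS : T ≤ h.S) (hT : Nat.card T = Nat.card R) (hzT : z ∈ T)
    {b : G} (hbR : b ∈ R) (hbT : b ∈ T) (hb2 : b * b = 1) (hbc : ∀ t ∈ T, Commute b t)
    (hnc : ¬ ∀ r ∈ R, Commute b r) :
    (∀ r ∈ R, r ∉ T → ⁅r, b⁆ = z) ∧ ∃ c ∈ R, c ∈ T ∧ s * c * s⁻¹ ∉ T := by
  classical
  have hzb : Commute z b := (h.rs.central b hbR).symm
  -- the centraliser of `b` in `R` is `R ⊓ T`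
  have hout : ∀ r ∈ R, r ∉ T → ¬ Commute b r := by
    intro x hx hxT hc
    refine hnc fun r hr => ?_
    by_cases hrT : r ∈ T
    · exact hbc r hrT
    · have := hc.mul_right (hbc _ (h.inv_mul_mem_other hTS hT hx hr hxT hrT))
      rwa [mul_inv_cancel_left] at this
  obtain ⟨x, hx, hxT⟩ : ∃ x ∈ R, x ∉ T := by
    by_contra hcon
    push Not at hcon
    exact hnc fun r hr => hbc r (hcon r hr)
  -- not invariant under `s`
  obtain ⟨c, hc, hcT, hsc⟩ : ∃ c ∈ R, c ∈ T ∧ s * c * s⁻¹ ∉ T := by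
    by_contra hcon
    push Not at hcon
    have hx' : s * x * s⁻¹ ∉ T := fun hm => hxT (by
      have h1 := hcon _ (h.rs.act x hx) hm
      have h2 := hcon _ (h.rs.act _ (h.rs.act x hx)) h1
      rwa [h.rs.s_cubed] at h2)
    obtain ⟨n, hn, hcn⟩ := exists_fixed h.ctx.s_cube (N := R ⊓ T)
      (fun h3 => h.rs.three (h3.trans (Subgroup.card_dvd_of_le inf_le_left)))
      (fun v hv => ⟨h.rs.act v hv.1, hcon v hv.1 hv.2⟩)
      (x := x) (Subgroup.mem_inf.2 ⟨mul_mem (inv_mem hx) (h.rs.act x hx),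
        h.inv_mul_mem_other hTS hT hx (h.rs.act x hx) hxT hx'⟩)
    refine hxT ?_
    have : x * n ∈ T := by
      rcases h.rs.fixed (mul_mem hx hn.1) hcn with e | e <;> rw [e]
      · exact one_mem T
      · exact hzT
    exact (Subgroup.mul_mem_cancel_right T hn.2).1 this
  refine ⟨?_, c, hc, hcT, hsc⟩
  set w := ⁅x, b⁆ with hw
  have hconj : ∀ r ∈ R, r ∉ T → r * b * r⁻¹ = x * b * x⁻¹ := by
    intro r hr hrT
    have h1 := hbc _ (h.inv_mul_mem_other hTS hT hx hr hxT hrT)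
    calc r * b * r⁻¹ = x * ((x⁻¹ * r) * b * (x⁻¹ * r)⁻¹) * x⁻¹ := by group
      _ = _ := by rw [← h1.eq, mul_inv_cancel_right]
  have hxbc : ∀ t ∈ T, Commute (x * b * x⁻¹) t := by
    intro t ht
    have h1 := (hbc _ (h.other_normal hTS hT (inv_mem (h.R_le_S hx)) ht)).map
      (MulAut.conj x).toMonoidHom
    simpa [mul_assoc] using h1
  have hwR : w ∈ R := mul_mem (mul_mem (mul_mem hx hbR) (inv_mem hx)) (inv_mem hbR)
  have hwc : ∀ t ∈ T, Commute w t := fun t ht => (hxbc t ht).mul_left (hbc t ht).inv_left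
  have hw2 : w * w = 1 := by
    have h1 : Commute (x * b * x⁻¹) b⁻¹ := (hxbc b hbT).inv_right
    rw [hw, commutatorElement_def, h1.symm.mul_mul_mul_comm, show x * b * x⁻¹ * (x * b * x⁻¹) =
      x * (b * b) * x⁻¹ by group, hb2, ← mul_inv_rev, hb2]
    group
  have hb' : b⁻¹ = b := inv_eq_of_mul_eq_one_right hb2
  have hwz : ∀ r ∈ R, Commute w r := by
    intro r hr
    by_cases hrT : r ∈ T
    · exact hwc r hrT
    · have h1 := hbc _ (h.mul_mem_other hTS hT hr hx hrT hxT)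
      have h2 : r * (x * b * x⁻¹) * r⁻¹ = b := by
        calc r * (x * b * x⁻¹) * r⁻¹ = (r * x) * b * (r * x)⁻¹ := by group
          _ = b := by rw [← h1.eq, mul_inv_cancel_right]
      have h3 : r * w * r⁻¹ = w := by
        calc r * w * r⁻¹ = r * (x * b * x⁻¹) * r⁻¹ * (r * b * r⁻¹)⁻¹ := by
              rw [hw, commutatorElement_def]; group
          _ = w⁻¹ := by rw [h2, hconj r hr hrT, hw, commutatorElement_def]; group
          _ = w := inv_eq_of_mul_eq_one_right hw2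
      exact (mul_inv_eq_iff_eq_mul.1 h3).symm
  have hval : ∀ r ∈ R, r ∉ T → ⁅r, b⁆ = w := fun r hr hrT => by
    rw [hw, commutatorElement_def, commutatorElement_def, hconj r hr hrT]
  suffices hwz' : w = z by intro r hr hrT; rw [hval r hr hrT, hwz']
  have hw1 : w ≠ 1 := fun e => hout x hx hxT (commutatorElement_eq_one_iff_commute.1 e).symm
  by_contra hne
  have fixw : ∀ {v : G}, v ∈ R → s * v * s⁻¹ = v → v = 1 ∨ v = z := fun hv e =>
    h.rs.fixed hv (mul_inv_eq_iff_eq_mul.1 e).symm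
  set w₁ := s * w * s⁻¹ with hw₁
  have hw12 : w₁ ≠ w := fun e => (fixw hwR e).elim hw1 hne
  have hcases : ∀ r ∈ R, ⁅r, b⁆ = 1 ∨ ⁅r, b⁆ = w := by
    intro r hr
    by_cases hrT : r ∈ T
    · exact Or.inl (commutatorElement_eq_one_iff_commute.2 (hbc r hrT).symm)
    · exact Or.inr (hval r hr hrT)
  set b₁ := s * b * s⁻¹ with hb₁
  set b₂ := s * b₁ * s⁻¹ with hb₂
  have hb₁R : b₁ ∈ R := h.rs.act b hbR
  have hb₂R : b₂ ∈ R := h.rs.act b₁ hb₁R
  have hs' : ∀ v ∈ R, s⁻¹ * v * s ∈ R := fun v hv => by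
    simpa using h.normR s⁻¹ h.ctx.comm.symm.inv_left v hv
  have shift : ∀ r v : G, ⁅r, s * v * s⁻¹⁆ = s * ⁅s⁻¹ * r * s, v⁆ * s⁻¹ := fun r v => by
    simp only [commutatorElement_def]; group
  have hcases₁ : ∀ r ∈ R, ⁅r, b₁⁆ = 1 ∨ ⁅r, b₁⁆ = w₁ := by
    intro r hr
    rw [hb₁, shift]
    rcases hcases _ (hs' r hr) with e | e <;> rw [e]
    · exact Or.inl (by group)
    · exact Or.inr rfl
  have hb01 : Commute b b₁ := by
    rcases hcases₁ b hbR with e | e
    · exact commutatorElement_eq_one_iff_commute.1 e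
    · rcases hcases b₁ hb₁R with e' | e'
      · exact (commutatorElement_eq_one_iff_commute.1 e').symm
      · refine absurd ?_ hw12
        rw [← e, ← commutatorElement_inv, e', inv_eq_of_mul_eq_one_right hw2]
  have hb12 : Commute b₁ b₂ := hb01.map (MulAut.conj s).toMonoidHom
  have hb20 : Commute b₂ b := by
    have h1 : Commute b₂ (s * b₂ * s⁻¹) := hb12.map (MulAut.conj s).toMonoidHom
    rwa [hb₂, hb₁, h.rs.s_cubed, ← hb₁, ← hb₂] at h1
  have hp : b * b₁ * b₂ = 1 ∨ b * b₁ * b₂ = z := by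
    refine fixw (mul_mem (mul_mem hbR hb₁R) hb₂R) ?_
    calc s * (b * b₁ * b₂) * s⁻¹ = b₁ * b₂ * (s * b₂ * s⁻¹) := by rw [hb₂, hb₁]; group
      _ = b₁ * b₂ * b := by rw [hb₂, hb₁, h.rs.s_cubed]
      _ = b * b₁ * b₂ := by rw [(hb01.symm.mul_left hb20).eq, ← mul_assoc]
  -- evaluate at a suitable element
  set r := s * c * s⁻¹ with hr
  have hrR : r ∈ R := h.rs.act c hc
  have hrb : r * b * r⁻¹ = w * b := by
    rw [← hval r hrR hsc, commutatorElement_def, inv_mul_cancel_right]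
  have hrb₁ : r * b₁ * r⁻¹ = b₁ := by
    rw [hr, hb₁, show s * c * s⁻¹ * (s * b * s⁻¹) * (s * c * s⁻¹)⁻¹ = s * (c * b * c⁻¹) * s⁻¹ by
      group, ← (hbc c hcT).eq, mul_inv_cancel_right]
  have hrb₂ : r * b₂ * r⁻¹ = w * b₂ := by
    have e1 : r * (b * b₁ * b₂) * r⁻¹ = b * b₁ * b₂ := by
      rcases hp with e | e <;> rw [e]
      · group
      · rw [(h.rs.central r hrR).eq, mul_inv_cancel_right]
    have e2 : r * (b * b₁ * b₂) * r⁻¹ = (w * b) * b₁ * (r * b₂ * r⁻¹) := by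
      rw [← hrb]; conv_rhs => rw [← hrb₁]
      group
    rw [e2] at e1
    have hwb : Commute w (b * b₁) := hwz _ (mul_mem hbR hb₁R)
    rw [mul_assoc w, hwb.eq, mul_assoc (b * b₁)] at e1
    have e3 := mul_left_cancel e1
    calc r * b₂ * r⁻¹ = w * (w * (r * b₂ * r⁻¹)) := by rw [← mul_assoc w w, hw2, one_mul]
      _ = _ := by rw [e3]
  have hw₂ : ⁅r, b₂⁆ = w := by rw [commutatorElement_def, hrb₂, mul_inv_cancel_right]
  have hw₂' : ⁅r, b₂⁆ = s * w₁ * s⁻¹ := by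
    rw [hb₂, shift]
    rcases hcases₁ _ (hs' r hrR) with e | e
    · exfalso
      rw [hb₂, shift, e] at hw₂
      exact hw1 (by rw [← hw₂]; group)
    · rw [e]
  refine hw12 ?_
  have e4 : s * (s * w * s⁻¹) * s⁻¹ = w := by rw [← hw₁, ← hw₂']; exact hw₂
  have e5 := congrArg (fun v => s * v * s⁻¹) e4
  simp only [h.rs.s_cubed] at e5
  exact e5.symm

/-- An involution of `S` centralised by the other subgroup lies in `R`. -/
theorem mem_of_other (h8 : 8 < Nat.card R) {T : Subgroup G} (hTS : T ≤ h.S)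
    (hT : Nat.card T = Nat.card R) {x : G} (hx : x ∈ h.S) (hxc : ∀ t ∈ T, Commute x t) : x ∈ R := by
  by_contra hxR
  obtain ⟨k, hk⟩ := h.two_power hx
  have := h.card_le_eight (h.S_z hx) hk hxR (I := R ⊓ T) inf_le_left
    (fun p hp q hq hp' hq' => Subgroup.mem_inf.2 ⟨mul_mem (inv_mem hp) hq,
      h.inv_mul_mem_other hTS hT hp hq (fun e => hp' ⟨hp, e⟩) (fun e => hq' ⟨hq, e⟩)⟩)
    fun v hv => Or.inl (commutatorElement_eq_one_iff_commute.2 (hxc v hv.2))
  omega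

/-- The elementary central part of `R`. -/
def zOne (_h : S3Cfg z s u R W) : Subgroup G where
  carrier := {x | x ∈ R ∧ x * x = 1 ∧ ∀ r ∈ R, Commute x r}
  one_mem' := ⟨one_mem R, one_mul 1, fun r _ => Commute.one_left r⟩
  mul_mem' := by
    rintro p q ⟨hp, hp2, hpc⟩ ⟨hq, hq2, hqc⟩
    exact ⟨mul_mem hp hq, by rw [(hpc q hq).symm.mul_mul_mul_comm, hp2, hq2, one_mul],
      fun r hr => (hpc r hr).mul_left (hqc r hr)⟩
  inv_mem' := by
    rintro p ⟨hp, hp2, hpc⟩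
    exact ⟨inv_mem hp, by rw [← mul_inv_rev, hp2, inv_one], fun r hr => (hpc r hr).inv_left⟩

theorem conj_zOne {x p : G} (hx : Commute x z) (hp : p ∈ h.zOne) : x * p * x⁻¹ ∈ h.zOne := by
  refine ⟨h.normR x hx p hp.1, ?_, fun r hr => ?_⟩
  · rw [show x * p * x⁻¹ * (x * p * x⁻¹) = x * (p * p) * x⁻¹ by group, hp.2.1]; group
  · have h1 := (hp.2.2 _ (h.normR x⁻¹ hx.inv_left r hr)).map (MulAut.conj x).toMonoidHom
    simpa [mul_assoc] using h1

/-- There is no second central involution when `R` has more than eight elements. -/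
theorem false_of_two_central (h8 : 8 < Nat.card R) {w0 : G} (hw0 : w0 ∈ R) (hw02 : orderOf w0 = 2)
    (hw0z : w0 ≠ z) (hw0c : ∀ r ∈ R, Commute w0 r) : False := by
  classical
  haveI : Fact (Nat.Prime 2) := ⟨Nat.prime_two⟩
  set Z := h.zOne with hZdef
  have hzZ : z ∈ Z := ⟨h.zR, h.ctx.z_sq, fun r hr => (h.rs.central r hr).symm⟩
  have hZs : ∀ p ∈ Z, s * p * s⁻¹ ∈ Z := fun p hp => h.conj_zOne h.ctx.comm.symm hp
  have hZu : ∀ p ∈ Z, u * p * u⁻¹ ∈ Z := fun p hp => h.conj_zOne h.u_z hp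
  have cZ : ∀ {p q : G}, p ∈ Z → q ∈ Z → Commute p q := fun hp hq => hp.2.2 _ hq.1
  set nm : G → G := fun p => p * (s * p * s⁻¹) * (s * (s * p * s⁻¹) * s⁻¹) with hnm
  have nm_mul : ∀ p ∈ Z, ∀ q ∈ Z, nm (p * q) = nm p * nm q := by
    intro p hp q hq
    simp only [hnm]
    rw [show s * (p * q) * s⁻¹ = (s * p * s⁻¹) * (s * q * s⁻¹) by group,
      show s * (s * p * s⁻¹ * (s * q * s⁻¹)) * s⁻¹ =
        (s * (s * p * s⁻¹) * s⁻¹) * (s * (s * q * s⁻¹) * s⁻¹) by group,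
      (cZ hq (hZs p hp)).mul_mul_mul_comm,
      ((cZ (mul_mem hq (hZs q hq)) (hZs _ (hZs p hp)))).mul_mul_mul_comm]
  have nm_z : nm z = z := by
    simp only [hnm, h.rs.s_z, h.ctx.z_sq, one_mul]
  set P : Subgroup G :=
    { carrier := {p | p ∈ Z ∧ nm p = 1}
      one_mem' := ⟨one_mem Z, by simp [hnm]⟩
      mul_mem' := fun {p q} hp hq => ⟨mul_mem hp.1 hq.1, by
        rw [nm_mul p hp.1 q hq.1, hp.2, hq.2, one_mul]⟩
      inv_mem' := fun {p} hp => by
        show p⁻¹ ∈ Z ∧ nm p⁻¹ = 1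
        rw [inv_eq_of_mul_eq_one_right hp.1.2.1]
        exact hp } with hPdef
  have hPn : ∀ x ∈ h.S, ∀ p ∈ P, x * p * x⁻¹ ∈ P := by
    have hu : ∀ p ∈ P, u * p * u⁻¹ ∈ P := by
      rintro p ⟨hp, hp1⟩
      refine ⟨hZu p hp, ?_⟩
      have hs' : ∀ v : G, s * (u * v * u⁻¹) * s⁻¹ = u * (s⁻¹ * v * s) * u⁻¹ := fun v => by
        have e : u * s⁻¹ * u⁻¹ = s := by
          have := congrArg (·⁻¹) h.u_inv
          simpa [mul_assoc] using this
        calc s * (u * v * u⁻¹) * s⁻¹ = (u * s⁻¹ * u⁻¹) * (u * v * u⁻¹) * (u * s⁻¹ * u⁻¹)⁻¹ := by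
              rw [e]
          _ = _ := by group
      have e1 : s⁻¹ * p * s = s * (s * p * s⁻¹) * s⁻¹ := by
        conv_lhs => rw [← h.rs.s_cubed p]
        group
      have e2 : s⁻¹ * (s⁻¹ * p * s) * s = s * p * s⁻¹ := by rw [e1]; group
      simp only [hnm] at hp1 ⊢
      rw [hs', hs', e1, show s⁻¹ * (s * (s * p * s⁻¹) * s⁻¹) * s = s * p * s⁻¹ by group,
        show u * p * u⁻¹ * (u * (s * (s * p * s⁻¹) * s⁻¹) * u⁻¹) * (u * (s * p * s⁻¹) * u⁻¹) =
          u * (p * ((s * (s * p * s⁻¹) * s⁻¹) * (s * p * s⁻¹))) * u⁻¹ by group,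
        (cZ (hZs _ (hZs p hp)) (hZs p hp)).eq, ← mul_assoc p, hp1]
      group
    intro x hx p hp
    rcases h.mem_S.1 hx with hx | ⟨r, hr, rfl⟩
    · rwa [← (hp.1.2.2 x hx).eq, mul_inv_cancel_right]
    · rw [show r * u * p * (r * u)⁻¹ = r * (u * p * u⁻¹) * r⁻¹ by group,
        ← ((hu p hp).1.2.2 r hr).eq, mul_inv_cancel_right]
      exact hu p hp
  have hPne : P ≠ ⊥ := fun e => by
    have hw0Z : w0 ∈ Z := ⟨hw0, by rw [← sq, ← hw02, pow_orderOf_eq_one], hw0c⟩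
    have hbot : ∀ p ∈ P, p = 1 := fun p hp => Subgroup.mem_bot.1 (e ▸ hp)
    rcases h.rs.norm hw0 with e' | e'
    · have := hbot w0 ⟨hw0Z, e'⟩
      rw [this, orderOf_one] at hw02
      omega
    · have h1 := hbot (w0 * z) ⟨mul_mem hw0Z hzZ, by
        rw [nm_mul w0 hw0Z z hzZ, nm_z, show nm w0 = z from e', h.ctx.z_sq]⟩
      refine hw0z ?_
      rw [eq_inv_of_mul_eq_one_left h1, h.ctx.z_inv]
  obtain ⟨a, ⟨haZ, hanm⟩, ha2, hac⟩ := exists_central_involution h.S_two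
    (show P ≤ h.S from fun p hp => h.R_le_S hp.1.1) hPn hPne
  have haz : a ≠ z := fun e => h.ctx.z_ne (by rw [← nm_z, ← e]; exact hanm)
  have ha1 : a ≠ 1 := fun e => by rw [e, orderOf_one] at ha2; omega
  -- the conjugating element
  obtain ⟨Q, hQ'⟩ := h.sylow
  have hQ : (Q : Subgroup G) = h.S := hQ'
  obtain ⟨g0, hg0⟩ := isConj_iff.1 (h.hconj z a h.ctx.z_ord ha2)
  obtain ⟨n, hn, hn'⟩ := Sylow.conj_eq_normalizer_conj_of_mem_centralizer Q z g0⁻¹
    (Subgroup.mem_centralizer_iff.2 fun x hx => (h.S_z (hQ ▸ hx)).eq)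
    (by
      rw [inv_inv, hg0]
      exact Subgroup.mem_centralizer_iff.2 fun x hx => ((hac x (hQ ▸ hx)).eq).symm)
  set g := n⁻¹ with hgdef
  have hg : g * z * g⁻¹ = a := by rw [hgdef, inv_inv, ← hn', inv_inv, hg0]
  have hgS : ∀ x ∈ h.S, g * x * g⁻¹ ∈ h.S := fun x hx => by
    rw [← hQ] at hx ⊢
    exact ((Subgroup.mem_normalizer_iff.1 (inv_mem hn)) x).1 hx
  set T : Subgroup G := R.map (MulAut.conj g).toMonoidHom with hTdef
  have hT : Nat.card T = Nat.card R :=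
    Subgroup.card_map_of_injective (f := (MulAut.conj g).toMonoidHom) (MulAut.conj g).injective
  set h' := h.conj g
  have hS' : h'.S = h.S := by
    rw [h.conj_S g]
    refine Subgroup.eq_of_le_of_card_ge ?_
      (by rw [Subgroup.card_map_of_injective (f := (MulAut.conj g).toMonoidHom)
        (MulAut.conj g).injective])
    rintro _ ⟨x, hx, rfl⟩
    exact hgS x hx
  have hTS : T ≤ h.S := hS' ▸ h'.R_le_S
  have hRS' : R ≤ h'.S := hS'.symm ▸ h.R_le_S
  have hTR : T ≠ R := fun e => h.not_normal_of_moved (g := g)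
    (fun r hr => e.le ⟨r, hr, rfl⟩) fun hc => haz (by
      rw [← hg, hc.eq, mul_inv_cancel_right])
  have hZT : ∀ p ∈ Z, p ∈ T := fun p hp =>
    h'.mem_of_other (hT.symm ▸ h8) hRS' hT.symm (hS'.symm ▸ h.R_le_S hp.1) hp.2.2
  set Z' : Subgroup G := Z.map (MulAut.conj g).toMonoidHom with hZ'def
  have hZ'c : ∀ b ∈ Z', b ∈ T ∧ b * b = 1 ∧ ∀ t ∈ T, Commute b t := by
    rintro _ ⟨p, hp, rfl⟩
    refine ⟨⟨p, hp.1, rfl⟩, ?_, ?_⟩
    · rw [← map_mul, hp.2.1, map_one]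
    · rintro _ ⟨r, hr, rfl⟩
      exact (hp.2.2 r hr).map _
  have hZ'R : ∀ b ∈ Z', b ∈ R := fun b hb =>
    h.mem_of_other h8 hTS hT (hTS (hZ'c b hb).1) (hZ'c b hb).2.2
  -- the action of `u` on `Z`
  have hus : ∀ p : G, u * (s⁻¹ * p * s) * u⁻¹ = s * (u * p * u⁻¹) * s⁻¹ := fun p => by
    have e : u * s⁻¹ * u⁻¹ = s := by
      have := congrArg (·⁻¹) h.u_inv
      simpa [mul_assoc] using this
    calc u * (s⁻¹ * p * s) * u⁻¹ = (u * s⁻¹ * u⁻¹) * (u * p * u⁻¹) * (u * s⁻¹ * u⁻¹)⁻¹ := by group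
      _ = _ := by rw [e]
  have hfix2 : ∀ p ∈ R, u * p * u⁻¹ = p → u * (s⁻¹ * p * s) * u⁻¹ = s⁻¹ * p * s →
      p = 1 ∨ p = z := by
    intro p hp e1 e2
    rw [hus, e1] at e2
    refine h.rs.fixed hp (mul_inv_eq_iff_eq_mul.1 ?_).symm
    have e3 := congrArg (fun v => s * v * s⁻¹) e2
    have e4 : s * (s * p * s⁻¹) * s⁻¹ = p := by rw [e3]; group
    have e5 := congrArg (fun v => s * v * s⁻¹) e4
    simp only [h.rs.s_cubed] at e5
    exact e5.symm
  have hau : u * a * u⁻¹ = a := by rw [← (hac u h.u_mem_S).eq, mul_inv_cancel_right]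
  obtain ⟨x, hxT, hxR⟩ : ∃ x ∈ T, x ∉ R := Set.not_subset.1 fun hle =>
    hTR (Subgroup.eq_of_le_of_card_ge hle hT.ge)
  obtain ⟨r0, hr0, hxu⟩ := (h.mem_S.1 (hTS hxT)).resolve_left hxR
  -- `u` and the other subgroup act alike on `Z`
  have hxact : ∀ p ∈ Z, x * p * x⁻¹ = u * p * u⁻¹ := fun p hp => by
    rw [hxu, show r0 * u * p * (r0 * u)⁻¹ = r0 * (u * p * u⁻¹) * r0⁻¹ by group,
      ← ((hZu p hp).2.2 r0 hr0).eq, mul_inv_cancel_right]
  obtain ⟨b, hbZ', hbZ⟩ : ∃ b ∈ Z', b ∉ Z := by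
    refine Set.not_subset.1 fun hle => ?_
    have heq : Z' = Z := Subgroup.eq_of_le_of_card_ge hle
      (by rw [Subgroup.card_map_of_injective (f := (MulAut.conj g).toMonoidHom)
        (MulAut.conj g).injective])
    have key : ∀ p ∈ Z, u * p * u⁻¹ = p := fun p hp => by
      rw [← hxact p hp, ← ((hZ'c p (heq.ge hp)).2.2 x hxT).eq, mul_inv_cancel_right]
    rcases hfix2 a haZ.1 hau (key _ (by simpa using h.conj_zOne h.ctx.comm.symm.inv_left haZ)) with
      e | e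
    · exact ha1 e
    · exact haz e
  have hbR := hZ'R b hbZ'
  obtain ⟨hbT, hb2, hbc⟩ := hZ'c b hbZ'
  have hbnc : ¬ ∀ r ∈ R, Commute b r := fun hc => hbZ ⟨hbR, hb2, hc⟩
  obtain ⟨hbz, c, hc, hcT, hsc⟩ := h.comm_of_other hTS hT (hZT z hzZ) hbR hbT hb2 hbc hbnc
  -- transvections
  have hua : ∀ p ∈ Z, u * p * u⁻¹ = p ∨ u * p * u⁻¹ = a * p := by
    intro p hp
    rw [← hxact p hp]
    by_cases hc' : ∀ t ∈ T, Commute p t
    · exact Or.inl (by rw [← (hc' x hxT).eq, mul_inv_cancel_right])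
    · obtain ⟨hv, -⟩ := h'.comm_of_other hRS' hT.symm (hg.symm ▸ haZ.1) (hZT p hp) hp.1 hp.2.1
        hp.2.2 hc'
      refine Or.inr ?_
      have h1 : x * p * x⁻¹ * p⁻¹ = g * z * g⁻¹ := by
        rw [← commutatorElement_def]; exact hv x hxT hxR
      rw [← hg, ← h1, inv_mul_cancel_right]
  have huinv : ∀ p ∈ Z, u * p * u⁻¹ ≠ p → ∀ q ∈ Z, u * q * u⁻¹ ≠ q →
      u * (p * q) * u⁻¹ = p * q := by
    intro p hp hp' q hq hq'
    rw [show u * (p * q) * u⁻¹ = (u * p * u⁻¹) * (u * q * u⁻¹) by group,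
      (hua p hp).resolve_left hp', (hua q hq).resolve_left hq',
      ((cZ haZ hp).symm).mul_mul_mul_comm, haZ.2.1, one_mul]
  have hZs' : ∀ p ∈ Z, s⁻¹ * p * s ∈ Z := fun p hp => by
    simpa using h.conj_zOne h.ctx.comm.symm.inv_left hp
  have hua' : u * (s⁻¹ * a * s) * u⁻¹ ≠ s⁻¹ * a * s := fun e =>
    (hfix2 a haZ.1 hau e).elim ha1 haz
  have hfixed : ∀ p ∈ Z, u * p * u⁻¹ = p →
      (p = 1 ∨ p = z) ∨ (p = a ∨ p = z * a) := by
    intro p hp hpu
    by_cases he : u * (s⁻¹ * p * s) * u⁻¹ = s⁻¹ * p * s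
    · exact Or.inl (hfix2 p hp.1 hpu he)
    · refine Or.inr ?_
      have e1 := huinv _ (hZs' p hp) he _ (hZs' a haZ) hua'
      rw [show s⁻¹ * p * s * (s⁻¹ * a * s) = s⁻¹ * (p * a) * s by group] at e1
      have e2 : u * (p * a) * u⁻¹ = p * a := by
        rw [show u * (p * a) * u⁻¹ = (u * p * u⁻¹) * (u * a * u⁻¹) by group, hpu, hau]
      have e3 : p = p * a * a := by rw [mul_assoc, haZ.2.1, mul_one]
      rcases hfix2 (p * a) (mul_mem hp.1 haZ.1) e2 e1 with e | e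
      · exact Or.inl (by rw [e3, e, one_mul])
      · exact Or.inr (by rw [e3, e])
  have hZ8 : Nat.card Z ≤ 8 := by
    set F : Finset G := {1, z, a, z * a}
    have hsub : (Z : Set G) ⊆ (F : Set G) ∪ (fun q => (s⁻¹ * a * s) * q) '' (F : Set G) := by
      intro p hp
      have inF : ∀ q, ((q = 1 ∨ q = z) ∨ (q = a ∨ q = z * a)) → q ∈ (F : Set G) := by
        rintro q ((rfl | rfl) | (rfl | rfl)) <;> simp [F]
      by_cases he : u * p * u⁻¹ = p
      · exact Or.inl (inF p (hfixed p hp he))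
      · refine Or.inr ⟨_, inF _ (hfixed _ (mul_mem (hZs' a haZ) hp)
          (huinv _ (hZs' a haZ) hua' p hp he)), ?_⟩
        show s⁻¹ * a * s * (s⁻¹ * a * s * p) = p
        rw [← mul_assoc, (hZs' a haZ).2.1, one_mul]
    have h1 := (Set.ncard_le_ncard hsub (Set.toFinite _)).trans (Set.ncard_union_le _ _)
    have h2 : ((fun q => (s⁻¹ * a * s) * q) '' (F : Set G)).ncard ≤ (F : Set G).ncard :=
      Set.ncard_image_le (Set.toFinite _)
    have h3 : (F : Set G).ncard ≤ 4 := by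
      rw [Set.ncard_coe_finset]
      exact Finset.card_le_four
    rw [← Nat.card_coe_set_eq] at h1
    simp only [SetLike.coe_sort_coe] at h1
    omega
  -- the amalgam
  have h2' : S3Sub h'.M₁ h.S T := hS' ▸ h'.s3sub
  have h32 : Nat.card R ≤ 32 := by
    refine h.card_le_of_amalgam h2' hTR fun N hNS hN1 hN2 hne => ?_
    by_cases hzN : z ∈ N
    · exact h.card_le_of_core h2' hTR hNS hN1 hN2 hzN
    obtain ⟨w, hwN, hw2, hwc⟩ := exists_central_involution h.S_two hNS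
      (fun y hy m hm => hN1 y (h.S_le_M₁ hy) m hm) hne
    have hwR : w ∈ R := h.center_mem_R h8 (hNS hwN) hwc
    have hwZ : w ∈ Z := ⟨hwR, by rw [← sq, ← hw2, pow_orderOf_eq_one],
      fun r hr => hwc r (h.R_le_S hr)⟩
    have hwu : u * w * u⁻¹ = w := by rw [← (hwc u h.u_mem_S).eq, mul_inv_cancel_right]
    have hnN : nm w ∈ N := by
      have hsN : ∀ v ∈ N, s * v * s⁻¹ ∈ N := hN1 s h.s_mem_M₁
      exact mul_mem (mul_mem hwN (hsN w hwN)) (hsN _ (hsN w hwN))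
    have hwa : w = a := by
      rcases hfixed w hwZ hwu with (e | e) | (e | e)
      · rw [e, orderOf_one] at hw2; omega
      · exact absurd (e ▸ hwN) hzN
      · exact e
      · rw [e, nm_mul z hzZ a haZ, nm_z, hanm, mul_one] at hnN
        exact absurd hnN hzN
    have h2 : S3Sub h.M₁ h'.S R := hS'.symm ▸ h.s3sub
    exact hT.symm.trans_le (h'.card_le_of_core h2 hTR.symm (hS'.symm ▸ hNS) hN2 hN1
      (hg.symm ▸ hwa ▸ hwN))
  -- the order is thirty-two
  obtain ⟨k, hk⟩ := IsPGroup.iff_card.1 h.rs.two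
  have hk5 : Nat.card R = 32 := by
    have h3 := h.card_R_mod
    rw [hk] at h8 h32 h3 ⊢
    have : k ≤ 5 := by
      by_contra hk6
      have := Nat.pow_le_pow_right (show 1 ≤ 2 by norm_num) (show 6 ≤ k by omega)
      omega
    interval_cases k <;> omega
  have hZ8' : Nat.card Z = 8 := by
    obtain ⟨j, hj⟩ := IsPGroup.iff_card.1 (h.rs.two.to_le (show Z ≤ R from fun p hp => hp.1))
    have hcard : 5 ≤ Nat.card Z := by
      have hsa : s⁻¹ * a * s ∉ ({1, z, a, z * a} : Set G) := by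
        intro hm
        apply hua'
        rcases hm with e | e | e | e
        · rw [e]; group
        · rw [e, h.u_z.eq, mul_inv_cancel_right]
        · rw [e, hau]
        · rw [show s⁻¹ * a * s = z * a from e, show u * (z * a) * u⁻¹ =
            (u * z * u⁻¹) * (u * a * u⁻¹) by group, hau, h.u_z.eq, mul_inv_cancel_right]
      have hsub : insert (s⁻¹ * a * s) ({1, z, a, z * a} : Set G) ⊆ (Z : Set G) := by
        rintro q (rfl | rfl | rfl | rfl | rfl)
        exacts [hZs' a haZ, one_mem Z, hzZ, haZ, mul_mem hzZ haZ]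
      have h1 := Set.ncard_le_ncard hsub (Set.toFinite _)
      have hza : z * a ≠ 1 := fun e => haz (by
        rw [← inv_eq_of_mul_eq_one_right e, h.ctx.z_inv])
      rw [Set.ncard_insert_of_notMem hsa, Set.ncard_insert_of_notMem (by
          simp only [Set.mem_insert_iff, Set.mem_singleton_iff, not_or]
          exact ⟨h.ctx.z_ne.symm, ha1.symm, hza.symm⟩),
        Set.ncard_insert_of_notMem (by
          simp only [Set.mem_insert_iff, Set.mem_singleton_iff, not_or]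
          exact ⟨haz.symm, fun e => ha1 (mul_left_cancel (a := z) (by rw [mul_one]; exact e.symm))⟩),
        Set.ncard_insert_of_notMem (by
          simp only [Set.mem_singleton_iff]
          exact fun e => h.ctx.z_ne (mul_eq_right.1 e.symm)),
        Set.ncard_singleton, ← Nat.card_coe_set_eq] at h1
      exact h1
    rw [hj] at hZ8 hcard ⊢
    have : j ≤ 3 := by
      by_contra hj4
      have := Nat.pow_le_pow_right (show 1 ≤ 2 by norm_num) (show 4 ≤ j by omega)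
      omega
    interval_cases j <;> omega
  -- `R = Z⟨b, b₁⟩`
  have hbn : ∀ p ∈ Z, b * p * b⁻¹ ∈ Z := fun p hp => by
    rw [← (hp.2.2 b hbR).eq, mul_inv_cancel_right]; exact hp
  set H := Z ⊔ Subgroup.zpowers b with hH
  have hH16 : Nat.card H = 16 := by
    rw [card_sup_two hbn (hb2 ▸ one_mem Z) hbZ, hZ8']
  have hHle : H ≤ R ⊓ T := sup_le (fun p hp => ⟨hp.1, hZT p hp⟩)
    (Subgroup.zpowers_le.2 ⟨hbR, hbT⟩)
  have hRT : R ⊓ T = H := by
    refine (Subgroup.eq_of_le_of_card_ge hHle ?_).symm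
    obtain ⟨j, hj⟩ := IsPGroup.iff_card.1 (h.rs.two.to_le (inf_le_left : R ⊓ T ≤ R))
    have hlt : Nat.card ↥(R ⊓ T) < 32 := by
      rw [← hk5]
      refine lt_of_le_of_ne (Subgroup.card_le_of_le inf_le_left) fun e => hsc ?_
      exact ((Subgroup.eq_of_le_of_card_ge inf_le_left e.ge).ge (h.rs.act c hc)).2
    rw [hj] at hlt ⊢
    rw [hH16]
    have : j ≤ 4 := by
      by_contra hj5
      have := Nat.pow_le_pow_right (show 1 ≤ 2 by norm_num) (show 5 ≤ j by omega)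
      omega
    exact Nat.pow_le_pow_right (by norm_num) this
  have memH : ∀ v, v ∈ H ↔ v ∈ Z ∨ ∃ p ∈ Z, v = p * b := fun v =>
    mem_sup_two hbn (hb2 ▸ one_mem Z)
  set b₁ := s * b * s⁻¹ with hb₁
  have hb₁T : b₁ ∉ T := by
    intro hm
    apply hsc
    rcases (memH c).1 (hRT.le (Subgroup.mem_inf.2 ⟨hc, hcT⟩)) with e | ⟨p, hp, rfl⟩
    · exact hZT _ (hZs c e)
    · rw [show s * (p * b) * s⁻¹ = (s * p * s⁻¹) * b₁ by rw [hb₁]; group]
      exact mul_mem (hZT _ (hZs p hp)) hm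
  set b₂ := s * b₁ * s⁻¹ with hb₂
  have hb₂R : b₂ ∈ R := h.rs.act _ (h.rs.act b hbR)
  have hb₂0 : s * b₂ * s⁻¹ = b := h.rs.s_cubed b
  have hb₁2 : b₁ * b₁ = 1 := by
    rw [hb₁, show s * b * s⁻¹ * (s * b * s⁻¹) = s * (b * b) * s⁻¹ by group, hb2]; group
  by_cases hb₂T : b₂ ∈ T
  · rcases (memH b₂).1 (hRT.le (Subgroup.mem_inf.2 ⟨hb₂R, hb₂T⟩)) with e | ⟨p, hp, e⟩
    · exact hbZ (hb₂0 ▸ hZs b₂ e)
    · refine hb₁T ?_
      have e1 : b = (s * p * s⁻¹) * b₁ := by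
        rw [← hb₂0, e, hb₁]; group
      have e2 : b₁ = (s * p * s⁻¹)⁻¹ * b := by rw [e1, inv_mul_cancel_left]
      rw [e2]
      exact mul_mem (inv_mem (hZT _ (hZs p hp))) hbT
  · have hm := h.inv_mul_mem_other hTS hT (h.rs.act b hbR) hb₂R hb₁T hb₂T
    rcases (memH _).1 (hRT.le (Subgroup.mem_inf.2 ⟨mul_mem (inv_mem (h.rs.act b hbR)) hb₂R, hm⟩)) with e | ⟨p, hp, e⟩
    · refine hb₁T ?_
      have e1 : s⁻¹ * (b₁⁻¹ * b₂) * s = b⁻¹ * b₁ := by rw [hb₂, hb₁]; group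
      have e2 := hZs' _ e
      rw [e1] at e2
      have := mul_mem hbT (hZT _ e2)
      rwa [mul_inv_cancel_left] at this
    · -- then `b` commutes with `b₁`
      have e1 : b₂ = b₁ * b * p := by
        rw [mul_assoc, (hp.2.2 b hbR).symm.eq, ← e, mul_inv_cancel_left]
      have hb₂2 : b₂ * b₂ = 1 := by
        rw [hb₂, show s * b₁ * s⁻¹ * (s * b₁ * s⁻¹) = s * (b₁ * b₁) * s⁻¹ by group, hb₁2]; group
      have hpc : Commute p (b₁ * b) := hp.2.2 _ (mul_mem (h.rs.act b hbR) hbR)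
      rw [e1, hpc.mul_mul_mul_comm, hp.2.1, mul_one] at hb₂2
      have e3 : b₁ * b = b * b₁ := by
        have := inv_eq_of_mul_eq_one_right hb₂2
        rw [mul_inv_rev, inv_eq_of_mul_eq_one_right hb2, inv_eq_of_mul_eq_one_right hb₁2] at this
        exact this.symm
      have := hbz b₁ (h.rs.act b hbR) hb₁T
      rw [commutatorElement_eq_one_iff_commute.2 e3] at this
      exact h.ctx.z_ne this.symm

end S3Cfg

end CfsgLib.SelfCentralSix57
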