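import Cfsg.Agent.SelfCentralSix57.Setup
import Cfsg.Agent.SelfCentralSix57.CaseOneFinal
import Cfsg.Agent.SelfCentralSix57.CaseTwo
import Cfsg.Agent.Hayden48.Local
import Cfsg.Agent.Small.Order168Subgroups
import Cfsg.Agent.J1Local.Centralizer
import Cfsg.Agent.S1644

/-!
# The possibilities for the centraliser of an involution
-/

set_option autoImplicit false
set_option linter.style.haveILetI false
set_option linter.unusedSectionVars false

namespace CfsgLib.SelfCentralSix57

universe u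

variable {G : Type u} [Group G] [Finite G]

namespace S3Cfg

variable {z s u : G} {R W : Subgroup G} (h : S3Cfg z s u R W)
include h

/-- The group `R` has at most eight elements. -/
theorem card_le : Nat.card R ≤ 8 := by
  by_contra h8
  push Not at h8
  by_cases hw : ∀ w ∈ R, orderOf w = 2 → (∀ r ∈ R, Commute w r) → w = z
  · exact h.false_of_one_central h8 fun w hwR hwc => h.rs.center_eq hw hwR hwc
  · push Not at hw
    obtain ⟨w, a1, a2, a3, a4⟩ := hw
    exact h.false_of_two_central h8 a1 a2 a4 a3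

/-- The group `R` has two or eight elements. -/
theorem card_cases : Nat.card R = 2 ∨ Nat.card R = 8 := by
  haveI : Fact (Nat.Prime 2) := ⟨Nat.prime_two⟩
  have h8 := h.card_le
  have hm := h.card_R_mod
  obtain ⟨n, hn⟩ := IsPGroup.iff_card.1 h.rs.two
  rw [hn] at h8 hm ⊢
  have hn3 : n ≤ 3 := by
    by_contra hlt
    have := Nat.pow_le_pow_right (n := 2) (by norm_num) (show 4 ≤ n by omega)
    omega
  interval_cases n <;> simp at hm ⊢

end S3Cfg

/-- The simplicity of a section, in the language of quotient groups. -/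
theorem isSimpleGroup_quot {H N : Subgroup G} (hNH : N ≤ H) [(N.subgroupOf H).Normal]
    (hne : N.relIndex H ≠ 1)
    (hsimp : ∀ L : Subgroup G, N ≤ L → L ≤ H → (∀ k ∈ H, ∀ l ∈ L, k * l * k⁻¹ ∈ L) →
      L = N ∨ L = H) : IsSimpleGroup (H ⧸ N.subgroupOf H) := by
  set π := QuotientGroup.mk' (N.subgroupOf H) with hπ
  have hmemN : ∀ x : H, π x = 1 ↔ (x : G) ∈ N := fun x => by
    rw [QuotientGroup.mk'_apply, QuotientGroup.eq_one_iff, Subgroup.mem_subgroupOf]
  haveI : Nontrivial (H ⧸ N.subgroupOf H) := by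
    refine Finite.one_lt_card_iff_nontrivial.1 (lt_of_le_of_ne Nat.card_pos ?_)
    exact fun e => hne e.symm
  exact ⟨fun A hA => by
    have hL : ∀ k ∈ H, ∀ l ∈ (A.comap π).map H.subtype,
        k * l * k⁻¹ ∈ (A.comap π).map H.subtype := by
      rintro k hk _ ⟨m, hm, rfl⟩
      exact ⟨⟨k, hk⟩ * m * ⟨k, hk⟩⁻¹, (hA.comap π).conj_mem _ hm _, rfl⟩
    have hNL : N ≤ (A.comap π).map H.subtype := fun n hn => ⟨⟨n, hNH hn⟩, by
      show π ⟨n, hNH hn⟩ ∈ A
      rw [(hmemN ⟨n, hNH hn⟩).2 hn]; exact one_mem _, rfl⟩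
    rcases hsimp _ hNL (Subgroup.map_subtype_le _) hL with e | e
    · refine Or.inl ((Subgroup.eq_bot_iff_forall _).2 fun q hq => ?_)
      obtain ⟨x, rfl⟩ := QuotientGroup.mk'_surjective _ q
      exact (hmemN x).2 (e.le ⟨x, hq, rfl⟩)
    · refine Or.inr (Subgroup.eq_top_iff' _ |>.2 fun q => ?_)
      obtain ⟨x, rfl⟩ := QuotientGroup.mk'_surjective _ q
      obtain ⟨y, hy, hxy⟩ := e.ge x.2
      rw [← Subtype.ext hxy]
      exact hy⟩

/-- Above a quotient simple of order sixty with 2-kernel, order three normalises a Sylow subgroup. -/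
theorem three_dvd_normalizer {X Q : Type*} [Group X] [Finite X] [Group Q] [Finite Q] [IsSimpleGroup Q]
    (π : X →* Q) (hπs : Function.Surjective π) (hker : IsPGroup 2 π.ker) (hQ : Nat.card Q = 60)
    (P : Sylow 2 X) : π.ker ≤ (P : Subgroup X) ∧
      3 ∣ Nat.card (Subgroup.normalizer ((P : Subgroup X) : Set X)) := by
  haveI : Fact (Nat.Prime 2) := ⟨Nat.prime_two⟩
  have hkP : π.ker ≤ (P : Subgroup X) := by
    obtain ⟨R, hR⟩ := hker.exists_le_sylow
    obtain ⟨g, hg⟩ := MulAction.exists_smul_eq X R P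
    intro x hx
    rw [← hg, Sylow.coe_subgroup_smul, Subgroup.mem_pointwise_smul_iff_inv_smul_mem]
    apply hR
    simpa [mul_assoc] using (MonoidHom.normal_ker π).conj_mem x hx g⁻¹
  refine ⟨hkP, ?_⟩
  have hidx : (Subgroup.normalizer ((P : Subgroup X) : Set X)).index = Nat.card (Sylow 2 Q) := by
    have h1 := (P.mapSurjective hπs).card_eq_index_normalizer
    have h2 : ((P.mapSurjective hπs : Sylow 2 Q) : Set Q) =
        (((P : Subgroup X).map π : Subgroup Q) : Set Q) := rfl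
    rw [h2] at h1
    rw [h1, ← Subgroup.index_comap_of_surjective _ hπs,
      Subgroup.comap_normalizer_eq_of_surjective _ hπs, Subgroup.comap_map_eq, sup_eq_left.2 hkP]
  have h1 := (Subgroup.normalizer ((P : Subgroup X) : Set X)).card_mul_index
  rw [hidx] at h1
  have h3 : 3 ∣ Nat.card X := by
    have h4 := π.ker.index_mul_card
    rw [Subgroup.index_ker, MonoidHom.range_eq_top.2 hπs, Subgroup.card_top, hQ] at h4
    exact ⟨20 * Nat.card π.ker, by rw [← h4]; ring⟩
  rw [← h1] at h3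
  exact (Nat.prime_three.dvd_mul.1 h3).resolve_right (Hayden48.card_sylow_two_of_sixty hQ)

namespace Ctx

variable {z s : G} (c : Ctx z s)
include c

/-- The quotient is not of order 168. -/
theorem false_of_168 (hconj : ∀ x y : G, orderOf x = 2 → orderOf y = 2 → IsConj x y)
    [IsSimpleGroup G] (hG : ¬ IsMulCommutative G)
    (hi : (Subgroup.zpowers z).relIndex (Subgroup.centralizer ({z} : Set G)) = 168)
    (hsimp : ∀ L : Subgroup G, Subgroup.zpowers z ≤ L → L ≤ Subgroup.centralizer ({z} : Set G) →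
      (∀ k ∈ Subgroup.centralizer ({z} : Set G), ∀ l ∈ L, k * l * k⁻¹ ∈ L) →
      L = Subgroup.zpowers z ∨ L = Subgroup.centralizer ({z} : Set G)) : False := by
  classical
  haveI : Fact (Nat.Prime 2) := ⟨Nat.prime_two⟩
  set H := Subgroup.centralizer ({z} : Set G) with hH
  set N := Subgroup.zpowers z with hN
  have hNH : N ≤ H := Subgroup.zpowers_le.2 c.z_mem_cent
  haveI : (N.subgroupOf H).Normal := ⟨fun n hn k => by
    rw [Subgroup.mem_subgroupOf] at hn ⊢
    exact c.norm_zpowers k.2 hn⟩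
  haveI : IsSimpleGroup (H ⧸ N.subgroupOf H) :=
    isSimpleGroup_quot hNH (by rw [hi]; norm_num) hsimp
  set π := QuotientGroup.mk' (N.subgroupOf H) with hπ
  have hmem : ∀ x : H, π x = 1 ↔ (x : G) = 1 ∨ (x : G) = z := fun x => by
    rw [QuotientGroup.mk'_apply, QuotientGroup.eq_one_iff, Subgroup.mem_subgroupOf,
      c.mem_zpowers_z_iff]
  have hQ : Nat.card (H ⧸ N.subgroupOf H) = 168 := hi
  -- some element outside `⟨z⟩` squares to `z`
  obtain ⟨w, hw, hw1⟩ : ∃ w : H, (w : G) * w = z ∧ π w ≠ 1 := by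
    obtain ⟨T⟩ : Nonempty (Sylow 2 (H ⧸ N.subgroupOf H)) := inferInstance
    obtain ⟨e⟩ := Small.Order168.nonempty_dihedral hQ T
    obtain ⟨q, hq⟩ : ∃ q : H ⧸ N.subgroupOf H, orderOf q = 4 :=
      ⟨e.symm (DihedralGroup.r 1), by
        rw [Subgroup.orderOf_coe, MulEquiv.orderOf_eq, DihedralGroup.orderOf_r_one]⟩
    obtain ⟨x, rfl⟩ := QuotientGroup.mk'_surjective _ q
    have hx2 : π (x * x) ≠ 1 := fun e' => by
      rw [← sq, map_pow] at e'
      have := orderOf_dvd_of_pow_eq_one e'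
      rw [hq] at this
      omega
    have hx4 : π (x * x * (x * x)) = 1 := by
      rw [show x * x * (x * x) = x ^ 4 by simp only [pow_succ, pow_zero, one_mul, mul_assoc],
        map_pow, ← hq, pow_orderOf_eq_one]
    rcases (hmem _).1 hx4 with e4 | e4
    · -- a conjugate of `x`
      set g2 : G := (x : G) * x with hg2
      have hne : g2 ≠ 1 := fun e' => hx2 ((hmem _).2 (Or.inl e'))
      have ho : orderOf g2 = 2 := orderOf_eq_prime (by rw [sq]; exact e4) hne
      obtain ⟨g, hg⟩ := isConj_iff.1 (hconj g2 z ho c.z_ord)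
      set y := g * x * g⁻¹ with hy
      have hyy : y * y = z := by rw [← hg, hg2, hy]; group
      have hyH : y ∈ H := mem_centralizer_iff_commute.2 (by
        show y * z = z * y
        rw [← hyy]; group)
      refine ⟨⟨y, hyH⟩, hyy, fun e' => ?_⟩
      rcases (hmem _).1 e' with e'' | e''
      · change y = 1 at e''
        rw [e'', one_mul] at hyy
        exact c.z_ne hyy.symm
      · change y = z at e''
        rw [e'', c.z_sq] at hyy
        exact c.z_ne hyy.symm
    · exact ⟨x * x, e4, hx2⟩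
  -- so `z` is the only involution
  obtain ⟨a, ha2, hac, haz⟩ := c.exists_involution_ne hG
  have haa : a * a = 1 := by rw [← sq, ← ha2, pow_orderOf_eq_one]
  set ah : H := ⟨a, mem_centralizer_iff_commute.2 hac⟩
  have ord : ∀ v : H, π v ≠ 1 → π (v * v) = 1 → orderOf (π v) = 2 := fun v h1 h2 =>
    orderOf_eq_prime (by rw [← map_pow, sq]; exact h2) h1
  have hw2 : orderOf (π w) = 2 := ord w hw1 ((hmem _).2 (Or.inr hw))
  have ha' : orderOf (π ah) = 2 := ord ah (fun e' => by
    rcases (hmem _).1 e' with e'' | e''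
    · change a = 1 at e''
      rw [e'', orderOf_one] at ha2
      omega
    · exact haz e'') ((hmem _).2 (Or.inl haa))
  obtain ⟨q, hq⟩ := isConj_iff.1 (Small.Order168.isConj_invol hQ hw2 ha')
  obtain ⟨k, rfl⟩ := QuotientGroup.mk'_surjective _ q
  rw [← map_inv, ← map_mul, ← map_mul] at hq
  have h1 : π ((k * w * k⁻¹)⁻¹ * ah) = 1 := by
    rw [map_mul, map_inv, hq, inv_mul_cancel]
  set v : G := (k : G) * w * (k : G)⁻¹ with hv
  have hvv : v * v = z := by
    rw [hv, show (k : G) * w * (k : G)⁻¹ * ((k : G) * w * (k : G)⁻¹) =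
      (k : G) * ((w : G) * w) * (k : G)⁻¹ by group, hw,
      (mem_centralizer_iff_commute.1 k.2).eq, mul_inv_cancel_right]
  rcases (hmem _).1 h1 with e' | e'
  · change v⁻¹ * a = 1 at e'
    rw [inv_mul_eq_one] at e'
    rw [e', haa] at hvv
    exact c.z_ne hvv.symm
  · change v⁻¹ * a = z at e'
    rw [inv_mul_eq_iff_eq_mul] at e'
    rw [e', (show Commute v z by rw [← hvv]; exact (Commute.refl v).mul_right (Commute.refl v)).symm.mul_mul_mul_comm,
      c.z_sq, mul_one, hvv] at haa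
    exact c.z_ne haa

/-- Quotient simple of order sixty: the Janko group. -/
theorem isoJ1_of_sixty (hconj : ∀ x y : G, orderOf x = 2 → orderOf y = 2 → IsConj x y)
    [IsSimpleGroup G] (hG : ¬ IsMulCommutative G) {M : Subgroup G}
    (hzM : Subgroup.zpowers z ≤ M) (hM : M ≤ Subgroup.centralizer ({z} : Set G))
    (hn : ∀ k ∈ Subgroup.centralizer ({z} : Set G), ∀ m ∈ M, k * m * k⁻¹ ∈ M)
    (hsq : ∀ m ∈ M, m * m ∈ Subgroup.zpowers z)
    (hi : M.relIndex (Subgroup.centralizer ({z} : Set G)) = 60)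
    (hsimp : ∀ L : Subgroup G, M ≤ L → L ≤ Subgroup.centralizer ({z} : Set G) →
      (∀ k ∈ Subgroup.centralizer ({z} : Set G), ∀ l ∈ L, k * l * k⁻¹ ∈ L) →
      L = M ∨ L = Subgroup.centralizer ({z} : Set G)) : Cfsg.Spor.IsoJ1 G := by
  classical
  haveI : Fact (Nat.Prime 2) := ⟨Nat.prime_two⟩
  haveI : Fact (Nat.Prime 3) := ⟨Nat.prime_three⟩
  haveI : Fact (Nat.Prime 5) := ⟨by norm_num⟩
  set H := Subgroup.centralizer ({z} : Set G) with hH
  haveI hMn : (M.subgroupOf H).Normal := ⟨fun m hm k => by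
    rw [Subgroup.mem_subgroupOf] at hm ⊢
    exact hn k k.2 m hm⟩
  have hM2 : IsPGroup 2 M := fun m => ⟨2, Subtype.ext (by
    rw [Subgroup.coe_pow, Subgroup.coe_one, show (2 : ℕ) ^ 2 = 2 * 2 from rfl, pow_mul, sq, sq]
    rcases c.mem_zpowers_z_iff.1 (hsq m m.2) with e | e <;> rw [e]
    · exact one_mul 1
    · exact c.z_sq)⟩
  have hHc : Nat.card H = 60 * Nat.card M := by
    have h1 := (M.subgroupOf H).card_mul_index
    rw [Nat.card_congr (Subgroup.subgroupOfEquivOfLe hM).toEquiv, ← Subgroup.relIndex, hi] at h1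
    rw [← h1]; ring
  have hM3 : ¬ 3 ∣ Nat.card M := by
    obtain ⟨n, hn'⟩ := IsPGroup.iff_card.1 hM2
    rw [hn']
    intro h
    have := Nat.prime_three.dvd_of_dvd_pow h
    omega
  -- the quotient
  haveI : IsSimpleGroup (H ⧸ M.subgroupOf H) := isSimpleGroup_quot hM (by rw [hi]; norm_num) hsimp
  set π := QuotientGroup.mk' (M.subgroupOf H) with hπ
  have hπs : Function.Surjective π := QuotientGroup.mk'_surjective _
  have hQ : Nat.card (H ⧸ M.subgroupOf H) = 60 := hi
  have hker : π.ker = M.subgroupOf H := QuotientGroup.ker_mk' _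
  have hker2 : IsPGroup 2 π.ker := by
    rw [hker]
    exact hM2.of_equiv (Subgroup.subgroupOfEquivOfLe hM).symm
  -- some Sylow subgroup of `H` is normalised by an element of order three
  obtain ⟨P, hPH⟩ := exists_sylow_le hconj c.z_ord
  set P' : Sylow 2 H := P.subtype hPH
  obtain ⟨hkP, h3N⟩ := three_dvd_normalizer π hπs hker2 hQ P'
  obtain ⟨y, hy⟩ := exists_prime_orderOf_dvd_card' 3 h3N
  -- conjugate it to `s`
  have sylow3 : ∀ v : H, orderOf v = 3 →
      ∃ T : Sylow 3 H, (T : Subgroup H) = Subgroup.zpowers v := by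
    intro v hv
    have hp : IsPGroup 3 (Subgroup.zpowers v) :=
      IsPGroup.of_card (n := 1) (by rw [Nat.card_zpowers, hv, pow_one])
    refine ⟨hp.toSylow ?_, IsPGroup.toSylow_coe _ _⟩
    have h1 := (Subgroup.zpowers v).card_mul_index
    rw [Nat.card_zpowers, hv, hHc, show 60 * Nat.card M = 3 * (20 * Nat.card M) by ring] at h1
    rw [Nat.eq_of_mul_eq_mul_left (by norm_num) h1]
    intro h
    rcases Nat.prime_three.dvd_mul.1 h with h' | h'
    · norm_num at h'
    · exact hM3 h'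
  obtain ⟨T, hT⟩ := sylow3 y (by rw [Subgroup.orderOf_coe]; exact hy)
  obtain ⟨U, hU⟩ := sylow3 ⟨s, c.s_mem_cent⟩ (by rw [← Subgroup.orderOf_coe]; exact c.s_ord)
  obtain ⟨k, hk⟩ := MulAction.exists_smul_eq H T U
  have hsN : (⟨s, c.s_mem_cent⟩ : H) ∈
      Subgroup.normalizer (((k • P') : Sylow 2 H) : Set H) := by
    have h1 : k⁻¹ * (⟨s, c.s_mem_cent⟩ : H) * k ∈ Subgroup.zpowers (y : H) := by
      rw [← hT]
      have := Subgroup.mem_zpowers (⟨s, c.s_mem_cent⟩ : H)
      rw [← hU, ← hk, Sylow.coe_subgroup_smul, Subgroup.mem_pointwise_smul_iff_inv_smul_mem] at this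
      simpa [mul_assoc] using this
    have h2 : k⁻¹ * (⟨s, c.s_mem_cent⟩ : H) * k ∈ Subgroup.normalizer ((P' : Subgroup H) : Set H) :=
      Subgroup.zpowers_le.2 y.2 h1
    refine Subgroup.mem_normalizer_fintype ?_
    intro x hx
    change x ∈ ((k • P' : Sylow 2 H) : Subgroup H) at hx
    show _ ∈ ((k • P' : Sylow 2 H) : Subgroup H)
    rw [Sylow.coe_subgroup_smul, Subgroup.mem_pointwise_smul_iff_inv_smul_mem] at hx ⊢
    have h4 := (Subgroup.mem_normalizer_iff.1 h2 _).1 hx
    simpa [mul_assoc] using h4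
  obtain ⟨S, hS⟩ : ∃ S : Sylow 2 G, (S : Subgroup G) =
      ((k • P' : Sylow 2 H) : Subgroup H).map H.subtype := by
    refine ⟨(k : G) • P, ?_⟩
    rw [Sylow.coe_subgroup_smul, Sylow.coe_subgroup_smul, Sylow.coe_subtype]
    ext x
    rw [Subgroup.mem_pointwise_smul_iff_inv_smul_mem]
    constructor
    · intro hx
      have hxH : x ∈ H := by
        have h1 := mul_mem (mul_mem k.2 (hPH hx)) (inv_mem k.2)
        simpa [mul_assoc] using h1
      refine ⟨⟨x, hxH⟩, ?_, rfl⟩
      rw [SetLike.mem_coe, Subgroup.mem_pointwise_smul_iff_inv_smul_mem, Subgroup.mem_subgroupOf]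
      simpa [mul_assoc] using hx
    · rintro ⟨x', hx', rfl⟩
      rw [SetLike.mem_coe, Subgroup.mem_pointwise_smul_iff_inv_smul_mem, Subgroup.mem_subgroupOf] at hx'
      simpa [mul_assoc] using hx'
  have hSH : (S : Subgroup G) ≤ H := hS ▸ Subgroup.map_subtype_le _
  have hSz : ∀ x ∈ (S : Subgroup G), Commute x z := fun x hx =>
    mem_centralizer_iff_commute.1 (hSH hx)
  have hSs : ∀ x ∈ (S : Subgroup G), s * x * s⁻¹ ∈ (S : Subgroup G) := by
    intro x hx
    rw [hS] at hx ⊢
    obtain ⟨x', hx', rfl⟩ := hx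
    exact ⟨⟨s, c.s_mem_cent⟩ * x' * ⟨s, c.s_mem_cent⟩⁻¹,
      (Subgroup.mem_normalizer_iff.1 hsN x').1 hx', rfl⟩
  -- `M` is in every Sylow subgroup
  have hMS : M ≤ (S : Subgroup G) := by
    intro m hm
    rw [hS]
    refine ⟨⟨m, hM hm⟩, ?_, rfl⟩
    rw [SetLike.mem_coe, Sylow.coe_subgroup_smul, Subgroup.mem_pointwise_smul_iff_inv_smul_mem]
    refine hkP ?_
    rw [hker, Subgroup.mem_subgroupOf]
    have := hn (k⁻¹ : H) (k⁻¹ : H).2 m hm
    simpa [mul_assoc] using this
  have h8 := two_closed hconj c S hSz hSs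
  have hSc : Nat.card (S : Subgroup G) = 4 * Nat.card M :=
    card_sylow_over S hSH hMS (t := 4) (m := 15) (by rw [hi]) ⟨2, rfl⟩ (by norm_num)
  have hMc : Nat.card M = 2 := by
    have := Subgroup.card_le_of_le hzM
    rw [c.card_zpowers_z] at this
    omega
  have hS8 : Nat.card (S : Subgroup G) = 8 := by omega
  -- the Sylow subgroup is elementary
  obtain ⟨a, ha2, hac, haz⟩ := c.exists_involution_ne hG
  obtain ⟨b, hbS, hb2, hbz⟩ : ∃ b ∈ (S : Subgroup G), orderOf b = 2 ∧ b ≠ z := by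
    have haH : a ∈ H := mem_centralizer_iff_commute.2 hac
    obtain ⟨Q, hQ'⟩ := (IsPGroup.of_card (p := 2) (n := 1)
      (G := Subgroup.zpowers (⟨a, haH⟩ : H)) (by
        rw [Nat.card_zpowers, ← Subgroup.orderOf_coe, pow_one]; exact ha2)).exists_le_sylow
    obtain ⟨g, hg⟩ := MulAction.exists_smul_eq H Q (k • P')
    refine ⟨(g : G) * a * (g : G)⁻¹, ?_, (MulEquiv.orderOf_eq (MulAut.conj (g : G)) a).trans ha2,
      fun e => haz ?_⟩
    · rw [hS, ← hg]
      refine ⟨g * ⟨a, haH⟩ * g⁻¹, ?_, rfl⟩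
      rw [SetLike.mem_coe, Sylow.coe_subgroup_smul, Subgroup.mem_pointwise_smul_iff_inv_smul_mem]
      simpa [mul_assoc] using hQ' (Subgroup.mem_zpowers _)
    · have e' := congrArg (fun v => (g : G)⁻¹ * v * g) e
      rw [mul_assoc _ z, ← (mem_centralizer_iff_commute.1 g.2).eq, inv_mul_cancel_left] at e'
      rw [← e']; group
  have hSR : TwoR z s (S : Subgroup G) := ⟨c, S.2, hMS (hzM (Subgroup.mem_zpowers z)), hSz, hSs⟩
  obtain ⟨-, hsqS⟩ := hSR.elementary h8 hbS hb2 hbz
  have hab : IsMulCommutative (S : Subgroup G) := ⟨⟨fun p q => by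
    have inv_self : ∀ v : (S : Subgroup G), v⁻¹ = v := fun v =>
      inv_eq_of_mul_eq_one_right (Subtype.ext (hsqS v v.2))
    rw [← inv_self (p * q), mul_inv_rev, inv_self, inv_self]⟩⟩
  -- the centraliser
  have hH120 : Nat.card H = 120 := by rw [hHc, hMc]
  have h6 : Nat.card (Sylow 5 H) = 6 := by
    obtain ⟨Q⟩ : Nonempty (Sylow 5 H) := inferInstance
    have hQ5 : Nat.card (Q : Subgroup H) = 5 :=
      CfsgLib.SolvCrit.Order175560.card_sylow' (by rw [hH120]; norm_num) (by rw [hH120]; norm_num) Q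
    have h1 : Nat.card (Sylow 5 H) % 5 = 1 := card_sylow_modEq_one 5 H
    have h2 : Nat.card (Sylow 5 H) ∣ 24 := by
      have h3 := Q.card_dvd_index
      have h4 := (Q : Subgroup H).card_mul_index
      rw [hQ5, hH120] at h4
      rwa [show (Q : Subgroup H).index = 24 by omega] at h3
    have h3 : Nat.card (Sylow 5 H) ≠ 1 := by
      intro e
      haveI : Subsingleton (Sylow 5 H) := (Nat.card_eq_one_iff_unique.1 e).1
      haveI := Q.normal_of_subsingleton
      rcases (Subgroup.Normal.map ‹(Q : Subgroup H).Normal› π hπs).eq_bot_or_eq_top with e' | e'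
      · rw [Subgroup.map_eq_bot_iff, hker] at e'
        have h4 := Subgroup.card_dvd_of_le e'
        rw [hQ5, Nat.card_congr (Subgroup.subgroupOfEquivOfLe hM).toEquiv, hMc] at h4
        norm_num at h4
      · have h4 := Subgroup.card_map_dvd (Q : Subgroup H) π
        rw [e', Subgroup.card_top, hQ, hQ5] at h4
        norm_num at h4
    have h5 := Nat.le_of_dvd (by norm_num) h2
    generalize Nat.card (Sylow 5 H) = n at *
    interval_cases n <;> omega
  obtain ⟨e⟩ := J1Local.two_times_altFive hH120 ⟨z, c.z_mem_cent⟩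
    (by rw [← Subgroup.orderOf_coe]; exact c.z_ord)
    (fun x => Subtype.ext (mem_centralizer_iff_commute.1 x.2).eq) h6
    ⟨a, mem_centralizer_iff_commute.2 hac⟩ (by rw [← Subgroup.orderOf_coe]; exact ha2)
    (fun e => haz (congrArg Subtype.val e))
  exact Cfsg.Agent.S1644.result S hab hS8 z c.z_ord e

/-- The possible shapes. -/
theorem shapes (hconj : ∀ x y : G, orderOf x = 2 → orderOf y = 2 → IsConj x y)
    [IsSimpleGroup G] (hG : ¬ IsMulCommutative G) :
    (∃ u R W, S3Cfg z s u R W) ∨ (∃ R W, C3Cfg z s R W) ∨ Cfsg.Spor.IsoJ1 G := by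
  rcases c.local_shape (K := Subgroup.centralizer ({z} : Set G)) (N := Subgroup.zpowers z)
    (Subgroup.zpowers_le.2 c.z_mem_cent) (fun k hk n hn => c.norm_zpowers hk hn) c.s_mem_cent
    (Subgroup.mem_zpowers z) c.three_zpowers (fun n hn _ => hn) with
    ⟨M, hzM, hM, hn, h3, hi | hi⟩ | ⟨M, hzM, hM, hn, hsq, hi, hsimp⟩ | ⟨hi, hsimp⟩
  · exact Or.inr (Or.inl (c.c3_of_index hconj hG hM hn (hzM (Subgroup.mem_zpowers z)) h3 hi))
  · exact Or.inl (c.s3_of_index hconj hM hn (hzM (Subgroup.mem_zpowers z)) h3 hi)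
  · exact Or.inr (Or.inr (c.isoJ1_of_sixty hconj hG hzM hM hn hsq hi hsimp))
  · exact (c.false_of_168 hconj hG hi hsimp).elim

end Ctx

end CfsgLib.SelfCentralSix57
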