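import Cfsg.Agent.SelfCentralSix57.Fpf
import Cfsg.Agent.SelfCentralThree.Main
import Cfsg.Agent.ZStar.Theorem
import Cfsg.Agent.Small.Counting

/-!
# A commuting pair `z, s` of orders two and three with self-centralising product

The local shape: if `z` lies in a subgroup `N` with `s`-fixed points in `⟨z⟩` and `s` lies in
`K ≤ N(N)`, the image of `s` is self-centralising of order three in `K / N`.
-/

set_option autoImplicit false
set_option linter.style.haveILetI false
set_option linter.unusedSectionVars false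

namespace CfsgLib.SelfCentralSix57

open scoped commutatorElement

universe u

variable {G : Type u} [Group G] [Finite G]

/-- `z` and `s` commute and their common centraliser is the cyclic group of order six they
generate. -/
structure Ctx (z s : G) : Prop where
  z_ord : orderOf z = 2
  s_ord : orderOf s = 3
  comm : Commute z s
  cent : ∀ g, Commute g z → Commute g s → g ∈ Subgroup.zpowers (z * s)

namespace Ctx

variable {z s : G} (c : Ctx z s)
include c

theorem z_sq : z * z = 1 := by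
  rw [← sq, ← c.z_ord, pow_orderOf_eq_one]

theorem z_inv : z⁻¹ = z := inv_eq_of_mul_eq_one_right c.z_sq

theorem z_ne : z ≠ 1 := fun h => by
  have := c.z_ord
  rw [h, orderOf_one] at this
  omega

theorem s_cube : s ^ 3 = 1 := by rw [← c.s_ord, pow_orderOf_eq_one]

theorem s_ne : s ≠ 1 := fun h => by
  have := c.s_ord
  rw [h, orderOf_one] at this
  omega

theorem ord_mul : orderOf (z * s) = 6 := by
  rw [c.comm.orderOf_mul_eq_mul_orderOf_of_coprime (by rw [c.z_ord, c.s_ord]; norm_num),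
    c.z_ord, c.s_ord]

/-- The common centraliser, listed. -/
theorem cent_cases {g : G} (h1 : Commute g z) (h2 : Commute g s) :
    ∃ i j : ℕ, i < 2 ∧ j < 3 ∧ g = z ^ i * s ^ j := by
  obtain ⟨k, hk⟩ := Subgroup.mem_zpowers_iff.1 (c.cent g h1 h2)
  refine ⟨(k % 2).toNat, (k % 3).toNat, by omega, by omega, ?_⟩
  rw [← hk, c.comm.mul_zpow, zpow_eq_pow_toNat 2 k c.z_ord (by norm_num),
    zpow_eq_pow_toNat 3 k c.s_ord (by norm_num)]
  norm_num
where
  zpow_eq_pow_toNat {g : G} (n : ℕ) (k : ℤ) (h : orderOf g = n) (hn : 0 < n) :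
      g ^ k = g ^ (k % (n : ℤ)).toNat := by
    rw [← zpow_natCast, Int.toNat_of_nonneg (Int.emod_nonneg _ (by omega)), ← h, zpow_mod_orderOf]

/-- Fixed points of `s` of order prime to three that commute with `z`. -/
theorem eq_one_or_z {g : G} (h1 : Commute g z) (h2 : Commute g s) (h3 : ¬ 3 ∣ orderOf g) :
    g = 1 ∨ g = z := by
  obtain ⟨i, j, hi, hj, rfl⟩ := c.cent_cases h1 h2
  have hj0 : j = 0 := by
    by_contra hj'
    apply h3
    rw [(c.comm.pow_pow i j).orderOf_mul_eq_mul_orderOf_of_coprime]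
    · refine dvd_mul_of_dvd_right (dvd_of_eq ?_) _
      rw [orderOf_pow' s hj', c.s_ord]
      interval_cases j
      · omega
      · norm_num
      · norm_num
    · refine Nat.Coprime.coprime_dvd_left (orderOf_pow_dvd i) ?_
      refine Nat.Coprime.coprime_dvd_right (orderOf_pow_dvd j) ?_
      rw [c.z_ord, c.s_ord]; norm_num
  subst hj0
  interval_cases i <;> simp

/-- Fixed points inside a subgroup of order prime to three centralised by `z`. -/
theorem mem_zpowers_of_fixed {N : Subgroup G} (h3 : ¬ 3 ∣ Nat.card N)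
    (hz : ∀ n ∈ N, Commute n z) {n : G} (hn : n ∈ N) (hs : Commute n s) :
    n ∈ Subgroup.zpowers z := by
  rcases c.eq_one_or_z (hz n hn) hs fun h =>
      h3 (h.trans (Subgroup.orderOf_dvd_natCard N hn)) with rfl | rfl
  · exact one_mem _
  · exact Subgroup.mem_zpowers _

theorem card_zpowers_z : Nat.card (Subgroup.zpowers z) = 2 := by
  rw [Nat.card_zpowers, c.z_ord]

theorem mem_zpowers_z_iff {g : G} : g ∈ Subgroup.zpowers z ↔ g = 1 ∨ g = z := by
  refine ⟨fun h => ?_, fun h => ?_⟩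
  · obtain ⟨k, rfl⟩ := Subgroup.mem_zpowers_iff.1 h
    rw [cent_cases.zpow_eq_pow_toNat 2 k c.z_ord (by norm_num)]
    have hk : (k % ((2 : ℕ) : ℤ)).toNat < 2 := by omega
    interval_cases ((k % ((2 : ℕ) : ℤ)).toNat) <;> simp
  · rcases h with rfl | rfl
    · exact one_mem _
    · exact Subgroup.mem_zpowers _

/-- The conjugate configuration. -/
theorem conj (g : G) : Ctx (g * z * g⁻¹) (g * s * g⁻¹) where
  z_ord := by simpa using (MulAut.conj g).orderOf_eq z |>.trans c.z_ord
  s_ord := by simpa using (MulAut.conj g).orderOf_eq s |>.trans c.s_ord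
  comm := by simpa using c.comm.map (MulAut.conj g).toMonoidHom
  cent := fun x h1 h2 => by
    have e1 : Commute (g⁻¹ * x * g) z := by
      have := h1.map (MulAut.conj g⁻¹).toMonoidHom
      simpa [mul_assoc] using this
    have e2 : Commute (g⁻¹ * x * g) s := by
      have := h2.map (MulAut.conj g⁻¹).toMonoidHom
      simpa [mul_assoc] using this
    obtain ⟨k, hk⟩ := Subgroup.mem_zpowers_iff.1 (c.cent _ e1 e2)
    refine Subgroup.mem_zpowers_iff.2 ⟨k, ?_⟩
    rw [show g * z * g⁻¹ * (g * s * g⁻¹) = g * (z * s) * g⁻¹ by group, conj_zpow, hk]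
    group

theorem inv_right : Ctx z s⁻¹ where
  z_ord := c.z_ord
  s_ord := by rw [orderOf_inv, c.s_ord]
  comm := c.comm.inv_right
  cent := fun x h1 h2 => by
    have h := c.cent x h1 (by simpa using h2.inv_right)
    rwa [← Subgroup.zpowers_inv, mul_inv_rev, c.z_inv, c.comm.inv_right.symm.eq] at h

/-- The image of `s` in `K / N` generates its own centraliser. -/
theorem hyp_quot {K N : Subgroup G} [hn : (N.subgroupOf K).Normal] (hNK : N ≤ K) (hs : s ∈ K)
    (hz : z ∈ N) (hN3 : ¬ 3 ∣ Nat.card N)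
    (hNfix : ∀ n ∈ N, Commute n s → n ∈ Subgroup.zpowers z) :
    SelfCentralizing.Hyp (K ⧸ N.subgroupOf K) 3 (QuotientGroup.mk ⟨s, hs⟩) := by
  have hsN : s ∉ N := fun h => hN3 (c.s_ord ▸ Subgroup.orderOf_dvd_natCard N h)
  have hnorm : ∀ k ∈ K, ∀ n ∈ N, k * n * k⁻¹ ∈ N := fun k hk n hn' =>
    hn.conj_mem ⟨n, hNK hn'⟩ hn' ⟨k, hk⟩
  refine ⟨Nat.prime_three, ?_, le_antisymm (fun q hq => ?_) ?_⟩
  · haveI : Fact (Nat.Prime 3) := ⟨Nat.prime_three⟩
    refine orderOf_eq_prime ?_ fun h => hsN ?_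
    · rw [← QuotientGroup.mk_pow]
      exact (QuotientGroup.eq_one_iff _).2 (by
        show ((⟨s, hs⟩ : K) ^ 3 : G) ∈ N
        rw [show ((⟨s, hs⟩ : K) ^ 3 : G) = s ^ 3 from rfl, c.s_cube]
        exact one_mem _)
    · exact (QuotientGroup.eq_one_iff (N := N.subgroupOf K) ⟨s, hs⟩).1 h
  · induction q using QuotientGroup.induction_on with
    | _ x =>
      have hx := Subgroup.mem_centralizer_singleton_iff.1 hq
      rw [← QuotientGroup.mk_mul, ← QuotientGroup.mk_mul, QuotientGroup.eq,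
        Subgroup.mem_subgroupOf] at hx
      have hx' : ((x : G))⁻¹ * (s * x * s⁻¹) ∈ N := by
        have h1 := hnorm s hs _ (hx : ((x : G) * s)⁻¹ * (s * x) ∈ N)
        simpa [mul_assoc] using h1
      obtain ⟨n, hn', hc⟩ := exists_fixed c.s_cube hN3 (hnorm s hs) hx'
      set p := (x : G) * n with hp
      have hpK : p ∈ K := mul_mem x.2 (hNK hn')
      have hcz : Commute p z := by
        have hcm : p * z * p⁻¹ * z⁻¹ ∈ N := mul_mem (hnorm p hpK z hz) (inv_mem hz)
        have hcs : Commute (p * z * p⁻¹ * z⁻¹) s :=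
          ((hc.mul_left c.comm).mul_left hc.inv_left).mul_left c.comm.inv_left
        rcases c.mem_zpowers_z_iff.1 (hNfix _ hcm hcs) with e | e
        · exact mul_inv_eq_iff_eq_mul.1 (mul_inv_eq_one.1 e)
        · exfalso
          rw [mul_inv_eq_iff_eq_mul, c.z_sq] at e
          exact c.z_ne (conj_eq_one_iff.1 e)
      obtain ⟨i, j, -, -, hij⟩ := c.cent_cases hcz hc
      refine Subgroup.mem_zpowers_iff.2 ⟨j, ?_⟩
      rw [zpow_natCast, ← QuotientGroup.mk_pow, QuotientGroup.eq, Subgroup.mem_subgroupOf]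
      show (s ^ j)⁻¹ * (x : G) ∈ N
      have hx1 : (x : G) = p * n⁻¹ := by rw [hp]; group
      rw [hx1, hij, (c.comm.pow_pow i j).eq, mul_assoc (s ^ j), inv_mul_cancel_left]
      exact mul_mem (pow_mem hz i) (inv_mem hn')
  · rw [Subgroup.zpowers_le]
    exact Subgroup.mem_centralizer_singleton_iff.2 rfl

/-- The possible shapes of `K / N`. -/
theorem local_shape {K N : Subgroup G} (hNK : N ≤ K) (hnorm : ∀ k ∈ K, ∀ n ∈ N, k * n * k⁻¹ ∈ N)
    (hs : s ∈ K) (hz : z ∈ N) (hN3 : ¬ 3 ∣ Nat.card N)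
    (hNfix : ∀ n ∈ N, Commute n s → n ∈ Subgroup.zpowers z) :
    (∃ M : Subgroup G, N ≤ M ∧ M ≤ K ∧ (∀ k ∈ K, ∀ m ∈ M, k * m * k⁻¹ ∈ M) ∧
        ¬ 3 ∣ Nat.card M ∧ (M.relIndex K = 3 ∨ M.relIndex K = 6)) ∨
    (∃ M : Subgroup G, N ≤ M ∧ M ≤ K ∧ (∀ k ∈ K, ∀ m ∈ M, k * m * k⁻¹ ∈ M) ∧
        (∀ m ∈ M, m * m ∈ N) ∧ M.relIndex K = 60 ∧
        (∀ L : Subgroup G, M ≤ L → L ≤ K → (∀ k ∈ K, ∀ l ∈ L, k * l * k⁻¹ ∈ L) →
          L = M ∨ L = K)) ∨
    (N.relIndex K = 168 ∧ (∀ L : Subgroup G, N ≤ L → L ≤ K →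
      (∀ k ∈ K, ∀ l ∈ L, k * l * k⁻¹ ∈ L) → L = N ∨ L = K)) := by
  haveI hn : (N.subgroupOf K).Normal := ⟨fun n hn k => by
    rw [Subgroup.mem_subgroupOf] at hn ⊢
    exact hnorm k k.2 n hn⟩
  set π := QuotientGroup.mk' (N.subgroupOf K) with hπ
  have hπs : Function.Surjective π := QuotientGroup.mk'_surjective _
  set Φ : Subgroup (K ⧸ N.subgroupOf K) → Subgroup G :=
    fun A => (A.comap π).map K.subtype with hΦ
  have hΦK : ∀ A, Φ A ≤ K := fun A => Subgroup.map_subtype_le _
  have hΦN : ∀ A, N ≤ Φ A := fun A n hn => ⟨⟨n, hNK hn⟩, by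
    show π ⟨n, hNK hn⟩ ∈ A
    rw [show π ⟨n, hNK hn⟩ = 1 from (QuotientGroup.eq_one_iff _).2 hn]
    exact one_mem _, rfl⟩
  have hΦn : ∀ A, A.Normal → ∀ k ∈ K, ∀ m ∈ Φ A, k * m * k⁻¹ ∈ Φ A := by
    rintro A hA k hk _ ⟨m, hm, rfl⟩
    exact ⟨⟨k, hk⟩ * m * ⟨k, hk⟩⁻¹, (hA.comap π).conj_mem _ hm _, rfl⟩
  have hΦi : ∀ A, (Φ A).relIndex K = A.index := fun A => by
    show ((A.comap π).map K.subtype).relIndex K = _
    rw [Subgroup.relIndex, Subgroup.subgroupOf,
      Subgroup.comap_map_eq_self_of_injective K.subtype_injective,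
      Subgroup.index_comap_of_surjective _ hπs]
  have hNi : N.relIndex K = Nat.card (K ⧸ N.subgroupOf K) := rfl
  have hsimp : ∀ (M : Subgroup G) (Q : Subgroup (K ⧸ N.subgroupOf K)) [Q.Normal],
      IsSimpleGroup ((K ⧸ N.subgroupOf K) ⧸ Q) → Φ Q = M →
      ∀ L : Subgroup G, M ≤ L → L ≤ K → (∀ k ∈ K, ∀ l ∈ L, k * l * k⁻¹ ∈ L) → L = M ∨ L = K := by
    intro M Q _ hS hM L hML hLK hLn
    haveI : (L.subgroupOf K).Normal := ⟨fun l hl k => by
      rw [Subgroup.mem_subgroupOf] at hl ⊢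
      exact hLn k k.2 l hl⟩
    let π2 := (QuotientGroup.mk' Q).comp π
    have hπ2 : Function.Surjective π2 := (QuotientGroup.mk'_surjective _).comp hπs
    have hker : π2.ker = Q.comap π := by
      ext x
      simp [π2, MonoidHom.mem_ker, QuotientGroup.eq_one_iff]
    haveI : ((L.subgroupOf K).map π2).Normal := Subgroup.Normal.map inferInstance _ hπ2
    have hle : π2.ker ≤ L.subgroupOf K := by
      rw [hker]
      intro x hx
      exact hML (hM ▸ ⟨x, hx, rfl⟩)
    have hback : ((L.subgroupOf K).map π2).comap π2 = L.subgroupOf K := by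
      rw [Subgroup.comap_map_eq, sup_eq_left.2 hle]
    rcases (‹((L.subgroupOf K).map π2).Normal›).eq_bot_or_eq_top with h | h
    · left
      rw [h, MonoidHom.comap_bot, hker] at hback
      rw [← hM]
      show L = (Q.comap π).map K.subtype
      rw [hback, Subgroup.map_subgroupOf_eq_of_le hLK]
    · right
      rw [h, Subgroup.comap_top] at hback
      exact le_antisymm hLK fun k hk => (hback.le (Subgroup.mem_top (⟨k, hk⟩ : K)) :)
  rcases SelfCentralThree.shape (c.hyp_quot hNK hs hz hN3 hNfix) with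
    ⟨A, hA, -, hcop, hi⟩ | ⟨A, hA, -, hexp, hi, hS⟩ | ⟨hc, hS⟩
  · refine Or.inl ⟨Φ A, hΦN A, hΦK A, hΦn A hA, ?_, by rwa [hΦi]⟩
    intro h3
    have hcard : Nat.card (Φ A) = Nat.card N * Nat.card A := by
      rw [hΦ]
      show Nat.card ((A.comap π).map K.subtype) = _
      rw [Subgroup.card_map_of_injective K.subtype_injective]
      have h1 := (A.comap π).card_mul_index
      rw [Subgroup.index_comap_of_surjective _ hπs] at h1
      have h2 := A.card_mul_index
      have h4 := (N.subgroupOf K).card_mul_index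
      rw [Nat.card_congr (Subgroup.subgroupOfEquivOfLe hNK).toEquiv] at h4
      have h5 : (N.subgroupOf K).index = Nat.card (K ⧸ N.subgroupOf K) := rfl
      refine mul_right_cancel₀ (b := A.index) (by
        intro h0; rcases hi with e | e <;> omega) ?_
      rw [h1, ← h4, h5, ← h2, mul_assoc]
    rw [hcard] at h3
    rcases (Nat.prime_three.dvd_mul).1 h3 with h | h
    · exact hN3 h
    · have := Nat.dvd_gcd h (dvd_refl 3)
      rw [Nat.coprime_iff_gcd_eq_one.1 hcop] at this
      omega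
  · refine Or.inr (Or.inl ⟨Φ A, hΦN A, hΦK A, hΦn A hA, ?_, by rwa [hΦi], hsimp _ A hS rfl⟩)
    rintro _ ⟨m, hm, rfl⟩
    have h1 := hexp _ hm
    rw [← map_pow, sq] at h1
    exact Subgroup.mem_subgroupOf.1 ((QuotientGroup.eq_one_iff _).1 h1)
  · refine Or.inr (Or.inr ⟨hNi.trans hc, hsimp N ⊥ ?_ ?_⟩)
    · exact (QuotientGroup.quotientBot (G := K ⧸ N.subgroupOf K)).isSimpleGroup_congr.2 hS
    · show ((⊥ : Subgroup (K ⧸ N.subgroupOf K)).comap π).map K.subtype = N
      rw [MonoidHom.comap_bot, QuotientGroup.ker_mk', Subgroup.map_subgroupOf_eq_of_le hNK]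

/-- An element commuting with `s` that normalises a subgroup around `z` centralises `z`. -/
theorem commute_z {N : Subgroup G} (hz : z ∈ N)
    (hNfix : ∀ n ∈ N, Commute n s → n ∈ Subgroup.zpowers z) {p : G}
    (hp : p * z * p⁻¹ ∈ N) (hc : Commute p s) : Commute p z := by
  have hcs : Commute (p * z * p⁻¹ * z⁻¹) s :=
    ((hc.mul_left c.comm).mul_left hc.inv_left).mul_left c.comm.inv_left
  rcases c.mem_zpowers_z_iff.1 (hNfix _ (mul_mem hp (inv_mem hz)) hcs) with e | e
  · exact mul_inv_eq_iff_eq_mul.1 (mul_inv_eq_one.1 e)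
  · exfalso
    rw [mul_inv_eq_iff_eq_mul, c.z_sq] at e
    exact c.z_ne (conj_eq_one_iff.1 e)

/-- A simple group has a second involution centralising `z`. -/
theorem exists_involution_ne [IsSimpleGroup G] (hG : ¬ IsMulCommutative G) :
    ∃ a, orderOf a = 2 ∧ Commute a z ∧ a ≠ z := by
  by_contra hcon
  push Not at hcon
  have hiso : Cfsg.IsIsolatedInvolution z := ⟨c.z_ord, fun g hg => by
    refine hcon _ ?_ hg.symm
    simpa using (MulAut.conj g).orderOf_eq z |>.trans c.z_ord⟩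
  have hc := ZStar.mem_center_of_isolated hiso fun N hN hodd => by
    rcases hN.eq_bot_or_eq_top with h | h
    · exact h
    · exfalso
      rw [h, Subgroup.card_top] at hodd
      exact (Nat.not_even_iff_odd.2 hodd)
        (even_iff_two_dvd.2 (c.z_ord ▸ orderOf_dvd_natCard z))
  rcases (inferInstance : (Subgroup.center G).Normal).eq_bot_or_eq_top with h | h
  · exact c.z_ne (by rwa [h, Subgroup.mem_bot] at hc)
  · exact hG ⟨⟨fun a b => (Subgroup.mem_center_iff.1 (h ▸ Subgroup.mem_top a :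
      a ∈ Subgroup.center G) b).symm⟩⟩

end Ctx

end CfsgLib.SelfCentralSix57
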