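import Mathlib

/-!
# Three conjugate operators with product one and a fixed vector

Let `a, b, c` be commuting operators on a group of exponent two with `abc = 1`, and `z` a vector
such that `(a+b+c)z` and `(ab+bc+ca)z` lie in `{0, z}`.
-/

set_option autoImplicit false
set_option linter.style.haveILetI false

namespace CfsgLib.SelfCentralSix57

/-- The abstract computation. -/
structure Triple (A E : Type*) [CommRing A] [AddCommGroup E] [Module A E] (a b c : A) (z : E) :
    Prop where
  two : ∀ v : E, v + v = 0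
  prod : ∀ v : E, (a * b * c) • v = v
  e1 : (a + b + c) • z = 0 ∨ (a + b + c) • z = z
  e2 : (a * b + b * c + c * a) • z = 0 ∨ (a * b + b * c + c * a) • z = z
  odd : ∃ n : ℕ, n.Coprime 6 ∧ ∀ v : E, a ^ n • v = v

namespace Triple

variable {A E : Type*} [CommRing A] [AddCommGroup E] [Module A E] {a b c : A} {z : E}
  (h : Triple A E a b c z)
include h

theorem neg_eq (v : E) : -v = v := neg_eq_of_add_eq_zero_left (h.two v)

theorem sub_eq (v w : E) : v - w = v + w := by rw [sub_eq_add_neg, h.neg_eq]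

/-- A power of `a` prime to `n` fixing a vector already forces `a` to fix it. -/
theorem fix_of_pow {v : E} {n m : ℕ} (hn : a ^ n • v = v) (hm : a ^ m • v = v)
    (hco : n.Coprime m) : a • v = v := by
  have key : ∀ k, ∀ j, a ^ k • v = v → a ^ (k * j) • v = v := fun k j hk => by
    induction j with
    | zero => simp
    | succ j ih => rw [Nat.mul_succ, pow_add, mul_smul, hk, ih]
  obtain ⟨i, j, hij⟩ : ∃ i j : ℕ, n * i = m * j + 1 ∨ m * i = n * j + 1 := by
    rcases Nat.eq_zero_or_pos n with rfl | hn0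
    · exact ⟨1, 0, Or.inr (by simp [Nat.coprime_zero_left] at hco; omega)⟩
    rcases Nat.eq_or_lt_of_le (Nat.one_le_iff_ne_zero.2 hn0.ne') with h1 | h1
    · exact ⟨1, 0, Or.inl (by omega)⟩
    obtain ⟨i, hi⟩ := Nat.exists_mul_mod_eq_one_of_coprime hco.symm h1
    exact ⟨i, m * i / n, Or.inr (by have := Nat.div_add_mod (m * i) n; omega)⟩
  rcases hij with e | e
  · have h1 := key n i hn
    rwa [e, add_comm, pow_add, pow_one, mul_smul, key m j hm] at h1
  · have h1 := key m i hm
    rwa [e, add_comm, pow_add, pow_one, mul_smul, key n j hn] at h1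

theorem fix_of_four (h4 : a ^ 4 • z = z) : a • z = z := by
  obtain ⟨n, hn, hna⟩ := h.odd
  refine h.fix_of_pow (hna z) h4 ?_
  have := Nat.Coprime.coprime_dvd_right (by norm_num : 2 ∣ 6) hn
  exact this.pow_right 2

theorem fix_of_three (h3 : a ^ 3 • z = z) : a • z = z := by
  obtain ⟨n, hn, hna⟩ := h.odd
  exact h.fix_of_pow (hna z) h3 (Nat.Coprime.coprime_dvd_right (by norm_num : 3 ∣ 6) hn)

theorem cubic : a ^ 3 • z = a ^ 2 • ((a + b + c) • z) + a • ((a * b + b * c + c * a) • z) + z := by
  have e : a ^ 3 = a ^ 2 * (a + b + c) - a * (a * b + b * c + c * a) + a * b * c := by ring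
  conv_lhs => rw [e]
  rw [add_smul, sub_smul, mul_smul, mul_smul, h.prod, h.sub_eq]

/-- The four possibilities. -/
theorem cases : a • z = z ∨ (a ^ 3 • z = a • z + z ∨ a ^ 3 • z = a ^ 2 • z + z) := by
  have hc := h.cubic
  rcases h.e1 with e1 | e1 <;> rcases h.e2 with e2 | e2 <;> rw [e1, e2] at hc
  · left
    exact h.fix_of_three (by simpa using hc)
  · exact Or.inr (Or.inl (by simpa using hc))
  · exact Or.inr (Or.inr (by simpa using hc))
  · left
    refine h.fix_of_four ?_
    rw [show a ^ 4 = a * a ^ 3 by ring, mul_smul, hc, smul_add, smul_add, ← mul_smul, ← mul_smul,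
      show a * a ^ 2 = a ^ 3 by ring, hc, show a * a = a ^ 2 by ring]
    rw [show a ^ 2 • z + a • z + z + a ^ 2 • z + a • z =
      (a ^ 2 • z + a ^ 2 • z) + (a • z + a • z) + z by abel, h.two, h.two, zero_add, zero_add]

/-- A symmetry of the cyclic sums forces `a` to fix `z`. -/
theorem fix_of_symm
    (he : (a * a * b + b * b * c + c * c * a) • z = (a * b * b + b * c * c + c * a * a) • z) :
    a • z = z := by
  have key : (a + b + c) • ((a * b + b * c + c * a) • z) = z := by
    rw [← mul_smul, show (a + b + c) * (a * b + b * c + c * a) =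
      (a * a * b + b * b * c + c * c * a) + (a * b * b + b * c * c + c * a * a) +
        (a * b * c + a * b * c + a * b * c) by ring]
    rw [add_smul, add_smul, he, h.two, zero_add, add_smul, add_smul, h.prod, h.two, zero_add]
  rcases h.e2 with e2 | e2
  · rw [e2, smul_zero] at key
    rw [← key, smul_zero]
  rw [e2] at key
  refine h.fix_of_four ?_
  have hc := h.cubic
  rw [key, e2] at hc
  rw [show a ^ 4 = a * a ^ 3 by ring, mul_smul, hc, smul_add, smul_add, ← mul_smul, ← mul_smul,
    show a * a ^ 2 = a ^ 3 by ring, hc, show a * a = a ^ 2 by ring]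
  rw [show a ^ 2 • z + a • z + z + a ^ 2 • z + a • z =
    (a ^ 2 • z + a ^ 2 • z) + (a • z + a • z) + z by abel, h.two, h.two, zero_add, zero_add]

/-- Unless `a` fixes `z`, `a` has order seven on it. -/
theorem pow_seven : a • z = z ∨ a ^ 7 • z = z := by
  rcases h.cases with e | e | e
  · exact Or.inl e
  · right
    have e4 : a ^ 4 • z = a ^ 2 • z + a • z := by
      rw [show a ^ 4 = a * a ^ 3 by ring, mul_smul, e, smul_add, ← mul_smul,
        show a * a = a ^ 2 by ring]
    rw [show a ^ 7 = a ^ 3 * a ^ 4 by ring, mul_smul, e4, smul_add, ← mul_smul, ← mul_smul,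
      show a ^ 3 * a ^ 2 = a * a ^ 4 by ring, show a ^ 3 * a = a ^ 4 by ring, mul_smul, e4,
      smul_add, ← mul_smul, ← mul_smul, show a * a ^ 2 = a ^ 3 by ring,
      show a * a = a ^ 2 by ring, e]
    rw [show a • z + z + a ^ 2 • z + (a ^ 2 • z + a • z) =
      (a • z + a • z) + (a ^ 2 • z + a ^ 2 • z) + z by abel, h.two, h.two, zero_add, zero_add]
  · right
    have e4 : a ^ 4 • z = a ^ 2 • z + z + a • z := by
      rw [show a ^ 4 = a * a ^ 3 by ring, mul_smul, e, smul_add, ← mul_smul,
        show a * a ^ 2 = a ^ 3 by ring, e]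
    have e5 : a ^ 5 • z = z + a • z := by
      rw [show a ^ 5 = a * a ^ 4 by ring, mul_smul, e4, smul_add, smul_add, ← mul_smul,
        ← mul_smul, show a * a ^ 2 = a ^ 3 by ring, show a * a = a ^ 2 by ring, e]
      rw [show a ^ 2 • z + z + a • z + a ^ 2 • z = (a ^ 2 • z + a ^ 2 • z) + (z + a • z) by abel,
        h.two, zero_add]
    rw [show a ^ 7 = a ^ 2 * a ^ 5 by ring, mul_smul, e5, smul_add, ← mul_smul,
      show a ^ 2 * a = a ^ 3 by ring, e]
    rw [← add_assoc, h.two, zero_add]

/-- The span of three powers is closed under all powers. -/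
theorem pow_mem_span (k : ℕ) : a • z = z ∨
    ∃ i j l : ℕ, a ^ k • z = i • z + j • (a • z) + l • (a ^ 2 • z) := by
  rcases h.cases with e | hc
  · exact Or.inl e
  right
  induction k with
  | zero => exact ⟨1, 0, 0, by simp⟩
  | succ k ih =>
    obtain ⟨i, j, l, hk⟩ := ih
    rw [pow_succ', mul_smul, hk, smul_add, smul_add, smul_comm a i z, smul_comm a j,
      smul_comm a l, ← mul_smul a a z, ← mul_smul a (a ^ 2) z, show a * a = a ^ 2 by ring,
      show a * a ^ 2 = a ^ 3 by ring]
    rcases hc with e | e <;> rw [e]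
    · exact ⟨l, i + l, j, by rw [smul_add, add_smul]; abel⟩
    · exact ⟨l, i, j + l, by rw [smul_add, add_smul]; abel⟩

end Triple

/-- The orbit sums of an operator of order seven without fixed points span everything. -/
theorem mem_span_seven {A E : Type*} [CommRing A] [AddCommGroup E] [Module A E] {a b c : A}
    (two : ∀ v : E, v + v = 0) (ha : ∀ v : E, a ^ 7 • v = v) (hb : ∀ v : E, b ^ 7 • v = v)
    (hc : ∀ v : E, c ^ 7 • v = v)
    (fb : ∀ v : E, (a ^ 6 * b) • v = v → v = 0) (fc : ∀ v : E, (a ^ 6 * c) • v = v → v = 0)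
    (v v' v'' : E) :
    v = ∑ i ∈ Finset.range 7, (a ^ 6) ^ i • (a ^ i • v + b ^ i • v' + c ^ i • v'') := by
  have pow7 : ∀ d : A, (∀ w : E, d ^ 7 • w = w) → ∀ w : E, (a ^ 6 * d) ^ 7 • w = w := by
    intro d hd w
    rw [mul_pow, mul_smul, hd, ← pow_mul, show 6 * 7 = 7 + 7 + 7 + 7 + 7 + 7 by norm_num,
      pow_add, pow_add, pow_add, pow_add, pow_add, mul_smul, mul_smul, mul_smul, mul_smul,
      mul_smul, ha, ha, ha, ha, ha, ha]
  have vanish : ∀ (v : E) (d : A), (∀ w : E, d ^ 7 • w = w) → (∀ w : E, d • w = w → w = 0) →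
      ∑ i ∈ Finset.range 7, d ^ i • v = 0 := by
    intro v d hd hfix
    refine hfix _ ?_
    rw [Finset.smul_sum]
    simp only [← mul_smul, ← pow_succ']
    have h1 := Finset.sum_range_succ (fun i => d ^ i • v) 7
    have h2 := Finset.sum_range_succ' (fun i => d ^ i • v) 7
    rw [h1, pow_zero, one_smul, hd v] at h2
    exact (add_right_cancel h2).symm
  have h1 : ∀ i : ℕ, (a ^ 6) ^ i • (a ^ i • v + b ^ i • v' + c ^ i • v'') =
      (a ^ 7) ^ i • v + (a ^ 6 * b) ^ i • v' + (a ^ 6 * c) ^ i • v'' := fun i => by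
    rw [smul_add, smul_add, ← mul_smul, ← mul_smul, ← mul_smul, ← mul_pow, ← mul_pow, ← mul_pow,
      show a ^ 6 * a = a ^ 7 by ring]
  rw [Finset.sum_congr rfl fun i _ => h1 i, Finset.sum_add_distrib, Finset.sum_add_distrib,
    vanish v' _ (pow7 b hb) fb, vanish v'' _ (pow7 c hc) fc, add_zero, add_zero]
  have h7 : ∀ i : ℕ, (a ^ 7) ^ i • v = v := fun i => by
    induction i with
    | zero => simp
    | succ i ih => rw [pow_succ, mul_smul, ha, ih]
  rw [Finset.sum_congr rfl fun i _ => h7 i, Finset.sum_const, Finset.card_range]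
  rw [show (7 : ℕ) = 2 * 3 + 1 by norm_num, add_nsmul, mul_nsmul', two_nsmul, two, one_nsmul,
    zero_add]

end CfsgLib.SelfCentralSix57
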