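import Cfsg.Agent.SelfCentralSix57.CaseOne

/-!
# The structure of `R` of order thirty-two with centre `⟨z⟩`
-/

set_option autoImplicit false
set_option linter.style.haveILetI false
set_option linter.unusedSectionVars false

namespace CfsgLib.SelfCentralSix57

open scoped commutatorElement

universe u

variable {G : Type u} [Group G] [Finite G]

namespace TwoR

variable {z s : G} {R : Subgroup G} (h : TwoR z s R)
include h

/-- With thirty-two elements all commutators lie in `⟨z⟩`. -/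
theorem zTwo_eq_of_card (hZ : ∀ w ∈ R, (∀ r ∈ R, Commute w r) → w = 1 ∨ w = z)
    (h32 : Nat.card R = 32) : ∀ x ∈ R, x ∈ h.zTwo := by
  classical
  set P := h.zTwo with hPdef
  have hP : TwoR z s P :=
    { ctx := h.ctx
      two := h.two.to_le h.zTwo_le
      mem := h.z_mem_zTwo
      central := fun r hr => h.central r (h.zTwo_le hr)
      act := fun r hr => h.act_zTwo hr }
  obtain ⟨k, hk⟩ := IsPGroup.iff_card.1 hP.two
  have hle := Subgroup.card_le_of_le h.zTwo_le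
  have hmod := hP.card_mod
  obtain ⟨p0, hp0, hp01, hp0z⟩ := h.zTwo_ne (by omega)
  have h3 : 3 ≤ Nat.card P := by
    have hsub : ({1, z, p0} : Set G) ⊆ (P : Set G) := by
      rintro x (rfl | rfl | rfl)
      exacts [one_mem P, h.z_mem_zTwo, hp0]
    have h1 := Set.ncard_le_ncard hsub (Set.toFinite _)
    rw [Set.ncard_insert_of_notMem (by
        simp only [Set.mem_insert_iff, Set.mem_singleton_iff, not_or]
        exact ⟨h.ctx.z_ne.symm, hp01.symm⟩),
      Set.ncard_insert_of_notMem (by simpa using hp0z.symm), Set.ncard_singleton,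
      ← Nat.card_coe_set_eq] at h1
    exact h1
  intro x hx
  by_contra hxP
  have hlt : Nat.card P < 32 := by
    refine lt_of_le_of_ne (h32 ▸ hle) fun e => hxP ?_
    exact (Subgroup.eq_of_le_of_card_ge h.zTwo_le (h32.trans e.symm).le).ge hx
  have hP8 : Nat.card P = 8 := by
    rw [hk] at h3 hlt hmod ⊢
    have : k ≤ 4 := by
      by_contra hk5
      have := Nat.pow_le_pow_right (show 1 ≤ 2 by norm_num) (show 5 ≤ k by omega)
      omega
    interval_cases k <;> omega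
  set x₁ := s * x * s⁻¹ with hx₁
  set x₂ := s * x₁ * s⁻¹ with hx₂
  have hx₁R : x₁ ∈ R := h.act x hx
  have hx₂R : x₂ ∈ R := h.act x₁ hx₁R
  have hsP : ∀ p, s * p * s⁻¹ ∈ P → p ∈ P := fun p hp => by
    have h1 := h.act_zTwo (h.act_zTwo hp)
    rwa [h.s_cubed] at h1
  have hd : ∀ y ∈ R, y ∉ P → y⁻¹ * (s * y * s⁻¹) ∉ P := by
    intro y hy hyP hm
    obtain ⟨n, hn, hc⟩ := exists_fixed h.ctx.s_cube (fun h3 => h.three
      (h3.trans (Subgroup.card_dvd_of_le h.zTwo_le))) (fun n hn => h.act_zTwo hn) hm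
    have : y * n ∈ P := by
      rcases h.fixed (mul_mem hy hn.1) hc with e | e <;> rw [e]
      · exact one_mem P
      · exact h.z_mem_zTwo
    exact hyP ((Subgroup.mul_mem_cancel_right P hn).1 this)
  have hPn : ∀ r ∈ R, ∀ p ∈ P, r * p * r⁻¹ ∈ P := by
    intro r hr p hp
    have e : r * p * r⁻¹ = ⁅r, p⁆ * p := by rw [commutatorElement_def]; group
    rw [e, ← commutatorElement_inv p r]
    refine mul_mem (inv_mem ?_) hp
    rcases hp.2 r hr with e | e <;> rw [e]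
    · exact one_mem P
    · exact h.z_mem_zTwo
  have hx₁P : x₁ ∉ P := fun hm => hxP (hsP x hm)
  have hxx₁ : x * x₁ ∉ P := by
    intro hm
    have h5 : x₁ * x ∈ P := by
      have := hPn x⁻¹ (inv_mem hx) _ hm
      rwa [show x⁻¹ * (x * x₁) * x⁻¹⁻¹ = x₁ * x by group] at this
    have h6 : x₂ * x₁ ∈ P := by
      have := h.act_zTwo h5
      rwa [show s * (x₁ * x) * s⁻¹ = x₂ * x₁ by rw [hx₂, hx₁]; group] at this
    have h7 : x⁻¹ * x₂ ∈ P := by
      have := hPn x⁻¹ (inv_mem hx) _ (mul_mem h6 (inv_mem hm))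
      rwa [show x⁻¹ * (x₂ * x₁ * (x * x₁)⁻¹) * x⁻¹⁻¹ = x⁻¹ * x₂ by group] at this
    refine hd x₂ hx₂R (fun hm => hx₁P (hsP _ hm)) ?_
    rw [hx₂, hx₁, h.s_cubed]
    have := inv_mem h7
    simpa [hx₂, hx₁] using this
  -- the four cosets
  have hcos : ∀ r ∈ R, r ∈ P ∨ x⁻¹ * r ∈ P ∨ x₁⁻¹ * r ∈ P ∨ (x * x₁)⁻¹ * r ∈ P := by
    by_contra hcon
    push Not at hcon
    obtain ⟨r, hr, hr1, hr2, hr3, hr4⟩ := hcon
    have hidx : (P.subgroupOf R).index = 4 := by
      have h1 := (P.subgroupOf R).card_mul_index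
      rw [Nat.card_congr (Subgroup.subgroupOfEquivOfLe h.zTwo_le).toEquiv, h32, hP8] at h1
      omega
    let v : Fin 5 → R := ![1, ⟨x, hx⟩, ⟨x₁, hx₁R⟩, ⟨x * x₁, mul_mem hx hx₁R⟩, ⟨r, hr⟩]
    have hinj : Function.Injective fun i => (QuotientGroup.mk (v i) : R ⧸ P.subgroupOf R) := by
      have a1 : x⁻¹ * x₁ ∉ P := hd x hx hxP
      have a2 : x⁻¹ * (x * x₁) ∉ P := by rwa [inv_mul_cancel_left]
      have a3 : x₁⁻¹ * (x * x₁) ∉ P := fun hm => hxP (by
        have := hPn x₁ hx₁R _ hm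
        rwa [show x₁ * (x₁⁻¹ * (x * x₁)) * x₁⁻¹ = x by group] at this)
      have key : ∀ i j : Fin 5, i < j → ((v i : G))⁻¹ * (v j : G) ∉ P := by
        intro i j hij
        fin_cases i <;> fin_cases j <;> simp_all [v, Fin.lt_def]
      intro i j e
      by_contra hne
      rcases lt_or_gt_of_ne hne with hl | hl
      · exact key i j hl (Subgroup.mem_subgroupOf.1 (QuotientGroup.eq.1 e))
      · exact key j i hl (Subgroup.mem_subgroupOf.1 (QuotientGroup.eq.1 e.symm))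
    have := Nat.card_le_card_of_injective _ hinj
    rw [Nat.card_fin, show Nat.card (R ⧸ P.subgroupOf R) = 4 from hidx] at this
    omega
  -- the commutator of `x` and `x₁`
  obtain ⟨p, hp, hxp⟩ : ∃ p ∈ P, x₂ = x * x₁ * p := by
    rcases hcos x₂ hx₂R with e | e | e | e
    · exact absurd (hsP _ e) hx₁P
    · exfalso
      refine hd x₂ hx₂R (fun hm => hx₁P (hsP _ hm)) ?_
      rw [hx₂, hx₁, h.s_cubed]
      have := inv_mem e
      simpa [hx₂, hx₁] using this
    · exact absurd e (hd x₁ hx₁R hx₁P)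
    · exact ⟨_, e, (mul_inv_cancel_left _ _).symm⟩
  set c := ⁅x, x₁⁆ with hc
  have hcP : c ∈ P := h.commutator_mem_zTwo hx hx₁R
  have key : ∀ q ∈ P, ∀ y ∈ R, ⁅y, q⁆ = 1 ∨ ⁅y, q⁆ = z := fun q hq y hy => by
    rw [← commutatorElement_inv q y]
    rcases hq.2 y hy with e | e <;> rw [e]
    · exact Or.inl inv_one
    · exact Or.inr h.ctx.z_inv
  have hcc : c⁻¹ = c ∨ c⁻¹ = c * z := by
    rcases h.zTwo_sq hZ hcP with e | e
    · exact Or.inl (inv_eq_of_mul_eq_one_right e)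
    · exact Or.inr (inv_eq_of_mul_eq_one_right (by rw [← mul_assoc, e, h.ctx.z_sq]))
  have hsc : s * c * s⁻¹ = c ∨ s * c * s⁻¹ = c * z := by
    have e1 : s * c * s⁻¹ = ⁅x₁, x⁆ * (x * ((x₁ * ⁅x₁, p⁆ * x₁⁻¹)) * x⁻¹) := by
      rw [hc, show s * ⁅x, x₁⁆ * s⁻¹ = ⁅x₁, x₂⁆ by
        rw [hx₂, hx₁]; simp only [commutatorElement_def]; group, hxp]
      simp only [commutatorElement_def]; group
    rw [← commutatorElement_inv x x₁, ← hc, ← (h.z_comm (key p hp x₁ hx₁R) hx₁R).eq,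
      mul_inv_cancel_right, ← (h.z_comm (key p hp x₁ hx₁R) hx).eq, mul_inv_cancel_right] at e1
    rcases key p hp x₁ hx₁R with e | e <;> rw [e] at e1
    · rw [mul_one] at e1
      rcases hcc with e' | e' <;> rw [e'] at e1
      · exact Or.inl e1
      · exact Or.inr e1
    · rcases hcc with e' | e' <;> rw [e'] at e1
      · exact Or.inr e1
      · rw [mul_assoc c z z, h.ctx.z_sq, mul_one] at e1
        exact Or.inl e1
  have hcz : c = 1 ∨ c = z := h.mem_of_fixed_coset (h.zTwo_le hcP) hsc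
  refine hxP ⟨hx, fun r hr => ?_⟩
  have expand : ∀ y ∈ R, ∀ y' ∈ R, (⁅x, y⁆ = 1 ∨ ⁅x, y⁆ = z) → (⁅x, y'⁆ = 1 ∨ ⁅x, y'⁆ = z) →
      (⁅x, y * y'⁆ = 1 ∨ ⁅x, y * y'⁆ = z) := by
    intro y hy y' _ h1 h2
    rw [show ⁅x, y * y'⁆ = ⁅x, y⁆ * (y * ⁅x, y'⁆ * y⁻¹) by simp only [commutatorElement_def]; group,
      ← (h.z_comm h2 hy).eq, mul_inv_cancel_right]
    exact h.z_mul h1 h2
  have e0 : ⁅x, x⁆ = 1 ∨ ⁅x, x⁆ = z := Or.inl (commutatorElement_self x)
  rcases hcos r hr with e | e | e | e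
  · exact key r e x hx
  · rw [← mul_inv_cancel_left x r]
    exact expand x hx _ (h.zTwo_le e) e0 (key _ e x hx)
  · rw [← mul_inv_cancel_left x₁ r]
    exact expand x₁ hx₁R _ (h.zTwo_le e) hcz (key _ e x hx)
  · rw [← mul_inv_cancel_left (x * x₁) r]
    exact expand _ (mul_mem hx hx₁R) _ (h.zTwo_le e) (expand x hx x₁ hx₁R e0 hcz) (key _ e x hx)

end TwoR

end CfsgLib.SelfCentralSix57
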