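import Cfsg.Agent.SelfCentralSix57.Extra32

/-!
# The fixed part of an extraspecial `R` of order thirty-two
-/

set_option autoImplicit false
set_option linter.style.haveILetI false
set_option linter.unusedSectionVars false

namespace CfsgLib.SelfCentralSix57

open scoped commutatorElement

universe u

variable {G : Type u} [Group G] [Finite G]

/-- A finite map with fibres of at most `n` elements. -/
theorem card_le_of_fibres {α β : Type*} [Finite α] [Finite β] (f : α → β) (n : ℕ)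
    (hf : ∀ a₀ : α, Nat.card {a // f a = f a₀} ≤ n) :
    Nat.card α ≤ n * Nat.card (Set.range f) := by
  classical
  haveI := Fintype.ofFinite α
  haveI := Fintype.ofFinite β
  have hr : Nat.card (Set.range f) = (Finset.univ.image f).card := by
    rw [Nat.card_coe_set_eq, ← Set.ncard_coe_finset, Finset.coe_image, Finset.coe_univ, Set.image_univ]
  rw [hr, Nat.card_eq_fintype_card, ← Finset.card_univ]
  refine Finset.card_le_mul_card_image _ n fun b hb => ?_
  obtain ⟨a₀, -, rfl⟩ := Finset.mem_image.1 hb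
  have := hf a₀
  rwa [Nat.card_eq_fintype_card, Fintype.card_subtype] at this

namespace S3Cfg

variable {z s u : G} {R W : Subgroup G} (h : S3Cfg z s u R W)
include h

section

variable (hP : ∀ x ∈ R, x ∈ h.rs.zTwo) (hZ : ∀ w ∈ R, (∀ r ∈ R, Commute w r) → w = 1 ∨ w = z)

include hP in
theorem comm_cases {p q : G} (hp : p ∈ R) (hq : q ∈ R) : ⁅p, q⁆ = 1 ∨ ⁅p, q⁆ = z :=
  (hP p hp).2 q hq

include hP hZ in
theorem sq_cases {p : G} (hp : p ∈ R) : p * p = 1 ∨ p * p = z := h.rs.zTwo_sq hZ (hP p hp)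

include hP in
theorem swap_eq {p q : G} (hp : p ∈ R) (hq : q ∈ R) :
    ∃ ζ, (ζ = 1 ∨ ζ = z) ∧ p * q = q * p * ζ := by
  refine ⟨⁅p⁻¹, q⁻¹⁆, h.comm_cases hP (inv_mem hp) (inv_mem hq), ?_⟩
  simp only [commutatorElement_def]; group

include hP hZ in
/-- The commutator of a translate. -/
theorem comm_translate {p : G} (hp : p ∈ R) : ⁅p, s * p * s⁻¹⁆ = p * p := by
  set p₁ := s * p * s⁻¹ with hp₁
  set p₂ := s * p₁ * s⁻¹ with hp₂
  have hp₁R : p₁ ∈ R := h.rs.act p hp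
  have hp₂R : p₂ ∈ R := h.rs.act p₁ hp₁R
  have hsq : ∀ x ∈ R, s * x * s⁻¹ * (s * x * s⁻¹) = x * x := fun x hx => by
    rw [show s * x * s⁻¹ * (s * x * s⁻¹) = s * (x * x) * s⁻¹ by group,
      h.s_zcase (h.sq_cases hP hZ hx)]
  have h1 : p₁ * p₁ = p * p := hsq p hp
  have h2 : p₂ * p₂ = p * p := (hsq p₁ hp₁R).trans h1
  have hn : p * p₁ * p₂ = 1 ∨ p * p₁ * p₂ = z := h.rs.norm hp
  set θ := p * p₁ * p₂ with hθ
  have e1 : p * p₁ = θ * p₂⁻¹ := by rw [hθ, mul_inv_cancel_right]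
  have e2 : p * p₁ * (p * p₁) = p * p := by
    rw [e1, ((h.rs.z_comm hn (inv_mem hp₂R)).symm).mul_mul_mul_comm, h.rs.sq_z hn, one_mul,
      ← mul_inv_rev, h2]
    rcases h.sq_cases hP hZ hp with e | e <;> rw [e]
    · exact inv_one
    · exact h.ctx.z_inv
  have e3 : p * p₁ * (p * p₁) = p * ⁅p₁, p⁆ * p * (p₁ * p₁) := by
    simp only [commutatorElement_def]; group
  have hc := h.comm_cases hP hp₁R hp
  rw [e2, h1, ← (h.rs.z_comm hc hp).eq, mul_assoc ⁅p₁, p⁆ p p, mul_assoc ⁅p₁, p⁆,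
    h.rs.sq_z (h.sq_cases hP hZ hp), mul_one] at e3
  rw [← commutatorElement_inv p₁ p, ← e3]
  rcases h.sq_cases hP hZ hp with e | e <;> rw [e]
  · exact inv_one
  · exact h.ctx.z_inv

include hP hZ in
/-- The fixed part has order eight and generates `R` with its translate. -/
theorem card_fixMod (h32 : Nat.card R = 32) :
    Nat.card h.fixMod = 8 ∧ ∀ r ∈ R, ∃ f ∈ h.fixMod, ∃ g ∈ h.fixMod, r = f * (s * g * s⁻¹) := by
  classical
  set F := h.fixMod with hF
  have hu2 : ∀ p ∈ R, u * (u * p * u⁻¹) * u⁻¹ = p := by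
    intro p hp
    rw [show u * (u * p * u⁻¹) * u⁻¹ = (u * u) * p * (u * u)⁻¹ by group,
      ((h.rs.z_comm h.u_sq hp)).eq, mul_inv_cancel_right]
  let τ : R → F := fun p => ⟨(p : G) * (u * p * u⁻¹), mul_mem p.2 (h.uR p p.2), by
    obtain ⟨ζ, hζ, e⟩ := h.swap_eq hP (h.uR p p.2) p.2
    exact ⟨ζ, hζ, by
      rw [show u * ((p : G) * (u * p * u⁻¹)) * u⁻¹ = (u * p * u⁻¹) * (u * (u * p * u⁻¹) * u⁻¹) by
        group, hu2 p p.2, e]⟩⟩
  have hτ : Nat.card R ≤ Nat.card F * Nat.card (Set.range τ) := by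
    refine card_le_of_fibres τ _ fun q => ?_
    refine Nat.card_le_card_of_injective (fun p : {p // τ p = τ q} =>
      (⟨(q : G)⁻¹ * (p.1 : G), ?_⟩ : F)) fun a b e => ?_
    · have e : (p.1 : G) * (u * p.1 * u⁻¹) = (q : G) * (u * q * u⁻¹) := congrArg Subtype.val p.2
      refine ⟨mul_mem (inv_mem q.2) p.1.2, ?_⟩
      have e1 : (q : G)⁻¹ * (p.1 : G) = u * ((q : G) * (p.1 : G)⁻¹) * u⁻¹ := by
        calc (q : G)⁻¹ * (p.1 : G) = (q : G)⁻¹ * ((p.1 : G) * (u * p.1 * u⁻¹)) * (u * p.1 * u⁻¹)⁻¹ := by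
              group
          _ = _ := by rw [e]; group
      have e1' : u * ((q : G)⁻¹ * (p.1 : G)) * u⁻¹ = (q : G) * (p.1 : G)⁻¹ := by
        rw [e1, hu2 _ (mul_mem q.2 (inv_mem p.1.2))]
      -- compare `q p⁻¹` with `q⁻¹ p`
      have hqq := h.sq_cases hP hZ q.2
      have hpp := h.sq_cases hP hZ p.1.2
      refine ⟨((q : G) * q) * ((p.1 : G) * p.1)⁻¹, ?_, ?_⟩
      · rcases hpp with e2 | e2 <;> rw [e2]
        · rw [inv_one, mul_one]; exact hqq
        · rw [h.ctx.z_inv]; exact h.rs.z_mul hqq (Or.inr rfl)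
      · have hc : Commute ((q : G) * q) ((q : G)⁻¹ * p.1) :=
          h.rs.z_comm hqq (mul_mem (inv_mem q.2) p.1.2)
        rw [e1', ← mul_assoc, ← hc.eq]
        group
    · exact Subtype.ext (Subtype.ext (mul_left_cancel (congrArg Subtype.val e)))
  have hle : Nat.card R ≤ Nat.card F * Nat.card F :=
    hτ.trans (Nat.mul_le_mul_left _ (Nat.card_le_card_of_injective Subtype.val Subtype.val_injective))
  let μ : F × F → R := fun fg => ⟨(fg.1 : G) * (s * fg.2 * s⁻¹),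
    mul_mem fg.1.2.1 (h.rs.act _ fg.2.2.1)⟩
  have hμ : Nat.card (F × F) ≤ 2 * Nat.card (Set.range μ) := by
    refine card_le_of_fibres μ _ fun a => ?_
    rw [← h.ctx.card_zpowers_z]
    refine Nat.card_le_card_of_injective (fun b : {b // μ b = μ a} =>
      (⟨(a.2 : G) * (b.1.2 : G)⁻¹, ?_⟩ : Subgroup.zpowers z)) fun b b' e => ?_
    · have e : (b.1.1 : G) * (s * b.1.2 * s⁻¹) = (a.1 : G) * (s * a.2 * s⁻¹) :=
        congrArg Subtype.val b.2
      refine h.ctx.mem_zpowers_z_iff.2 (h.eq_of_fixMod_shift (mul_mem a.2.2 (inv_mem b.1.2.2)) ?_)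
      have e1 : s * ((a.2 : G) * (b.1.2 : G)⁻¹) * s⁻¹ = (a.1 : G)⁻¹ * b.1.1 := by
        calc s * ((a.2 : G) * (b.1.2 : G)⁻¹) * s⁻¹
            = (a.1 : G)⁻¹ * ((a.1 : G) * (s * a.2 * s⁻¹)) * (s * b.1.2 * s⁻¹)⁻¹ := by group
          _ = _ := by rw [← e]; group
      rw [e1]
      exact mul_mem (inv_mem a.1.2) b.1.1.2
    · have e1 : (b.1.2 : G) = b'.1.2 := inv_injective (mul_left_cancel (congrArg Subtype.val e))
      have e2 : (b.1.1 : G) * (s * b.1.2 * s⁻¹) = (b'.1.1 : G) * (s * b'.1.2 * s⁻¹) :=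
        (congrArg Subtype.val b.2).trans (congrArg Subtype.val b'.2).symm
      rw [e1] at e2
      exact Subtype.ext (Prod.ext (Subtype.ext (mul_right_cancel e2)) (Subtype.ext e1))
  rw [Nat.card_prod] at hμ
  have hμle : Nat.card (Set.range μ) ≤ Nat.card R :=
    Nat.card_le_card_of_injective Subtype.val Subtype.val_injective
  obtain ⟨k, hk⟩ := IsPGroup.iff_card.1 (h.rs.two.to_le h.fixMod_le)
  have h8 : Nat.card F = 8 := by
    have hk' : k = 3 := by
      rw [hk, h32] at hle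
      rw [hk] at hμ
      have hk1 : 3 ≤ k := by
        by_contra hk2
        have := Nat.pow_le_pow_right (show 1 ≤ 2 by norm_num) (show k ≤ 2 by omega)
        nlinarith
      have hk3 : k ≤ 3 := by
        by_contra hk4
        have := Nat.pow_le_pow_right (show 1 ≤ 2 by norm_num) (show 4 ≤ k by omega)
        nlinarith
      omega
    rw [hk, hk']; norm_num
  refine ⟨h8, fun r hr => ?_⟩
  have hsurj : Set.range μ = Set.univ := by
    refine Set.eq_of_subset_of_ncard_le (Set.subset_univ _) ?_ (Set.toFinite _)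
    rw [Set.ncard_univ, h32, ← Nat.card_coe_set_eq]
    rw [h8] at hμ
    omega
  obtain ⟨fg, e⟩ := hsurj.ge (Set.mem_univ (⟨r, hr⟩ : R))
  exact ⟨fg.1, fg.1.2, fg.2, fg.2.2, (congrArg Subtype.val e).symm⟩

include hP hZ in
/-- An index two centraliser is not abelian. -/
theorem exists_noncommuting (h32 : Nat.card R = 32) {v : G} (hv : v ∈ R) :
    ∃ d₁ ∈ R, ∃ d₂ ∈ R, Commute d₁ v ∧ Commute d₂ v ∧ ⁅d₁, d₂⁆ = z := by
  classical
  by_contra hcon
  push Not at hcon
  set D : Subgroup G := R ⊓ Subgroup.centralizer {v} with hDdef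
  have memD : ∀ {x}, x ∈ D ↔ x ∈ R ∧ Commute x v := fun {x} =>
    ⟨fun hx => ⟨hx.1, Subgroup.mem_centralizer_singleton_iff.1 hx.2⟩,
      fun hx => ⟨hx.1, Subgroup.mem_centralizer_singleton_iff.2 hx.2.eq⟩⟩
  have hab : ∀ x ∈ D, ∀ y ∈ D, Commute x y := fun x hx y hy =>
    commutatorElement_eq_one_iff_commute.1 ((h.comm_cases hP hx.1 hy.1).resolve_right
      (hcon x hx.1 y hy.1 (memD.1 hx).2 (memD.1 hy).2))
  -- `⁅r₀, ·⁆` has kernel inside the centre
  have bound : ∀ (r0 : G), r0 ∈ R → (∀ r ∈ R, r ∈ D ∨ r0⁻¹ * r ∈ D) → False := by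
    intro r0 hr0 hsp
    have hker : ∀ x ∈ D, ⁅r0, x⁆ = 1 → x = 1 ∨ x = z := fun x hx he =>
      hZ x hx.1 fun r hr => by
        rcases hsp r hr with e | e
        · exact hab x hx r e
        · have := (commutatorElement_eq_one_iff_commute.1 he).symm.mul_right (hab x hx _ e)
          rwa [mul_inv_cancel_left] at this
    have hDle : Nat.card D ≤ 4 := by
      by_cases hall : ∀ x ∈ D, ⁅r0, x⁆ = 1
      · have hle : D ≤ Subgroup.zpowers z := fun x hx =>
          h.ctx.mem_zpowers_z_iff.2 (hker x hx (hall x hx))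
        have := Subgroup.card_le_of_le hle
        rw [h.ctx.card_zpowers_z] at this
        omega
      push Not at hall
      obtain ⟨d, hd, hd1⟩ := hall
      have hsub : (D : Set G) ⊆ {1, z} ∪ (d * ·) '' {1, z} := by
        intro x hx
        by_cases he : ⁅r0, x⁆ = 1
        · exact Or.inl (hker x hx he)
        · refine Or.inr ⟨d⁻¹ * x, ?_, mul_inv_cancel_left d x⟩
          refine hker _ (mul_mem (inv_mem hd) hx) ?_
          have hP0 := hP r0 hr0
          have e1 := h.rs.mul_commutator hP0 hd.1 (mul_mem (inv_mem hd.1) hx.1)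
          rw [mul_inv_cancel_left, (h.comm_cases hP hr0 hx.1).resolve_left he,
            (h.comm_cases hP hr0 hd.1).resolve_left hd1] at e1
          exact mul_eq_left.1 e1.symm
      have h1 := (Set.ncard_le_ncard hsub (Set.toFinite _)).trans (Set.ncard_union_le _ _)
      have h2 : ((d * ·) '' ({1, z} : Set G)).ncard ≤ ({1, z} : Set G).ncard :=
        Set.ncard_image_le (Set.toFinite _)
      have h3 : ({1, z} : Set G).ncard ≤ 2 := (Set.ncard_insert_le _ _).trans (by simp)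
      rw [← Nat.card_coe_set_eq] at h1
      simp only [SetLike.coe_sort_coe] at h1
      omega
    have hsub : (R : Set G) ⊆ (D : Set G) ∪ (r0 * ·) '' (D : Set G) := fun r hr => by
      rcases hsp r hr with e | e
      · exact Or.inl e
      · exact Or.inr ⟨_, e, mul_inv_cancel_left r0 r⟩
    have h1 := (Set.ncard_le_ncard hsub (Set.toFinite _)).trans (Set.ncard_union_le _ _)
    have h2 : ((r0 * ·) '' (D : Set G)).ncard ≤ (D : Set G).ncard :=
      Set.ncard_image_le (Set.toFinite _)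
    have h3 : (R : Set G).ncard = Nat.card R := (Nat.card_coe_set_eq _).symm
    have h4 : (D : Set G).ncard = Nat.card D := (Nat.card_coe_set_eq _).symm
    omega
  by_cases hc : ∀ r ∈ R, Commute r v
  · exact bound 1 (one_mem R) fun r hr => Or.inl (memD.2 ⟨hr, hc r hr⟩)
  push Not at hc
  obtain ⟨r0, hr0, hr0v⟩ := hc
  refine bound r0 hr0 fun r hr => ?_
  by_cases hrv : Commute r v
  · exact Or.inl (memD.2 ⟨hr, hrv⟩)
  · refine Or.inr (memD.2 ⟨mul_mem (inv_mem hr0) hr, ?_⟩)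
    have e : ∀ x ∈ R, ¬ Commute x v → x * v * x⁻¹ = z * v := by
      intro x hx hxv
      have := (h.comm_cases hP hx hv).resolve_left
        fun e => hxv (commutatorElement_eq_one_iff_commute.1 e)
      rw [← this, commutatorElement_def]; group
    refine mul_inv_eq_iff_eq_mul.1 ?_
    calc r0⁻¹ * r * v * (r0⁻¹ * r)⁻¹ = r0⁻¹ * (r * v * r⁻¹) * r0 := by group
      _ = r0⁻¹ * (r0 * v * r0⁻¹) * r0 := by rw [e r hr hrv, e r0 hr0 hr0v]
      _ = v := by group

include hP hZ in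
/-- A singular element whose orbit avoids the fixed part. -/
theorem false_of_avoid (h32 : Nat.card R = 32) {v : G} (hv : v ∈ R) (hv2 : v * v = 1)
    (hv1 : v ≠ 1) (h0 : v ∉ h.fixMod) (h1 : s * v * s⁻¹ ∉ h.fixMod)
    (h2 : s * (s * v * s⁻¹) * s⁻¹ ∉ h.fixMod) : False := by
  classical
  haveI : Fact (Nat.Prime 2) := ⟨Nat.prime_two⟩
  obtain ⟨d₁, hd₁, d₂, hd₂, hc₁, hc₂, hd⟩ := h.exists_noncommuting hP hZ h32 hv
  obtain ⟨Sy, hSy⟩ := h.sylow
  have hS : (Sy : Subgroup G) = h.S := hSy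
  set D : Subgroup G := R ⊓ Subgroup.centralizer {v} with hDdef
  have memD : ∀ {x}, x ∈ D ↔ x ∈ R ∧ Commute x v := fun {x} =>
    ⟨fun hx => ⟨hx.1, Subgroup.mem_centralizer_singleton_iff.1 hx.2⟩,
      fun hx => ⟨hx.1, Subgroup.mem_centralizer_singleton_iff.2 hx.2.eq⟩⟩
  set C : Subgroup G := Subgroup.centralizer {v} with hC
  have hDC : D ≤ C := fun x hx => hx.2
  obtain ⟨g0, hg0⟩ := isConj_iff.1 (h.hconj z v h.ctx.z_ord
    (orderOf_eq_prime (by rw [sq, hv2]) hv1))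
  have hSC : h.S.map (MulAut.conj g0).toMonoidHom ≤ C := by
    rintro _ ⟨x, hx, rfl⟩
    refine Subgroup.mem_centralizer_singleton_iff.2 ?_
    simp only [MulEquiv.coe_toMonoidHom, MulAut.conj_apply]
    rw [← hg0]
    exact ((h.S_z hx).map (MulAut.conj g0).toMonoidHom).eq
  have hD2 : IsPGroup 2 (D.subgroupOf C) :=
    (h.rs.two.to_le (show D ≤ R from fun x hx => hx.1)).comap_of_injective C.subtype C.subtype_injective
  obtain ⟨P, hP'⟩ := hD2.exists_le_sylow
  set T : Subgroup G := (P : Subgroup C).map C.subtype with hT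
  have hDT : D ≤ T := fun x hx => ⟨⟨x, hDC hx⟩, hP' hx, rfl⟩
  have hcard : Nat.card h.S ≤ Nat.card T := by
    have h1 : Nat.card h.S ∣ Nat.card C := by
      rw [← Subgroup.card_map_of_injective (f := (MulAut.conj g0).toMonoidHom)
        (MulAut.conj g0).injective]
      exact Subgroup.card_dvd_of_le hSC
    obtain ⟨k, hk⟩ := IsPGroup.iff_card.1 h.S_two
    rw [hk] at h1 ⊢
    rw [hT, Subgroup.card_map_of_injective C.subtype_injective]
    exact Nat.le_of_dvd Nat.card_pos (P.pow_dvd_card_of_pow_dvd_card h1)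
  haveI : Group.IsNilpotent T := (P.2.map C.subtype).isNilpotent
  have hne : D.subgroupOf T < ⊤ := lt_top_iff_ne_top.2 fun e => by
    have hle : T ≤ D := fun x hx => Subgroup.mem_subgroupOf.1 (e.ge (Subgroup.mem_top (⟨x, hx⟩ : T)))
    have := (hcard.trans (Subgroup.card_le_of_le hle)).trans
      (Subgroup.card_le_of_le (show D ≤ R from fun x hx => hx.1))
    have := h.card_S
    omega
  obtain ⟨⟨x, hxT⟩, hxn, hxD⟩ := SetLike.exists_of_lt
    (Group.normalizerCondition_of_isNilpotent _ hne)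
  have hxD' : x ∉ D := fun hm => hxD (Subgroup.mem_subgroupOf.2 hm)
  have hxnorm : ∀ d ∈ D, x * d * x⁻¹ ∈ D := fun d hd =>
    Subgroup.mem_subgroupOf.1 ((Subgroup.mem_normalizer_iff.1 hxn ⟨d, hDT hd⟩).1
      (Subgroup.mem_subgroupOf.2 hd))
  have hxv : Commute x v := by
    obtain ⟨y, -, rfl⟩ := hxT
    exact Subgroup.mem_centralizer_singleton_iff.1 y.2
  have hxz : Commute x z := by
    have e1 : x * z * x⁻¹ = ⁅x * d₁ * x⁻¹, x * d₂ * x⁻¹⁆ := by
      rw [← hd]; simp only [commutatorElement_def]; group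
    rcases h.comm_cases hP (memD.1 (hxnorm d₁ (memD.2 ⟨hd₁, hc₁⟩))).1
      (memD.1 (hxnorm d₂ (memD.2 ⟨hd₂, hc₂⟩))).1 with e | e <;> rw [e] at e1
    · exact absurd (conj_eq_one_iff.1 e1) h.ctx.z_ne
    · exact mul_inv_eq_iff_eq_mul.1 e1
  obtain ⟨k, hk⟩ := (P.2.map C.subtype) ⟨x, hxT⟩
  rcases h.two_cases hxz (congrArg Subtype.val hk : x ^ 2 ^ k = 1) with hxR | ⟨r, hr, w, hw, i, rfl⟩
  · exact hxD' (memD.2 ⟨hxR, hxv⟩)
  -- `u` fixes a translate of `v`
  set y := s ^ i * (u * v * u⁻¹) * (s ^ i)⁻¹ with hy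
  have hyR : y ∈ R := h.normR _ (h.ctx.comm.symm.pow_left i) _ (h.uR v hv)
  have e1 : r * y * r⁻¹ = v := by
    have e2 : r * w * s ^ i * u * v * (r * w * s ^ i * u)⁻¹ = r * (w * y * w⁻¹) * r⁻¹ := by
      rw [hy]; group
    rw [hxv.eq, mul_inv_cancel_right, ← (h.W_comm y hyR w hw).eq, mul_inv_cancel_right] at e2
    exact e2.symm
  obtain ⟨ζ, hζ, ey⟩ : ∃ ζ, (ζ = 1 ∨ ζ = z) ∧ y = v * ζ := by
    refine ⟨⁅v⁻¹, r⁻¹⁆, h.comm_cases hP (inv_mem hv) (inv_mem hr), ?_⟩
    have e3 : y = r⁻¹ * v * r := by rw [← e1]; group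
    rw [e3]; simp only [commutatorElement_def]; group
  have key : ∀ j : ℕ, (s ^ j * u) * v * (s ^ j * u)⁻¹ = v * ζ →
      s ^ j * v * (s ^ j)⁻¹ ∈ h.fixMod := by
    intro j ej
    refine ⟨h.normR _ (h.ctx.comm.symm.pow_left j) _ hv, ζ, hζ, ?_⟩
    have e4 : u * v * u⁻¹ = (s ^ j)⁻¹ * (v * ζ) * s ^ j := by rw [← ej]; group
    have e5 : u * (s ^ j * v * (s ^ j)⁻¹) * u⁻¹ = (s ^ j)⁻¹ * (u * v * u⁻¹) * s ^ j := by
      calc u * (s ^ j * v * (s ^ j)⁻¹) * u⁻¹
          = (u * s * u⁻¹) ^ j * (u * v * u⁻¹) * ((u * s * u⁻¹) ^ j)⁻¹ := by rw [conj_pow]; group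
        _ = _ := by rw [h.u_inv, inv_pow, inv_inv]
    have hpow : (s ^ j)⁻¹ * (s ^ j)⁻¹ = s ^ j := by
      have h3 : s ^ (3 * j) = 1 := by rw [pow_mul, h.ctx.s_cube, one_pow]
      rw [← mul_inv_rev, ← pow_add]
      refine inv_eq_of_mul_eq_one_right ?_
      rw [← pow_add, show j + j + j = 3 * j by ring, h3]
    have hsζ : s ^ j * ζ * (s ^ j)⁻¹ = ζ := by
      have hc : Commute s ζ := by
        rcases hζ with rfl | rfl
        · exact Commute.one_right s
        · exact h.ctx.comm.symm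
      rw [(hc.pow_left j).eq, mul_inv_cancel_right]
    rw [e5, e4, show (s ^ j)⁻¹ * ((s ^ j)⁻¹ * (v * ζ) * s ^ j) * s ^ j =
      ((s ^ j)⁻¹ * (s ^ j)⁻¹) * (v * ζ) * ((s ^ j)⁻¹ * (s ^ j)⁻¹)⁻¹ by group, hpow,
      show s ^ j * (v * ζ) * (s ^ j)⁻¹ = (s ^ j * v * (s ^ j)⁻¹) * (s ^ j * ζ * (s ^ j)⁻¹) by group,
      hsζ]
  have hi := key i (by rw [← ey, hy]; group)
  have e6 : s ^ i = s ^ (i % 3) := by
    conv_lhs => rw [← Nat.mod_add_div i 3, pow_add, pow_mul, h.ctx.s_cube, one_pow, mul_one]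
  rw [e6] at hi
  have : i % 3 < 3 := Nat.mod_lt _ (by norm_num)
  interval_cases hm : i % 3
  · exact h0 (by simpa using hi)
  · exact h1 (by simpa using hi)
  · refine h2 ?_
    rw [show s ^ 2 * v * (s ^ 2)⁻¹ = s * (s * v * s⁻¹) * s⁻¹ by rw [sq]; group] at hi
    exact hi

end

end S3Cfg

end CfsgLib.SelfCentralSix57
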