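import Cfsg.Agent.SelfCentralSix57.TwoSetting

/-!
# No singular element in the second centre
-/

set_option autoImplicit false
set_option linter.style.haveILetI false
set_option linter.unusedSectionVars false

namespace CfsgLib.SelfCentralSix57

open scoped commutatorElement

universe u

variable {G : Type u} [Group G] [Finite G]

namespace TwoR

variable {z s : G} {R : Subgroup G} (h : TwoR z s R)
include h

/-- Without singular elements in the second centre the group has order at most eight. -/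
theorem card_le_eight_of_no_singular (hZ : ∀ w ∈ R, (∀ r ∈ R, Commute w r) → w = 1 ∨ w = z)
    (hns : ∀ p ∈ h.zTwo, p * p = 1 → p = 1 ∨ p = z) : Nat.card R ≤ 8 := by
  classical
  by_cases hR : Nat.card R ≤ 2
  · omega
  set P := h.zTwo with hP
  obtain ⟨x, hx, hx1, hxz⟩ := h.zTwo_ne (by omega)
  have hsq : ∀ p ∈ P, p ≠ 1 → p ≠ z → p * p = z := fun p hp h1 h2 =>
    (h.zTwo_sq hZ hp).resolve_left fun e => (hns p hp e).elim h1 h2
  have hxx := hsq x hx hx1 hxz
  set y := s * x * s⁻¹ with hy
  have hyP : y ∈ P := h.act_zTwo hx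
  have hyy : y * y = z := by
    rw [hy, show s * x * s⁻¹ * (s * x * s⁻¹) = s * (x * x) * s⁻¹ by group, hxx, h.s_z]
  have hxy : ¬ Commute x y := by
    intro hc
    have e : x * y * (x * y) = 1 := by rw [hc.symm.mul_mul_mul_comm, hxx, hyy, h.ctx.z_sq]
    have hxi : x⁻¹ = x * z := inv_eq_of_mul_eq_one_right (by rw [← mul_assoc, hxx, h.ctx.z_sq])
    rcases hns _ (mul_mem hx hyP) e with e' | e'
    · have := eq_inv_of_mul_eq_one_right e'
      rw [hxi] at this
      exact (h.mem_of_fixed_coset hx.1 (Or.inr this)).elim hx1 hxz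
    · have := eq_inv_mul_iff_mul_eq.2 e'
      rw [hxi, mul_assoc, h.ctx.z_sq, mul_one] at this
      exact (h.mem_of_fixed_coset hx.1 (Or.inl this)).elim hx1 hxz
  have hxyz : ⁅x, y⁆ = z := (hx.2 y hyP.1).resolve_left fun e =>
    hxy (commutatorElement_eq_one_iff_commute.1 e)
  have hyxz : ⁅y, x⁆ = z := by rw [← commutatorElement_inv x y, hxyz, h.ctx.z_inv]
  -- the second centre has order eight
  set Q : Subgroup G := Subgroup.closure {x, y} with hQ
  have hQP : Q ≤ P := (Subgroup.closure_le _).2 fun a ha => by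
    rcases ha with rfl | rfl
    · exact hx
    · exact hyP
  have hxQ : Subgroup.zpowers x ≤ Q :=
    Subgroup.zpowers_le.2 (Subgroup.subset_closure (Or.inl rfl))
  have hyx : y ∉ Subgroup.zpowers x := fun hm => hxy (by
    obtain ⟨k, hk⟩ := Subgroup.mem_zpowers_iff.1 hm
    exact hk ▸ (Commute.refl x).zpow_right k)
  have hx4 : Nat.card (Subgroup.zpowers x) = 4 := by
    rw [Nat.card_zpowers, orderOf_four h.ctx.z_ord hxx]
  have hP16 : Nat.card P < 16 := by
    by_contra hlt
    obtain ⟨v, hv, hv2, hv1, hvz⟩ := exists_singular (U := P) h.ctx.z_ord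
      (fun a ha => h.central a ha.1) (fun a ha => h.zTwo_sq hZ ha)
      (fun a ha b hb => ha.2 b hb.1) (by omega)
    exact (hns v hv hv2).elim hv1 hvz
  have hQlt : 4 < Nat.card Q := by
    by_contra hle
    have := Subgroup.eq_of_le_of_card_ge hxQ (by omega)
    exact hyx (this ▸ Subgroup.subset_closure (Or.inr rfl))
  have hdvd : Nat.card Q ∣ Nat.card P := Subgroup.card_dvd_of_le hQP
  obtain ⟨i, hi⟩ := IsPGroup.iff_card.1 (h.two.to_le h.zTwo_le)
  obtain ⟨j, hj⟩ := IsPGroup.iff_card.1 (h.two.to_le (hQP.trans h.zTwo_le))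
  have hij : Nat.card Q ≤ Nat.card P := Nat.le_of_dvd Nat.card_pos hdvd
  have hj3 : 3 ≤ j := by
    by_contra hlt
    have := Nat.pow_le_pow_right (n := 2) (by norm_num) (show j ≤ 2 by omega)
    omega
  have hi3 : i ≤ 3 := by
    by_contra hlt
    have := Nat.pow_le_pow_right (n := 2) (by norm_num) (show 4 ≤ i by omega)
    rw [← hP] at hi
    omega
  have hPQ : Q = P := Subgroup.eq_of_le_of_card_ge hQP (by
    rw [hi, hj]; exact Nat.pow_le_pow_right (by norm_num) (by omega))
  have hP8 : Nat.card P ≤ 8 := by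
    rw [hi]; exact (Nat.pow_le_pow_right (by norm_num) hi3).trans (by norm_num)
  -- the centre of the second centre
  have hPc : ∀ q ∈ P, Commute q x → Commute q y → q = 1 ∨ q = z := by
    intro q hq hqx hqy
    by_contra hne
    push Not at hne
    have hq2 := hsq q hq hne.1 hne.2
    have e : q * x * (q * x) = 1 := by rw [hqx.symm.mul_mul_mul_comm, hq2, hxx, h.ctx.z_sq]
    refine hxy ?_
    rw [show x = q⁻¹ * (q * x) by group]
    exact hqy.inv_left.mul_left (h.z_comm (hns _ (mul_mem hq hx) e) hyP.1)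
  -- the centraliser of `x` and `y`
  have hC : ∀ c ∈ R, Commute c x → Commute c y → c ∈ P := by
    intro c hc hcx hcy
    refine ⟨hc, fun r hr => ?_⟩
    have key : ∀ v ∈ P, Commute c v → Commute ⁅c, r⁆ v := fun v hv hcv => by
      have hζ := hv.2 r hr
      have e1 : v * r * v⁻¹ = ⁅v, r⁆ * r := by rw [commutatorElement_def]; group
      have e2 : v * c * v⁻¹ = c := by rw [← hcv.eq, mul_inv_cancel_right]
      have e3 : v * ⁅c, r⁆ * v⁻¹ = ⁅c, r⁆ := by
        calc v * ⁅c, r⁆ * v⁻¹ = ⁅v * c * v⁻¹, v * r * v⁻¹⁆ := by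
              simp only [commutatorElement_def]; group
          _ = ⁅c, ⁅v, r⁆ * r⁆ := by rw [e1, e2]
          _ = ⁅c, ⁅v, r⁆⁆ * (⁅v, r⁆ * ⁅c, r⁆ * ⁅v, r⁆⁻¹) := by
              simp only [commutatorElement_def]; group
          _ = ⁅c, r⁆ := by
              rw [commutatorElement_eq_one_iff_mul_comm.2 (h.z_comm hζ hc).symm.eq, one_mul,
                (show Commute ⁅v, r⁆ ⁅c, r⁆ from h.z_comm hζ
                  (mul_mem (mul_mem (mul_mem hc hr) (inv_mem hc)) (inv_mem hr))).eq,
                mul_inv_cancel_right]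
      exact (mul_inv_eq_iff_eq_mul.1 e3).symm
    exact hPc _ (h.commutator_mem_zTwo hc hr) (key x hx hcx) (key y hyP hcy)
  -- hence `R` is the second centre
  have hRP : R ≤ P := by
    intro r hr
    have hex : ∃ q ∈ P, ⁅q, x⁆ = ⁅r, x⁆ ∧ ⁅q, y⁆ = ⁅r, y⁆ := by
      have r1 : ⁅r, x⁆ = 1 ∨ ⁅r, x⁆ = z := by
        rw [← commutatorElement_inv x r]
        rcases hx.2 r hr with e | e <;> rw [e]
        · exact Or.inl inv_one
        · exact Or.inr h.ctx.z_inv
      have r2 : ⁅r, y⁆ = 1 ∨ ⁅r, y⁆ = z := by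
        rw [← commutatorElement_inv y r]
        rcases hyP.2 r hr with e | e <;> rw [e]
        · exact Or.inl inv_one
        · exact Or.inr h.ctx.z_inv
      rcases r1 with e1 | e1 <;> rcases r2 with e2 | e2
      · exact ⟨1, one_mem _, by rw [e1, commutatorElement_one_left],
          by rw [e2, commutatorElement_one_left]⟩
      · exact ⟨x, hx, by rw [e1, commutatorElement_self], by rw [e2, hxyz]⟩
      · exact ⟨y, hyP, by rw [e1, hyxz], by rw [e2, commutatorElement_self]⟩
      · exact ⟨x * y, mul_mem hx hyP,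
          by rw [e1, h.commutator_mul hx hyP hx.1, commutatorElement_self, one_mul, hyxz],
          by rw [e2, h.commutator_mul hx hyP hyP.1, commutatorElement_self, mul_one, hxyz]⟩
    obtain ⟨q, hq, eqx, eqy⟩ := hex
    have hcomm : ∀ v : G, ⁅q, v⁆ = ⁅r, v⁆ → Commute (q⁻¹ * r) v := fun v e => by
      have e1 : q * v * q⁻¹ = r * v * r⁻¹ := by
        have := congrArg (· * v) e
        simpa [commutatorElement_def] using this
      refine mul_inv_eq_iff_eq_mul.1 ?_
      calc q⁻¹ * r * v * (q⁻¹ * r)⁻¹ = q⁻¹ * (r * v * r⁻¹) * q := by group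
        _ = v := by rw [← e1]; group
    have := hC _ (mul_mem (inv_mem hq.1) hr) (hcomm x eqx) (hcomm y eqy)
    exact (Subgroup.mul_mem_cancel_left P (inv_mem hq)).1 this
  exact (Subgroup.card_le_of_le hRP).trans hP8

end TwoR

end CfsgLib.SelfCentralSix57
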