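import Cfsg.Agent.SelfCentralSix57.S3Cfg
import Cfsg.Agent.SelfCentralSix57.QuatCore

/-!
# Elements of `R` fixed by `u` modulo `⟨z⟩`
-/

set_option autoImplicit false
set_option linter.style.haveILetI false
set_option linter.unusedSectionVars false

namespace CfsgLib.SelfCentralSix57

open scoped commutatorElement

universe u

variable {G : Type u} [Group G] [Finite G]

namespace TwoR

variable {z s : G} {R : Subgroup G} (h : TwoR z s R)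
include h

theorem mul_z_commutator {p q ζ : G} (hp : p ∈ R) (hq : q ∈ R) (hζ : ζ = 1 ∨ ζ = z) :
    ⁅p * ζ, q⁆ = ⁅p, q⁆ ∧ ⁅p, q * ζ⁆ = ⁅p, q⁆ := by
  have hc : Commute ζ q := h.z_comm hζ hq
  have hc' : Commute ζ p := h.z_comm hζ hp
  constructor
  · rw [show ⁅p * ζ, q⁆ = p * ⁅ζ, q⁆ * p⁻¹ * ⁅p, q⁆ by simp only [commutatorElement_def]; group,
      commutatorElement_eq_one_iff_commute.2 hc]
    group
  · rw [show ⁅p, q * ζ⁆ = ⁅p, q⁆ * (q * ⁅p, ζ⁆ * q⁻¹) by simp only [commutatorElement_def]; group,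
      commutatorElement_eq_one_iff_commute.2 hc'.symm]
    group

/-- The number of elements is two modulo three. -/
theorem card_mod : Nat.card R % 3 = 2 := by
  classical
  haveI : Fact (Nat.Prime 3) := ⟨Nat.prime_three⟩
  haveI : Fintype R := Fintype.ofFinite _
  let π : Equiv.Perm R :=
    ⟨fun t => ⟨s * t * s⁻¹, h.act t t.2⟩,
      fun t => ⟨s * (s * t * s⁻¹) * s⁻¹, h.act _ (h.act t t.2)⟩,
      fun t => Subtype.ext (h.s_cubed t), fun t => Subtype.ext (h.s_cubed t)⟩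
  have hπ : π ^ 3 ^ 1 = 1 := by
    refine Equiv.ext fun t => Subtype.ext ?_
    simpa [pow_succ, π, mul_assoc] using h.s_cubed (t : G)
  have hfix : π.supportᶜ = {1, ⟨z, h.mem⟩} := by
    ext t
    simp only [Finset.mem_compl, Equiv.Perm.notMem_support, Finset.mem_insert, Finset.mem_singleton]
    refine ⟨fun ht => ?_, ?_⟩
    · rcases h.fixed t.2 ((mul_inv_eq_iff_eq_mul.1 (congrArg Subtype.val ht)).symm) with e | e
      · exact Or.inl (Subtype.ext e)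
      · exact Or.inr (Subtype.ext e)
    · rintro (rfl | rfl)
      · exact Subtype.ext (show s * (1 : G) * s⁻¹ = 1 by group)
      · exact Subtype.ext h.s_z
  have h1 := Equiv.Perm.card_compl_support_modEq hπ
  rw [hfix, Finset.card_insert_of_notMem (by
    simp only [Finset.mem_singleton]
    exact fun e => h.ctx.z_ne (congrArg Subtype.val e).symm), Finset.card_singleton] at h1
  rw [Nat.card_eq_fintype_card]
  exact h1.symm

end TwoR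

namespace S3Cfg

variable {z s u : G} {R W : Subgroup G} (h : S3Cfg z s u R W)
include h

theorem u_zcase {ζ : G} (hζ : ζ = 1 ∨ ζ = z) : u * ζ * u⁻¹ = ζ := by
  rcases hζ with rfl | rfl
  · group
  · rw [h.u_z.eq, mul_inv_cancel_right]

theorem s_zcase {ζ : G} (hζ : ζ = 1 ∨ ζ = z) : s * ζ * s⁻¹ = ζ := by
  rcases hζ with rfl | rfl
  · group
  · exact h.rs.s_z

theorem s_inv_R {p : G} (hp : p ∈ R) : s⁻¹ * p * s ∈ R := by
  simpa using h.normR s⁻¹ h.ctx.comm.symm.inv_left p hp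

theorem u_conj_s (p : G) : u * (s * p * s⁻¹) * u⁻¹ = s⁻¹ * (u * p * u⁻¹) * s := by
  calc u * (s * p * s⁻¹) * u⁻¹ = (u * s * u⁻¹) * (u * p * u⁻¹) * (u * s * u⁻¹)⁻¹ := by group
    _ = _ := by rw [h.u_inv, inv_inv]

theorem s_inv_eq (p : G) : s⁻¹ * p * s = s * (s * p * s⁻¹) * s⁻¹ := by
  conv_lhs => rw [← h.rs.s_cubed p]
  group

/-- Elements of `R` fixed by `u` modulo `⟨z⟩`. -/
def fixMod : Subgroup G where
  carrier := {p | p ∈ R ∧ ∃ ζ, (ζ = 1 ∨ ζ = z) ∧ u * p * u⁻¹ = p * ζ}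
  one_mem' := ⟨one_mem R, 1, Or.inl rfl, by group⟩
  mul_mem' := by
    rintro p q ⟨hp, ζ, hζ, e⟩ ⟨hq, η, hη, e'⟩
    refine ⟨mul_mem hp hq, ζ * η, h.rs.z_mul hζ hη, ?_⟩
    rw [show u * (p * q) * u⁻¹ = (u * p * u⁻¹) * (u * q * u⁻¹) by group, e, e',
      mul_assoc p ζ, ← mul_assoc ζ q η, (h.rs.z_comm hζ hq).eq]
    group
  inv_mem' := by
    rintro p ⟨hp, ζ, hζ, e⟩
    refine ⟨inv_mem hp, ζ, hζ, ?_⟩
    rw [show u * p⁻¹ * u⁻¹ = (u * p * u⁻¹)⁻¹ by group, e, mul_inv_rev,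
      inv_eq_of_mul_eq_one_right (h.rs.sq_z hζ), ((h.rs.z_comm hζ hp).inv_right).eq]

theorem mem_fixMod {p : G} :
    p ∈ h.fixMod ↔ p ∈ R ∧ ∃ ζ, (ζ = 1 ∨ ζ = z) ∧ u * p * u⁻¹ = p * ζ := Iff.rfl

theorem fixMod_le : h.fixMod ≤ R := fun _ hp => hp.1

theorem z_mem_fixMod : z ∈ h.fixMod :=
  ⟨h.zR, 1, Or.inl rfl, by rw [h.u_zcase (Or.inr rfl), mul_one]⟩

/-- Fixed at two consecutive places means trivial. -/
theorem eq_of_fixMod_shift {p : G} (hp : p ∈ h.fixMod) (hps : s * p * s⁻¹ ∈ h.fixMod) :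
    p = 1 ∨ p = z := by
  obtain ⟨hpR, ζ, hζ, e⟩ := hp
  obtain ⟨-, η, hη, e'⟩ := hps
  rw [h.u_conj_s, e] at e'
  have e1 : s⁻¹ * (p * ζ) * s = s⁻¹ * p * s * ζ := by
    have h1 : s * ζ * s⁻¹ = ζ := h.s_zcase hζ
    calc s⁻¹ * (p * ζ) * s = s⁻¹ * (p * (s * ζ * s⁻¹)) * s := by rw [h1]
      _ = _ := by group
  rw [e1, h.s_inv_eq] at e'
  set q := s * p * s⁻¹ with hq
  have e2 : s * q * s⁻¹ = q * (η * ζ) := by
    rw [← mul_assoc q η ζ, ← e', mul_assoc _ ζ ζ, h.rs.sq_z hζ, mul_one]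
  have hq1 : q = 1 ∨ q = z := h.rs.mem_of_fixed_coset (h.rs.act p hpR) (by
    rcases h.rs.z_mul hη hζ with e3 | e3
    · exact Or.inl (by rw [e2, e3, mul_one])
    · exact Or.inr (by rw [e2, e3]))
  have e4 : p = s⁻¹ * q * s := by rw [hq]; group
  rcases hq1 with e3 | e3 <;> rw [e4, e3]
  · exact Or.inl (by group)
  · refine Or.inr ?_
    have h1 := h.rs.s_z
    calc s⁻¹ * z * s = s⁻¹ * (s * z * s⁻¹) * s := by rw [h1]
      _ = z := by group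

/-- Two elements fixed modulo `⟨z⟩` commute. -/
theorem fixMod_commute {f g : G} (hf : f ∈ h.fixMod) (hg : g ∈ h.fixMod) (hg2 : g ∈ h.rs.zTwo) :
    Commute g f := by
  obtain ⟨hfR, ζ, hζ, ef⟩ := hf
  obtain ⟨hgR, η, hη, eg⟩ := hg
  set f₁ := s * f * s⁻¹ with hf₁
  set f₂ := s * f₁ * s⁻¹ with hf₂
  have hf₁R : f₁ ∈ R := h.rs.act f hfR
  have hf₂R : f₂ ∈ R := h.rs.act f₁ hf₁R
  have e2 : u * f₁ * u⁻¹ = f₂ * ζ := by
    rw [hf₁, h.u_conj_s, ef, h.s_inv_eq,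
      show s * (f * ζ) * s⁻¹ = (s * f * s⁻¹) * (s * ζ * s⁻¹) by group, h.s_zcase hζ, ← hf₁,
      show s * (f₁ * ζ) * s⁻¹ = (s * f₁ * s⁻¹) * (s * ζ * s⁻¹) by group, h.s_zcase hζ, ← hf₂]
  have e3 : ⁅g, f₂⁆ = ⁅g, f₁⁆ := by
    have h1 : u * ⁅g, f₁⁆ * u⁻¹ = ⁅g, f₁⁆ := h.u_zcase (hg2.2 f₁ hf₁R)
    rw [← h1, show u * ⁅g, f₁⁆ * u⁻¹ = ⁅u * g * u⁻¹, u * f₁ * u⁻¹⁆ by
      simp only [commutatorElement_def]; group, eg, e2,
      (h.rs.mul_z_commutator hgR (mul_mem hf₂R (by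
        rcases hζ with rfl | rfl
        · exact one_mem R
        · exact h.zR)) hη).1, (h.rs.mul_z_commutator hgR hf₂R hζ).2]
  have hn : f * f₁ * f₂ = 1 ∨ f * f₁ * f₂ = z := h.rs.norm hfR
  have e4 : ⁅g, f * f₁ * f₂⁆ = 1 :=
    commutatorElement_eq_one_iff_commute.2 (h.rs.z_comm hn hgR).symm
  rw [h.rs.mul_commutator hg2 (mul_mem hfR hf₁R) hf₂R, h.rs.mul_commutator hg2 hfR hf₁R, e3,
    mul_assoc, h.rs.sq_z (hg2.2 f₁ hf₁R), mul_one] at e4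
  exact commutatorElement_eq_one_iff_commute.1 e4

/-- `u` centralises an involution fixed modulo `⟨z⟩`. -/
theorem fixMod_centralised {p : G} (hp : p ∈ h.fixMod) (hp2 : p * p = 1)
    (hpz : p ∈ h.rs.zTwo) : u * p * u⁻¹ = p := by
  obtain ⟨hpR, ζ, hζ, e⟩ := hp
  set p₁ := s * p * s⁻¹ with hp₁
  set p₂ := s * p₁ * s⁻¹ with hp₂
  have hp₁R : p₁ ∈ R := h.rs.act p hpR
  have hp₂R : p₂ ∈ R := h.rs.act p₁ hp₁R
  have hp₁2 : p₁ * p₁ = 1 := by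
    rw [hp₁, show s * p * s⁻¹ * (s * p * s⁻¹) = s * (p * p) * s⁻¹ by group, hp2]; group
  have hp₂2 : p₂ * p₂ = 1 := by
    rw [hp₂, show s * p₁ * s⁻¹ * (s * p₁ * s⁻¹) = s * (p₁ * p₁) * s⁻¹ by group, hp₁2]; group
  have hn : p * p₁ * p₂ = 1 ∨ p * p₁ * p₂ = z := h.rs.norm hpR
  set ν := p * p₁ * p₂ with hν
  have hν2 := h.rs.sq_z hn
  -- the three commute
  have c12 : Commute p p₁ := by
    have h1 : p * p₁ = ν * p₂ := by rw [hν, mul_assoc (p * p₁), hp₂2, mul_one]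
    have h2 : p * p₁ * (p * p₁) = 1 := by
      rw [h1, ((h.rs.z_comm hn hp₂R).symm).mul_mul_mul_comm, hν2, hp₂2, one_mul]
    have h3 := inv_eq_of_mul_eq_one_right h2
    rw [mul_inv_rev, inv_eq_of_mul_eq_one_right hp2, inv_eq_of_mul_eq_one_right hp₁2] at h3
    exact h3.symm
  have c23 : Commute p₁ p₂ := c12.map (MulAut.conj s).toMonoidHom
  have e1 : u * p₁ * u⁻¹ = p₂ * ζ := by
    rw [hp₁, h.u_conj_s, e, h.s_inv_eq,
      show s * (p * ζ) * s⁻¹ = (s * p * s⁻¹) * (s * ζ * s⁻¹) by group, h.s_zcase hζ, ← hp₁,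
      show s * (p₁ * ζ) * s⁻¹ = (s * p₁ * s⁻¹) * (s * ζ * s⁻¹) by group, h.s_zcase hζ, ← hp₂]
  have e2 : u * p₂ * u⁻¹ = p₁ * ζ := by
    have h0 : u * p₂ * u⁻¹ = s⁻¹ * (p₂ * ζ) * s := by rw [← e1, hp₂, h.u_conj_s]
    rw [h0, h.s_inv_eq, show s * (s * (p₂ * ζ) * s⁻¹) * s⁻¹ =
      (s * (s * p₂ * s⁻¹) * s⁻¹) * (s * (s * ζ * s⁻¹) * s⁻¹) by group, h.s_zcase hζ, h.s_zcase hζ,
      hp₂, hp₁, h.rs.s_cubed]
  have key : p * p₁ * p₂ * ζ = p * p₁ * p₂ := by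
    have h1 : u * ν * u⁻¹ = ν := h.u_zcase hn
    have h2 : u * ν * u⁻¹ = (p * ζ) * (p₂ * ζ) * (p₁ * ζ) := by
      rw [← e, ← e1, ← e2, hν]; group
    rw [h2, (h.rs.z_comm hζ hp₂R).mul_mul_mul_comm, h.rs.sq_z hζ, mul_one, ← mul_assoc,
      mul_assoc p p₂ p₁, c23.symm.eq, ← mul_assoc] at h1
    exact h1
  rw [e, mul_eq_left.1 key, mul_one]

/-- A singular element of the second centre fixed by `u` modulo `⟨z⟩`. -/
theorem exists_singular_fixed (h8 : 8 < Nat.card R)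
    (hZ : ∀ w ∈ R, (∀ r ∈ R, Commute w r) → w = 1 ∨ w = z) :
    ∃ a ∈ h.fixMod, a ∈ h.rs.zTwo ∧ a * a = 1 ∧ a ≠ 1 ∧ a ≠ z := by
  classical
  by_contra hcon
  push Not at hcon
  have hnsF : ∀ p ∈ h.fixMod, p ∈ h.rs.zTwo → p * p = 1 → p = 1 ∨ p = z := fun p hp hp' hp2 =>
    (em (p = 1)).imp_right (hcon p hp hp' hp2)
  have hsq : ∀ p ∈ h.fixMod, p ∈ h.rs.zTwo → ¬ (p = 1 ∨ p = z) → p * p = z := fun p hp hp' hne =>
    (h.rs.zTwo_sq hZ hp').resolve_left fun e => hne (hnsF p hp hp' e)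
  have hpair : ∀ p ∈ h.fixMod, p ∈ h.rs.zTwo → ¬ (p = 1 ∨ p = z) → ∀ q ∈ h.fixMod, q ∈ h.rs.zTwo →
      ¬ (q = 1 ∨ q = z) → p * q = 1 ∨ p * q = z := by
    intro p hp hp' hp0 q hq hq' hq0
    refine hnsF _ (mul_mem hp hq) (mul_mem hp' hq') ?_
    rw [(h.fixMod_commute hp hq hq').mul_mul_mul_comm, hsq p hp hp' hp0, hsq q hq hq' hq0,
      h.ctx.z_sq]
  -- the trace of an element
  have hu2 : ∀ p ∈ R, u * (u * p * u⁻¹) * u⁻¹ = p := by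
    intro p hp
    rw [show u * (u * p * u⁻¹) * u⁻¹ = (u * u) * p * (u * u)⁻¹ by group,
      ((h.rs.z_comm h.u_sq hp)).eq, mul_inv_cancel_right]
  have hPu : ∀ p ∈ h.rs.zTwo, u * p * u⁻¹ ∈ h.rs.zTwo := by
    intro p hp
    refine ⟨h.uR p hp.1, fun r hr => ?_⟩
    have h1 := hp.2 _ (h.uR r hr)
    have e : ⁅u * p * u⁻¹, r⁆ = u * ⁅p, u * r * u⁻¹⁆ * u⁻¹ := by
      conv_lhs => rw [← hu2 r hr]
      simp only [commutatorElement_def]; group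
    rw [e, h.u_zcase h1]
    exact h1
  have htr : ∀ p ∈ h.rs.zTwo, p * (u * p * u⁻¹) ∈ h.fixMod := by
    intro p hp
    refine ⟨mul_mem hp.1 (h.uR p hp.1), ⁅p, u * p * u⁻¹⁆⁻¹, ?_, ?_⟩
    · rcases hp.2 _ (h.uR p hp.1) with e | e <;> rw [e]
      · exact Or.inl inv_one
      · exact Or.inr h.ctx.z_inv
    · rw [show u * (p * (u * p * u⁻¹)) * u⁻¹ = (u * p * u⁻¹) * (u * (u * p * u⁻¹) * u⁻¹) by group,
        hu2 p hp.1]
      have hc := h.rs.z_comm (g := ⁅p, u * p * u⁻¹⁆) (hp.2 _ (h.uR p hp.1))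
        (mul_mem hp.1 (h.uR p hp.1))
      rw [← hc.inv_left.eq]
      simp only [commutatorElement_def]; group
  have hmem_tr : ∀ p ∈ h.rs.zTwo,
      (p * (u * p * u⁻¹) = 1 ∨ p * (u * p * u⁻¹) = z) → p ∈ h.fixMod := by
    intro p hp hm
    refine ⟨hp.1, ?_⟩
    rcases h.rs.zTwo_sq hZ hp with e | e
    · exact ⟨p * (u * p * u⁻¹), hm, by rw [← mul_assoc, e, one_mul]⟩
    · refine ⟨z * (p * (u * p * u⁻¹)), h.rs.z_mul (Or.inr rfl) hm, ?_⟩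
      rw [← mul_assoc, (h.rs.central p hp.1).eq, mul_assoc z p, ← mul_assoc p p, e,
        ← mul_assoc z z, h.ctx.z_sq, one_mul]
  -- a nonsingular fixed element
  obtain ⟨f, hf, hf', hf0⟩ : ∃ f ∈ h.fixMod, f ∈ h.rs.zTwo ∧ ¬ (f = 1 ∨ f = z) := by
    by_contra hno
    push Not at hno
    obtain ⟨p, hp, hp1, hpz⟩ := h.rs.zTwo_ne (by omega)
    exact (hno p (hmem_tr p hp (hno _ (htr p hp) (mul_mem hp (hPu p hp)))) hp).elim hp1 hpz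
  have hfz := hsq f hf hf' hf0
  set f₁ := s * f * s⁻¹ with hf₁
  have hf₁P : f₁ ∈ h.rs.zTwo := h.rs.act_zTwo hf'
  have hf₁F : f₁ ∉ h.fixMod := fun e => hf0 (h.eq_of_fixMod_shift hf e)
  have hf₁sq : f₁ * f₁ = z := by
    rw [hf₁, show s * f * s⁻¹ * (s * f * s⁻¹) = s * (f * f) * s⁻¹ by group, hfz, h.rs.s_z]
  have hcases : ∀ q ∈ h.fixMod, q ∈ h.rs.zTwo → ∃ ζ, (ζ = 1 ∨ ζ = z) ∧ (q = ζ ∨ q = f * ζ) := by
    intro q hq hq'
    by_cases hq0 : q = 1 ∨ q = z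
    · exact ⟨q, hq0, Or.inl rfl⟩
    · rcases hpair f hf hf' hf0 q hq hq' hq0 with e | e
      · exact ⟨z, Or.inr rfl, Or.inr (by
          rw [eq_inv_of_mul_eq_one_right e]
          refine inv_eq_of_mul_eq_one_right ?_
          rw [← mul_assoc, hfz, h.ctx.z_sq])⟩
      · exact ⟨1, Or.inl rfl, Or.inr (by
          rw [mul_one, eq_inv_mul_iff_mul_eq.2 e, ← hfz, ← mul_assoc, inv_mul_cancel, one_mul])⟩
  refine absurd (h.rs.card_le_eight_of_no_singular hZ fun p hp hp2 => ?_) (by omega)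
  by_cases hpF : p ∈ h.fixMod
  · exact hnsF p hpF hp hp2
  exfalso
  have hout : ∀ q ∈ h.rs.zTwo, q ∉ h.fixMod →
      ∃ ζ, (ζ = 1 ∨ ζ = z) ∧ u * q * u⁻¹ = q⁻¹ * f * ζ := by
    intro q hq hqF
    obtain ⟨ζ, hζ, e⟩ := hcases _ (htr q hq) (mul_mem hq (hPu q hq))
    rcases e with e | e
    · exact absurd (hmem_tr q hq (e ▸ hζ)) hqF
    · exact ⟨ζ, hζ, by rw [mul_assoc q⁻¹ f ζ, ← e, inv_mul_cancel_left]⟩
  obtain ⟨ζ, hζ, ep⟩ := hout p hp hpF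
  obtain ⟨η, hη, ef⟩ := hout f₁ hf₁P hf₁F
  set X := u * f₁ * u⁻¹ with hX
  set Y := u * p * u⁻¹ with hY
  have hd : f₁ * p ∈ h.fixMod := by
    refine hmem_tr _ (mul_mem hf₁P hp) ?_
    have hk : ⁅p, X⁆ = 1 ∨ ⁅p, X⁆ = z := hp.2 _ (h.uR f₁ hf₁P.1)
    have e1 : f₁ * p * (u * (f₁ * p) * u⁻¹) = f₁ * ⁅p, X⁆ * (X * (p * Y)) := by
      simp only [hX, hY, commutatorElement_def]; group
    have hfη : f₁ * X = f * η := by rw [ef, mul_assoc f₁⁻¹, mul_inv_cancel_left]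
    have hfζ : p * Y = f * ζ := by rw [ep, mul_assoc p⁻¹, mul_inv_cancel_left]
    rw [e1, ((h.rs.z_comm hk hf₁P.1).symm).eq, mul_assoc, ← mul_assoc f₁ X, hfη, hfζ,
      ((h.rs.z_comm hη (hf'.1)).mul_mul_mul_comm), hfz]
    exact h.rs.z_mul hk (h.rs.z_mul (Or.inr rfl) (h.rs.z_mul hη hζ))
  obtain ⟨ν, hν, e⟩ := hcases _ hd (mul_mem hf₁P hp)
  have hνp : Commute ν p := h.rs.z_comm hν hp.1
  rcases e with e | e
  · have e1 : p = f₁⁻¹ * ν := by rw [← e, inv_mul_cancel_left]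
    rw [e1, ((h.rs.z_comm hν (inv_mem hf₁P.1))).mul_mul_mul_comm, h.rs.sq_z hν, mul_one,
      ← mul_inv_rev, hf₁sq, h.ctx.z_inv] at hp2
    exact h.ctx.z_ne hp2
  · set f₂ := s * f₁ * s⁻¹ with hf₂
    have hf₂R : f₂ ∈ R := h.rs.act f₁ hf₁P.1
    have hn : f * f₁ * f₂ = 1 ∨ f * f₁ * f₂ = z := h.rs.norm hf'.1
    set θ := f * f₁ * f₂
    have hfi : f⁻¹ = z * f := inv_eq_of_mul_eq_one_right (by
      rw [← mul_assoc, (h.rs.central f hf'.1).eq, mul_assoc, hfz, h.ctx.z_sq])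
    have e1 : p = f₂ * (θ * (z * ν)) := by
      have e2 : f₂ = f₁⁻¹ * f⁻¹ * θ := by simp only [θ]; group
      have e3 : p = f₁⁻¹ * f * ν := by
        rw [mul_assoc, ← e, inv_mul_cancel_left]
      rw [e3, e2, hfi, mul_assoc f₁⁻¹ (z * f) θ, mul_assoc z f θ, mul_assoc f₁⁻¹ (z * (f * θ)),
        mul_assoc z (f * θ), mul_assoc f θ (θ * (z * ν)), ← mul_assoc θ θ, h.rs.sq_z hn, one_mul,
        ← mul_assoc f z ν, (h.rs.central f hf'.1).eq, mul_assoc z f ν, ← mul_assoc z z,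
        h.ctx.z_sq, one_mul, mul_assoc]
    have hf₂2 : f₂ * f₂ = z := by
      rw [hf₂, show s * f₁ * s⁻¹ * (s * f₁ * s⁻¹) = s * (f₁ * f₁) * s⁻¹ by group, hf₁sq, h.rs.s_z]
    have hk := h.rs.z_mul hn (h.rs.z_mul (Or.inr rfl) hν)
    rw [e1, ((h.rs.z_comm hk hf₂R)).mul_mul_mul_comm, hf₂2, h.rs.sq_z hk, mul_one] at hp2
    exact h.ctx.z_ne hp2

end S3Cfg

end CfsgLib.SelfCentralSix57
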