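import Cfsg.Agent.SelfCentralThree.ClassTwo

/-!
# An element of order three acting fixed-point-freely on a section

`s` has order dividing three, normalises `N ≤ Y`, and the fixed points of `s` on `Y` lie in `N`.
The section `Y / N` then has class at most two and satisfies the norm relation.
-/

set_option autoImplicit false
set_option linter.style.haveILetI false
set_option linter.unusedSectionVars false

namespace CfsgLib.SelfCentralSix57

open scoped commutatorElement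

variable {G : Type*} [Group G] [Finite G]

/-- A coset of a subgroup of order prime to three fixed by an element of order three contains a
fixed element. -/
theorem exists_fixed {s x : G} {N : Subgroup G} (h3 : s ^ 3 = 1) (hN3 : ¬ 3 ∣ Nat.card N)
    (hsN : ∀ n ∈ N, s * n * s⁻¹ ∈ N) (hx : x⁻¹ * (s * x * s⁻¹) ∈ N) :
    ∃ n ∈ N, Commute (x * n) s := by
  classical
  haveI : Fact (Nat.Prime 3) := ⟨Nat.prime_three⟩
  let f : N → N := fun n => ⟨x⁻¹ * (s * x * s⁻¹) * (s * n * s⁻¹), mul_mem hx (hsN n n.2)⟩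
  have hf : ∀ n : N, x * (f n : G) = s * (x * n) * s⁻¹ := fun n => by
    show x * (x⁻¹ * (s * x * s⁻¹) * (s * n * s⁻¹)) = _
    group
  have hf3 : ∀ n : N, f (f (f n)) = n := fun n => by
    refine Subtype.ext (mul_left_cancel (a := x) ?_)
    rw [hf, hf, hf]
    calc s * (s * (s * (x * (n : G)) * s⁻¹) * s⁻¹) * s⁻¹ = s ^ 3 * (x * n) * (s ^ 3)⁻¹ := by
          simp only [pow_succ, pow_zero, one_mul]; group
      _ = x * n := by rw [h3, one_mul, inv_one, mul_one]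
  let π : Equiv.Perm N := ⟨f, fun n => f (f n), hf3, hf3⟩
  haveI : Fintype N := Fintype.ofFinite _
  have hπ : π ^ 3 ^ 1 = 1 := by
    refine Equiv.ext fun n => ?_
    simpa [pow_succ, π] using hf3 n
  have h := Equiv.Perm.card_compl_support_modEq hπ
  have hne : π.supportᶜ.Nonempty := by
    rw [Finset.nonempty_iff_ne_empty]
    intro h0
    rw [h0, Finset.card_empty] at h
    exact hN3 (by rw [Nat.card_eq_fintype_card]; exact Nat.dvd_of_mod_eq_zero h.symm)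
  obtain ⟨n, hn⟩ := hne
  rw [Finset.mem_compl, Equiv.Perm.notMem_support] at hn
  refine ⟨n, n.2, ?_⟩
  have := hf n
  rw [show f n = n from hn] at this
  exact (eq_mul_inv_iff_mul_eq.1 this)

/-- The hypothesis: `s` acts on `Y / N` without fixed points. -/
structure FpfSection (s : G) (Y N : Subgroup G) : Prop where
  le : N ≤ Y
  normal : ∀ y ∈ Y, ∀ n ∈ N, y * n * y⁻¹ ∈ N
  cube : s ^ 3 = 1
  three : ¬ 3 ∣ Nat.card N
  actY : ∀ y ∈ Y, s * y * s⁻¹ ∈ Y
  actN : ∀ n ∈ N, s * n * s⁻¹ ∈ N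
  fixed : ∀ y ∈ Y, Commute y s → y ∈ N

namespace FpfSection

variable {s : G} {Y N : Subgroup G} (h : FpfSection s Y N)
include h

/-- The fixed cosets are trivial. -/
theorem mem_of_fixed_mod {y : G} (hy : y ∈ Y) (hfix : y⁻¹ * (s * y * s⁻¹) ∈ N) : y ∈ N := by
  obtain ⟨n, hn, hc⟩ := exists_fixed h.cube h.three h.actN hfix
  exact (Subgroup.mul_mem_cancel_right N hn).1 (h.fixed _ (mul_mem hy (h.le hn)) hc)

theorem quot_facts :
    (∀ a ∈ Y, a * (s * a * s⁻¹) * (s * (s * a * s⁻¹) * s⁻¹) ∈ N ∧ ⁅a, s * a * s⁻¹⁆ ∈ N) ∧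
    (∀ a ∈ Y, ∀ b ∈ Y, ⁅a, b * a * b⁻¹⁆ ∈ N) ∧
    (∀ a ∈ Y, ∀ b ∈ Y, ∀ c ∈ Y, ⁅⁅a, b⁆, c⁆ ∈ N) := by
  haveI hn : (N.subgroupOf Y).Normal := ⟨fun n hn y => by
    rw [Subgroup.mem_subgroupOf] at hn ⊢
    exact h.normal y y.2 n hn⟩
  have h3 : ∀ y : G, s * (s * (s * y * s⁻¹) * s⁻¹) * s⁻¹ = y := fun y => by
    calc s * (s * (s * y * s⁻¹) * s⁻¹) * s⁻¹ = s ^ 3 * y * (s ^ 3)⁻¹ := by
          simp only [pow_succ, pow_zero, one_mul]; group
      _ = y := by rw [h.cube, one_mul, inv_one, mul_one]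
  let e : MulAut Y :=
    { toFun := fun y => ⟨s * y * s⁻¹, h.actY y y.2⟩
      invFun := fun y => ⟨s * (s * y * s⁻¹) * s⁻¹, h.actY _ (h.actY y y.2)⟩
      left_inv := fun y => Subtype.ext (h3 y)
      right_inv := fun y => Subtype.ext (h3 y)
      map_mul' := fun a b => Subtype.ext (by
        show s * ((a : G) * b) * s⁻¹ = s * a * s⁻¹ * (s * b * s⁻¹)
        group) }
  have hmap : (N.subgroupOf Y).map e.toMonoidHom = N.subgroupOf Y := by
    ext y
    constructor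
    · rintro ⟨n, hn, rfl⟩
      exact h.actN n hn
    · intro hy
      exact ⟨e (e y), h.actN _ (h.actN _ hy), Subtype.ext (h3 y)⟩
  let σ : MulAut (Y ⧸ N.subgroupOf Y) := QuotientGroup.congr _ _ e hmap
  have hσ : ∀ y : Y, σ (QuotientGroup.mk y) = QuotientGroup.mk (e y) := fun _ => rfl
  have hcube : ∀ q, σ (σ (σ q)) = q := fun q => by
    induction q using QuotientGroup.induction_on with
    | _ y => rw [hσ, hσ, hσ]; exact congrArg _ (Subtype.ext (h3 y))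
  have hfp : ∀ q, σ q = q → q = 1 := fun q hq => by
    induction q using QuotientGroup.induction_on with
    | _ y =>
      rw [hσ, eq_comm, QuotientGroup.eq, Subgroup.mem_subgroupOf] at hq
      exact (QuotientGroup.eq_one_iff _).2 (h.mem_of_fixed_mod y.2 hq)
  have mem : ∀ (y : Y), (QuotientGroup.mk y : Y ⧸ N.subgroupOf Y) = 1 → (y : G) ∈ N :=
    fun y hy => Subgroup.mem_subgroupOf.1
      ((QuotientGroup.eq_one_iff (N := N.subgroupOf Y) y).1 hy)
  refine ⟨fun a ha => ?_, fun a ha b hb => ?_, fun a ha b hb c hc => ?_⟩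
  · obtain ⟨h1, h2⟩ := CfsgLib.FpfThree.norm_eq_one σ hcube hfp (QuotientGroup.mk ⟨a, ha⟩)
    refine ⟨mem ((⟨a, ha⟩ : Y) * e ⟨a, ha⟩ * e (e ⟨a, ha⟩)) h1,
      mem ⁅(⟨a, ha⟩ : Y), e ⟨a, ha⟩⁆ ?_⟩
    exact (commutatorElement_eq_one_iff_mul_comm.2 h2.eq :
      ⁅(QuotientGroup.mk ⟨a, ha⟩ : Y ⧸ N.subgroupOf Y), σ (QuotientGroup.mk ⟨a, ha⟩)⁆ = 1)
  · refine mem ⁅(⟨a, ha⟩ : Y), (⟨b, hb⟩ : Y) * ⟨a, ha⟩ * (⟨b, hb⟩ : Y)⁻¹⁆ ?_
    exact commutatorElement_eq_one_iff_mul_comm.2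
      (CfsgLib.SelfCentralThree.engel_of_fpf σ hcube hfp (QuotientGroup.mk ⟨a, ha⟩)
        (QuotientGroup.mk ⟨b, hb⟩)).eq
  · refine mem ⁅⁅(⟨a, ha⟩ : Y), (⟨b, hb⟩ : Y)⁆, (⟨c, hc⟩ : Y)⁆ ?_
    have h1 := CfsgLib.SelfCentralThree.commutator_le_center σ hcube hfp
      (Subgroup.commutator_mem_commutator (Subgroup.mem_top (QuotientGroup.mk ⟨a, ha⟩))
        (Subgroup.mem_top (QuotientGroup.mk ⟨b, hb⟩)))
    show (QuotientGroup.mk' (N.subgroupOf Y)) _ = 1
    rw [map_commutatorElement, map_commutatorElement]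
    exact commutatorElement_eq_one_iff_mul_comm.2 (Subgroup.mem_center_iff.1 h1 _).symm

theorem norm_mem {a : G} (ha : a ∈ Y) :
    a * (s * a * s⁻¹) * (s * (s * a * s⁻¹) * s⁻¹) ∈ N := (h.quot_facts.1 a ha).1

theorem commutator_self_mem {a : G} (ha : a ∈ Y) : ⁅a, s * a * s⁻¹⁆ ∈ N :=
  (h.quot_facts.1 a ha).2

theorem class_two {a b c : G} (ha : a ∈ Y) (hb : b ∈ Y) (hc : c ∈ Y) : ⁅⁅a, b⁆, c⁆ ∈ N :=
  h.quot_facts.2.2 a ha b hb c hc

/-- Elements of coprime order commute modulo `N`. -/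
theorem commutator_coprime_mem {a b : G} (ha : a ∈ Y) (hb : b ∈ Y)
    (hab : (orderOf a).Coprime (orderOf b)) : ⁅a, b⁆ ∈ N := by
  haveI hn : (N.subgroupOf Y).Normal := ⟨fun n hn y => by
    rw [Subgroup.mem_subgroupOf] at hn ⊢
    exact h.normal y y.2 n hn⟩
  set π := QuotientGroup.mk' (N.subgroupOf Y)
  set A := π ⟨a, ha⟩ with hA
  set B := π ⟨b, hb⟩ with hB
  have hAB : (orderOf A).Coprime (orderOf B) := by
    refine Nat.Coprime.coprime_dvd_left ?_ (Nat.Coprime.coprime_dvd_right ?_ hab)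
    · exact (orderOf_map_dvd π ⟨a, ha⟩).trans (dvd_of_eq (Subgroup.orderOf_mk a ha))
    · exact (orderOf_map_dvd π ⟨b, hb⟩).trans (dvd_of_eq (Subgroup.orderOf_mk b hb))
  have key : ∀ x y : G, x ∈ Y → (hy : y ∈ Y) → (hx : x ∈ Y) →
      Commute (π ⟨x, hx⟩) (π ⟨y, hy⟩ * π ⟨x, hx⟩ * (π ⟨y, hy⟩)⁻¹) := by
    intro x y _ hy hx
    rw [← commutatorElement_eq_one_iff_commute, ← map_mul, ← map_inv, ← map_mul,
      ← map_commutatorElement]
    exact (QuotientGroup.eq_one_iff (N := N.subgroupOf Y) _).2 (h.quot_facts.2.1 x hx y hy)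
  have hAc : Commute A (B * A⁻¹ * B⁻¹) := by
    have := (key a b ha hb ha).inv_right
    simpa [hA, hB, mul_assoc] using this
  have hBc : Commute B (A * B * A⁻¹) := by
    simpa [hA, hB] using key b a hb ha hb
  have h1 : orderOf ⁅A, B⁆ ∣ orderOf A := by
    refine orderOf_dvd_of_pow_eq_one ?_
    rw [commutatorElement_def, show A * B * A⁻¹ * B⁻¹ = A * (B * A⁻¹ * B⁻¹) by group, hAc.mul_pow,
      pow_orderOf_eq_one, one_mul, conj_pow, inv_pow, pow_orderOf_eq_one]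
    simp
  have h2 : orderOf ⁅A, B⁆ ∣ orderOf B := by
    refine orderOf_dvd_of_pow_eq_one ?_
    rw [commutatorElement_def, hBc.symm.inv_right.mul_pow, conj_pow, inv_pow, pow_orderOf_eq_one]
    simp
  have h12 := Nat.dvd_gcd h1 h2
  rw [Nat.coprime_iff_gcd_eq_one.1 hAB, Nat.dvd_one, orderOf_eq_one_iff, hA, hB,
    ← map_commutatorElement] at h12
  exact Subgroup.mem_subgroupOf.1
    ((QuotientGroup.eq_one_iff (N := N.subgroupOf Y) ⁅(⟨a, ha⟩ : Y), ⟨b, hb⟩⁆).1 h12)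

end FpfSection

end CfsgLib.SelfCentralSix57
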