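import Cfsg.Agent.SelfCentralSix57.CoreBound
import Cfsg.Agent.SelfCentralSix57.ConjModule

/-!
# Nothing outside `C(z)` normalises `R`
-/

set_option autoImplicit false
set_option linter.style.haveILetI false
set_option linter.unusedSectionVars false

namespace CfsgLib.SelfCentralSix57

universe u

variable {G : Type u} [Group G] [Finite G]

/-- In the nilpotent image of `M` some nontrivial central element is fixed by `u`. -/
theorem exists_central_fixed {Q : Type u} [Group Q] [Finite Q] {s u : Q} {W : Subgroup Q}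
    [W.Normal] (hs : SelfCentralizing.Hyp Q 3 s) (hu : u * s * u⁻¹ = s⁻¹) (hu2 : u * u = 1)
    (hW3 : ¬ 3 ∣ Nat.card W) (hW : W ≠ ⊥) :
    ∃ y ∈ W, y ≠ 1 ∧ (∀ w ∈ W, Commute y w) ∧ u * y * u⁻¹ = y ∧
      y * (s * y * s⁻¹) * (s * (s * y * s⁻¹) * s⁻¹) = 1 := by
  haveI : Group.IsNilpotent W := (SelfCentralThree.nilpotent_and_class_two hs
    (by rw [Subgroup.normalizer_eq_top]; trivial) hW3).1
  haveI : Nontrivial W := (Subgroup.nontrivial_iff_ne_bot W).2 hW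
  haveI : Nontrivial (Subgroup.center W) :=
    (Subgroup.nontrivial_iff_ne_bot _).2 (Group.IsNilpotent.center_ne_bot _)
  obtain ⟨⟨x, hxc⟩, hx1⟩ := exists_ne (1 : Subgroup.center W)
  have hxc' : ∀ w ∈ W, Commute (x : Q) w := fun w hw =>
    (congrArg Subtype.val (Subgroup.mem_center_iff.1 hxc ⟨w, hw⟩)).symm
  have hxne : (x : Q) ≠ 1 := fun e => hx1 (Subtype.ext (Subtype.ext e))
  have hconj : ∀ g : Q, ∀ w : Q, (∀ v ∈ W, Commute w v) → ∀ v ∈ W, Commute (g * w * g⁻¹) v := by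
    intro g w hw v hv
    have h1 := (hw _ (‹W.Normal›.conj_mem v hv g⁻¹)).map (MulAut.conj g).toMonoidHom
    simpa [mul_assoc] using h1
  have huW : ∀ g : Q, g * x * g⁻¹ ∈ W := fun g => ‹W.Normal›.conj_mem _ x.2 g
  have fixS : ∀ y ∈ W, s * y * s⁻¹ = y → y = 1 := by
    intro y hy e
    have h2 := Subgroup.orderOf_dvd_natCard _
      (hs.mem_zpowers_of_commute (mul_inv_eq_iff_eq_mul.1 e).symm)
    rw [hs.card_zpowers] at h2
    rcases (Nat.dvd_prime Nat.prime_three).1 h2 with e' | e'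
    · exact orderOf_eq_one_iff.1 e'
    · exact absurd (e' ▸ Subgroup.orderOf_dvd_natCard W hy) hW3
  -- some element is not inverted
  obtain ⟨p, hpW, hpc, hp⟩ : ∃ p ∈ W, (∀ v ∈ W, Commute p v) ∧ u * p * u⁻¹ * p ≠ 1 := by
    by_contra hcon
    push Not at hcon
    have h1 := hcon x x.2 hxc'
    have h2 := hcon (s * x * s⁻¹) (huW s) (hconj s _ hxc')
    have e1 : u * x * u⁻¹ = (x : Q)⁻¹ := eq_inv_of_mul_eq_one_left h1
    have e2 : u * (s * x * s⁻¹) * u⁻¹ = (s * x * s⁻¹)⁻¹ := eq_inv_of_mul_eq_one_left h2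
    rw [show u * (s * (x : Q) * s⁻¹) * u⁻¹ = (u * s * u⁻¹) * (u * x * u⁻¹) * (u * s * u⁻¹)⁻¹ by
      group, hu, e1] at e2
    have e3 : s * (s * x * s⁻¹) * s⁻¹ = x := by
      have e4 := congrArg (fun v => s * v⁻¹ * s⁻¹) e2
      simpa [mul_assoc] using e4.symm
    have e5 : s * x * s⁻¹ = x := by
      have hs3 : s ^ 3 = 1 := by rw [← hs.order, pow_orderOf_eq_one]
      calc s * x * s⁻¹ = s * (s * (s * x * s⁻¹) * s⁻¹) * s⁻¹ := by rw [e3]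
        _ = s ^ 3 * x * (s ^ 3)⁻¹ := by simp only [pow_succ, pow_zero, one_mul]; group
        _ = x := by rw [hs3, one_mul, inv_one, mul_one]
    exact hxne (fixS _ x.2 e5)
  have hupW : u * p * u⁻¹ ∈ W := ‹W.Normal›.conj_mem p hpW u
  set y := u * p * u⁻¹ * p with hy
  have hyW : y ∈ W := mul_mem hupW hpW
  have hyc : ∀ v ∈ W, Commute y v := fun v hv => (hconj u p hpc v hv).mul_left (hpc v hv)
  refine ⟨y, hyW, hp, hyc, ?_, ?_⟩
  · have hu' : u⁻¹ = u := inv_eq_of_mul_eq_one_right hu2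
    rw [hy, (hpc _ hupW).symm.eq]
    calc u * (p * (u * p * u⁻¹)) * u⁻¹ = u * p * u⁻¹ * ((u * u) * p * (u * u)⁻¹) := by group
      _ = u * p * u⁻¹ * p := by rw [hu2, one_mul, inv_one, mul_one]
      _ = p * (u * p * u⁻¹) := ((hpc _ hupW).eq).symm
  · have hsy : s * y * s⁻¹ ∈ W := ‹W.Normal›.conj_mem y hyW s
    have hssy : s * (s * y * s⁻¹) * s⁻¹ ∈ W := ‹W.Normal›.conj_mem _ hsy s
    refine fixS _ (mul_mem (mul_mem hyW hsy) hssy) ?_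
    have hs3 : s ^ 3 = 1 := by rw [← hs.order, pow_orderOf_eq_one]
    calc s * (y * (s * y * s⁻¹) * (s * (s * y * s⁻¹) * s⁻¹)) * s⁻¹
        = (s * y * s⁻¹) * (s * (s * y * s⁻¹) * s⁻¹) * (s ^ 3 * y * (s ^ 3)⁻¹) := by
          simp only [pow_succ, pow_zero, one_mul]; group
      _ = (s * y * s⁻¹) * (s * (s * y * s⁻¹) * s⁻¹) * y := by
          rw [hs3, one_mul, inv_one, mul_one]
      _ = _ := by
          rw [← (hyc _ (mul_mem hsy hssy)).eq]; group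

namespace S3Cfg

variable {z s u : G} {R W : Subgroup G} (h : S3Cfg z s u R W)
include h

/-- No element outside `C(z)` normalises `R`. -/
theorem not_normal_of_moved {g : G} (hg : ∀ r ∈ R, g * r * g⁻¹ ∈ R) (hgz : ¬ Commute g z) :
    False := by
  classical
  set K := Subgroup.normalizer (R : Set G) with hK
  have hnorm : ∀ k ∈ K, ∀ r ∈ R, k * r * k⁻¹ ∈ R := fun k hk r hr =>
    (Subgroup.mem_normalizer_iff.1 hk r).1 hr
  have toK : ∀ k : G, (∀ r ∈ R, k * r * k⁻¹ ∈ R) → k ∈ K := by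
    intro k hk
    have hmap : R.map (MulAut.conj k).toMonoidHom = R := Subgroup.eq_of_le_of_card_ge
      (by rintro _ ⟨r, hr, rfl⟩; exact hk r hr)
      (by rw [Subgroup.card_map_of_injective (f := (MulAut.conj k).toMonoidHom)
        (MulAut.conj k).injective])
    refine Subgroup.mem_normalizer_iff.2 fun r => ⟨hk r, fun hr => ?_⟩
    obtain ⟨r', hr', e⟩ := hmap.ge hr
    have e' : r' = r := by simpa [mul_assoc] using e
    exact e' ▸ hr'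
  have hK1 : h.M₁ ≤ K := fun m hm => toK m (h.normR m (h.M₁_z hm))
  have hgK : g ∈ K := toK g hg
  have hsK : s ∈ K := hK1 h.s_mem_M₁
  have huK : u ∈ K := hK1 (h.S_le_M₁ h.u_mem_S)
  have hNK : R ≤ K := Subgroup.le_normalizer
  have hRfix : ∀ r ∈ R, Commute r s → r ∈ Subgroup.zpowers z := fun r hr hc =>
    h.ctx.mem_zpowers_of_fixed h.rs.three h.rs.central hr hc
  obtain ⟨P, hP⟩ := h.sylow
  have hPS : (P : Subgroup G) = h.S := hP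
  rcases h.ctx.local_shape hNK hnorm hsK h.zR h.rs.three hRfix with
    ⟨M, hNM, hMK, hM, hM3, hi⟩ | ⟨M, hNM, hMK, hM, hsq, hi, -⟩ | ⟨hi, -⟩
  rotate_left
  · exact h.false_of_sixty hnorm h.rs hK1 hNM hMK hM hsq hi
  · have h8 := card_sylow_over P (hPS ▸ h.S_le_M₁.trans hK1) (hPS ▸ h.R_le_S) (t := 8) (m := 21)
      (by rw [hi]) ⟨3, rfl⟩ (by norm_num)
    rw [hPS, h.card_S] at h8
    have := Nat.card_pos (α := R)
    omega
  obtain ⟨-, hodd, hgen, -⟩ := h.index_facts hNK hnorm h.rs le_rfl hK1 hMK hM hM3 hi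
  have orbitR : ∀ k ∈ K, k * z * k⁻¹ ∈ R := fun k hk => hnorm k hk z h.zR
  have horbc : ∀ k ∈ K, ∀ r ∈ R, Commute (k * z * k⁻¹) r := by
    intro k hk r hr
    have h1 := (h.rs.central _ (hnorm k⁻¹ (inv_mem hk) r hr)).symm.map (MulAut.conj k).toMonoidHom
    simpa [mul_assoc] using h1
  set V : Subgroup G := Subgroup.closure {w | ∃ k ∈ K, w = k * z * k⁻¹} with hV
  have horb : ∀ k ∈ K, k * z * k⁻¹ ∈ V := fun k hk => Subgroup.subset_closure ⟨k, hk, rfl⟩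
  have hzV : z ∈ V := by simpa using horb 1 (one_mem K)
  have hVR : V ≤ R := (Subgroup.closure_le _).2 fun w hw => by
    obtain ⟨k, hk, rfl⟩ := hw
    exact orbitR k hk
  have hVn : ∀ k ∈ K, ∀ v ∈ V, k * v * k⁻¹ ∈ V := by
    intro k hk v hv
    have hle : V ≤ V.comap (MulAut.conj k).toMonoidHom := (Subgroup.closure_le _).2 fun w hw => by
      obtain ⟨k', hk', rfl⟩ := hw
      show k * (k' * z * k'⁻¹) * k⁻¹ ∈ V
      rw [show k * (k' * z * k'⁻¹) * k⁻¹ = (k * k') * z * (k * k')⁻¹ by group]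
      exact horb _ (mul_mem hk hk')
    exact hle hv
  have hVc : ∀ v ∈ V, ∀ r ∈ R, Commute v r := by
    intro v hv r hr
    have hle : V ≤ Subgroup.centralizer {r} := (Subgroup.closure_le _).2 fun w hw => by
      obtain ⟨k, hk, rfl⟩ := hw
      exact Subgroup.mem_centralizer_singleton_iff.2 (horbc k hk r hr).eq
    exact Subgroup.mem_centralizer_singleton_iff.1 (hle hv)
  have hexp : ∀ v ∈ V, v * v = 1 := by
    intro v hv
    induction hv using Subgroup.closure_induction with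
    | mem w hw =>
      obtain ⟨k, hk, rfl⟩ := hw
      rw [show k * z * k⁻¹ * (k * z * k⁻¹) = k * (z * z) * k⁻¹ by group, h.ctx.z_sq, mul_one,
        mul_inv_cancel]
    | one => exact one_mul 1
    | mul p q hp hq ihp ihq =>
      rw [(hVc q hq p (hVR hp)).mul_mul_mul_comm, ihp, ihq, one_mul]
    | inv p hp ihp => rw [← mul_inv_rev, ihp, inv_one]
  -- the centraliser of `V` in `M`
  set Cm : Subgroup G := M ⊓ Subgroup.centralizer (V : Set G) with hCm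
  have memC : ∀ {x : G}, x ∈ Cm ↔ x ∈ M ∧ ∀ v ∈ V, x * v * x⁻¹ = v := fun {x} =>
    ⟨fun hx => ⟨hx.1, fun v hv => by
        rw [← Subgroup.mem_centralizer_iff.1 hx.2 v hv, mul_inv_cancel_right]⟩,
      fun hx => ⟨hx.1, Subgroup.mem_centralizer_iff.2 fun v hv =>
        (mul_inv_eq_iff_eq_mul.1 (hx.2 v hv)).symm⟩⟩
  have hRC : R ≤ Cm := fun r hr => memC.2 ⟨hNM hr, fun v hv => by
    rw [← (hVc v hv r hr).eq, mul_inv_cancel_right]⟩
  have hCK : Cm ≤ K := inf_le_left.trans hMK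
  have hCn : ∀ k ∈ K, ∀ x ∈ Cm, k * x * k⁻¹ ∈ Cm := by
    intro k hk x hx
    refine memC.2 ⟨hM k hk x (memC.1 hx).1, fun v hv => ?_⟩
    have h1 := (memC.1 hx).2 _ (hVn k⁻¹ (inv_mem hk) v hv)
    rw [inv_inv] at h1
    calc k * x * k⁻¹ * v * (k * x * k⁻¹)⁻¹ = k * (x * (k⁻¹ * v * k) * x⁻¹) * k⁻¹ := by group
      _ = v := by rw [h1]; group
  have hC3 : ¬ 3 ∣ Nat.card Cm := fun h3 => hM3 (h3.trans (Subgroup.card_dvd_of_le inf_le_left))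
  have hCfix : ∀ x ∈ Cm, Commute x s → x ∈ Subgroup.zpowers z := fun x hx hc => by
    have hxz := h.ctx.commute_z h.zR hRfix (orbitR x (hCK hx)) hc
    exact h.ctx.mem_zpowers_z_iff.2 (h.ctx.eq_one_or_z hxz hc
      fun h3 => hC3 (h3.trans (Subgroup.orderOf_dvd_natCard Cm hx)))
  haveI hn : (Cm.subgroupOf K).Normal := ⟨fun x hx k => by
    rw [Subgroup.mem_subgroupOf] at hx ⊢
    exact hCn k k.2 x hx⟩
  haveI hMn : (M.subgroupOf K).Normal := ⟨fun x hx k => by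
    rw [Subgroup.mem_subgroupOf] at hx ⊢
    exact hM k k.2 x hx⟩
  set π := QuotientGroup.mk' (Cm.subgroupOf K) with hπ
  have hmem : ∀ (x : G) (hx : x ∈ K), π ⟨x, hx⟩ = 1 ↔ x ∈ Cm := fun x hx => by
    rw [QuotientGroup.mk'_apply, QuotientGroup.eq_one_iff, Subgroup.mem_subgroupOf]
  set Wq := (M.subgroupOf K).map π
  haveI : Wq.Normal := hMn.map π (QuotientGroup.mk'_surjective _)
  have hW3 : ¬ 3 ∣ Nat.card Wq := fun h3 => hM3 (h3.trans (by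
    rw [← Nat.card_congr (Subgroup.subgroupOfEquivOfLe hMK).toEquiv]
    exact Subgroup.card_map_dvd _ π))
  have hWne : Wq ≠ ⊥ := by
    intro e
    have hMC : M ≤ Cm := fun m hm => (hmem m (hMK hm)).1 (Subgroup.mem_bot.1
      (e.le ⟨⟨m, hMK hm⟩, hm, rfl⟩))
    have hM3z : ∀ v ∈ M ⊔ Subgroup.zpowers s, Commute v z := by
      have hle : M ⊔ Subgroup.zpowers s ≤ Subgroup.centralizer {z} := by
        refine sup_le (fun m hm => ?_) (Subgroup.zpowers_le.2 ?_)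
        · exact Subgroup.mem_centralizer_singleton_iff.2
            (mul_inv_eq_iff_eq_mul.1 ((memC.1 (hMC hm)).2 z hzV))
        · exact Subgroup.mem_centralizer_singleton_iff.2 h.ctx.comm.symm.eq
      exact fun v hv => Subgroup.mem_centralizer_singleton_iff.1 (hle hv)
    rcases hgen g hgK with e' | e'
    · exact hgz (hM3z g e')
    · have := h.u_z.mul_left (hM3z _ e')
      rw [mul_inv_cancel_left] at this
      exact hgz this
  have hu : π ⟨u, huK⟩ * π ⟨s, hsK⟩ * (π ⟨u, huK⟩)⁻¹ = (π ⟨s, hsK⟩)⁻¹ := by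
    rw [← map_inv, ← map_inv, ← map_mul, ← map_mul]
    exact congrArg π (Subtype.ext h.u_inv)
  have hu2 : π ⟨u, huK⟩ * π ⟨u, huK⟩ = 1 := by
    rw [← map_mul]
    exact (hmem _ (mul_mem huK huK)).2 (hRC h.u_sq_mem)
  obtain ⟨y, hy, hy1, hyc, hyu, hyn⟩ := exists_central_fixed
    (h.ctx.hyp_quot hCK hsK (hRC h.zR) hC3 hCfix) hu hu2 hW3 hWne
  obtain ⟨⟨c, hcK⟩, hcM, rfl⟩ := hy
  have hcM' : c ∈ M := hcM
  have act_eq : ∀ a b : G, ∀ (ha : a ∈ K) (hb : b ∈ K), π ⟨a, ha⟩ = π ⟨b, hb⟩ →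
      ∀ v ∈ V, a * v * a⁻¹ = b * v * b⁻¹ := by
    intro a b ha hb e v hv
    have h1 : b⁻¹ * a ∈ Cm := by
      refine (hmem _ (mul_mem (inv_mem hb) ha)).1 ?_
      rw [show (⟨b⁻¹ * a, mul_mem (inv_mem hb) ha⟩ : K) = ⟨b, hb⟩⁻¹ * ⟨a, ha⟩ from rfl, map_mul,
        map_inv, e, inv_mul_cancel]
    calc a * v * a⁻¹ = b * ((b⁻¹ * a) * v * (b⁻¹ * a)⁻¹) * b⁻¹ := by group
      _ = _ := by rw [(memC.1 h1).2 v hv]
  set c₂ := s * c * s⁻¹ with hc₂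
  set c₃ := s * c₂ * s⁻¹ with hc₃
  have hc₂K : c₂ ∈ K := mul_mem (mul_mem hsK hcK) (inv_mem hsK)
  have hc₃K : c₃ ∈ K := mul_mem (mul_mem hsK hc₂K) (inv_mem hsK)
  have hc₂M : c₂ ∈ M := hM s hsK c hcM'
  have hc₃M : c₃ ∈ M := hM s hsK c₂ hc₂M
  have hcentre : ∀ x : G, (x = c ∨ x = c₂ ∨ x = c₃) → ∀ (hx : x ∈ K), ∀ m (hm : m ∈ M),
      π ⟨x, hx⟩ * π ⟨m, hMK hm⟩ = π ⟨m, hMK hm⟩ * π ⟨x, hx⟩ := by
    have base : ∀ m (hm : m ∈ M), Commute (π ⟨c, hcK⟩) (π ⟨m, hMK hm⟩) := fun m hm =>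
      hyc _ ⟨⟨m, hMK hm⟩, hm, rfl⟩
    have step : ∀ x (hx : x ∈ K), (∀ m (hm : m ∈ M), Commute (π ⟨x, hx⟩) (π ⟨m, hMK hm⟩)) →
        ∀ m (hm : m ∈ M), Commute (π ⟨s * x * s⁻¹, mul_mem (mul_mem hsK hx) (inv_mem hsK)⟩)
          (π ⟨m, hMK hm⟩) := by
      intro x hx hc m hm
      have h1 := (hc _ (hM s⁻¹ (inv_mem hsK) m hm)).map (MulAut.conj (π ⟨s, hsK⟩)).toMonoidHom
      simp only [MulEquiv.coe_toMonoidHom, MulAut.conj_apply, ← map_inv, ← map_mul] at h1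
      convert h1 using 2 <;> refine Subtype.ext ?_
      · rfl
      · show m = s * (s⁻¹ * m * s⁻¹⁻¹) * s⁻¹
        group
    intro x hx' hx m hm
    rcases hx' with rfl | rfl | rfl
    · exact (base m hm).eq
    · exact (step c hcK base m hm).eq
    · exact (step c₂ hc₂K (step c hcK base) m hm).eq
  have hswap : ∀ a b : G, (a = c ∨ a = c₂ ∨ a = c₃) → (b = c ∨ b = c₂ ∨ b = c₃) →
      ∀ v ∈ V, a * b * v * (a * b)⁻¹ = b * a * v * (b * a)⁻¹ := by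
    intro a b ha hb
    have hbM : b ∈ M := by rcases hb with rfl | rfl | rfl <;> assumption
    have haK : a ∈ K := by rcases ha with rfl | rfl | rfl <;> assumption
    refine act_eq _ _ (mul_mem haK (hMK hbM)) (mul_mem (hMK hbM) haK) ?_
    exact (map_mul π ⟨a, haK⟩ ⟨b, hMK hbM⟩).trans ((hcentre a ha haK b hbM).trans
      (map_mul π ⟨b, hMK hbM⟩ ⟨a, haK⟩).symm)
  have hC : Conj3 V c c₂ c₃ :=
    { comm := fun v hv w hw => (hVc v hv w (hVR hw)).eq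
      exp := hexp
      act := fun x hx v hv => by
        rcases hx with rfl | rfl | rfl <;> exact hVn _ (by assumption) v hv
      swap := hswap
      prod := fun v hv => by
        refine ((memC (x := c * c₂ * c₃)).1 ((hmem _ (mul_mem (mul_mem hcK hc₂K) hc₃K)).1 ?_)).2 v hv
        refine Eq.trans ?_ hyn
        show π (⟨c, hcK⟩ * (⟨s, hsK⟩ * ⟨c, hcK⟩ * (⟨s, hsK⟩ : K)⁻¹) *
          (⟨s, hsK⟩ * (⟨s, hsK⟩ * ⟨c, hcK⟩ * (⟨s, hsK⟩ : K)⁻¹) * (⟨s, hsK⟩ : K)⁻¹)) = _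
        simp only [map_mul, map_inv]
        rfl }
  -- the action of `s` and `u` on the three translates
  have hsz := h.rs.s_z
  have conjv : ∀ p a a' : G, p * z * p⁻¹ = z → (p * a * p⁻¹) = a' →
      p * (a * z * a⁻¹) * p⁻¹ = a' * z * a'⁻¹ := by
    intro p a a' hpz hpa
    calc p * (a * z * a⁻¹) * p⁻¹ = (p * a * p⁻¹) * (p * z * p⁻¹) * (p * a * p⁻¹)⁻¹ := by group
      _ = _ := by rw [hpz, hpa]
  have hs3 : s * c₃ * s⁻¹ = c := by
    rw [hc₃, hc₂]; exact h.rs.s_cubed c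
  have hsfix : ∀ a b d : G, a ∈ V → b ∈ V → d ∈ V → s * a * s⁻¹ = b → s * b * s⁻¹ = d →
      a * b * d = 1 ∨ a * b * d = z := by
    intro a b d ha hb hd e1 e2
    have e3 : s * d * s⁻¹ = a := by rw [← e2, ← e1, h.rs.s_cubed]
    refine h.rs.fixed (mul_mem (mul_mem (hVR ha) (hVR hb)) (hVR hd))
      (mul_inv_eq_iff_eq_mul.1 ?_).symm
    calc s * (a * b * d) * s⁻¹ = (s * a * s⁻¹) * (s * b * s⁻¹) * (s * d * s⁻¹) := by group
      _ = b * d * a := by rw [e1, e2, e3]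
      _ = a * b * d := by rw [(hVc (b * d) (mul_mem hb hd) a (hVR ha)).eq, mul_assoc]
  have hconjmul : ∀ a b : G, s * (a * b) * s⁻¹ = (s * a * s⁻¹) * (s * b * s⁻¹) := fun a b => by group
  have he1 : Conj3.powNorm c c₂ c₃ 1 z = 1 ∨ Conj3.powNorm c c₂ c₃ 1 z = z := by
    simp only [Conj3.powNorm, pow_one]
    exact hsfix _ _ _ (horb c hcK) (horb c₂ hc₂K) (horb c₃ hc₃K) (conjv s c c₂ hsz rfl)
      (conjv s c₂ c₃ hsz rfl)
  have he2 : Conj3.pairNorm c c₂ c₃ z = 1 ∨ Conj3.pairNorm c c₂ c₃ z = z := by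
    simp only [Conj3.pairNorm]
    exact hsfix _ _ _ (horb _ (mul_mem hcK hc₂K)) (horb _ (mul_mem hc₂K hc₃K))
      (horb _ (mul_mem hc₃K hcK)) (conjv s _ _ hsz (by rw [hconjmul]))
      (conjv s _ _ hsz (by rw [hconjmul, hs3]))
  have hsym : Conj3.symNorm c c₂ c₃ z = 1 ∨ Conj3.symNorm c c₂ c₃ z = z := by
    simp only [Conj3.symNorm]
    exact hsfix _ _ _ (horb _ (mul_mem (mul_mem hcK hcK) hc₂K))
      (horb _ (mul_mem (mul_mem hc₂K hc₂K) hc₃K)) (horb _ (mul_mem (mul_mem hc₃K hc₃K) hcK))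
      (conjv s _ _ hsz (by rw [hconjmul, hconjmul]))
      (conjv s _ _ hsz (by rw [hconjmul, hconjmul, hs3]))
  -- `u` exchanges the last two modulo the centraliser
  have huz : u * z * u⁻¹ = z := by rw [h.u_z.eq, mul_inv_cancel_right]
  have hπu : ∀ x y : G, ∀ (hx : x ∈ K) (hy : y ∈ K), π ⟨u, huK⟩ * π ⟨x, hx⟩ * (π ⟨u, huK⟩)⁻¹ =
      π ⟨y, hy⟩ → ∀ v ∈ V, (u * x * u⁻¹) * v * (u * x * u⁻¹)⁻¹ = y * v * y⁻¹ := by
    intro x y hx hy e
    refine act_eq _ _ (mul_mem (mul_mem huK hx) (inv_mem huK)) hy ?_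
    rw [← e, ← map_inv, ← map_mul, ← map_mul]
    rfl
  have e3 : π ⟨c₃, hc₃K⟩ = (π ⟨s, hsK⟩)⁻¹ * π ⟨c, hcK⟩ * π ⟨s, hsK⟩ := by
    rw [← map_inv, ← map_mul, ← map_mul]
    refine congrArg π (Subtype.ext ?_)
    show c₃ = s⁻¹ * c * s
    rw [← hs3]; group
  have e2 : π ⟨c₂, hc₂K⟩ = π ⟨s, hsK⟩ * π ⟨c, hcK⟩ * (π ⟨s, hsK⟩)⁻¹ := by
    rw [← map_inv, ← map_mul, ← map_mul]; rfl
  have hu₂ : π ⟨u, huK⟩ * π ⟨c₂, hc₂K⟩ * (π ⟨u, huK⟩)⁻¹ = π ⟨c₃, hc₃K⟩ := by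
    rw [e2, e3]
    calc π ⟨u, huK⟩ * (π ⟨s, hsK⟩ * π ⟨c, hcK⟩ * (π ⟨s, hsK⟩)⁻¹) * (π ⟨u, huK⟩)⁻¹
        = (π ⟨u, huK⟩ * π ⟨s, hsK⟩ * (π ⟨u, huK⟩)⁻¹) *
          (π ⟨u, huK⟩ * π ⟨c, hcK⟩ * (π ⟨u, huK⟩)⁻¹) *
          (π ⟨u, huK⟩ * π ⟨s, hsK⟩ * (π ⟨u, huK⟩)⁻¹)⁻¹ := by group
      _ = _ := by rw [hu, hyu, inv_inv]
  have hu₃ : π ⟨u, huK⟩ * π ⟨c₃, hc₃K⟩ * (π ⟨u, huK⟩)⁻¹ = π ⟨c₂, hc₂K⟩ := by
    rw [← hu₂]
    calc π ⟨u, huK⟩ * (π ⟨u, huK⟩ * π ⟨c₂, hc₂K⟩ * (π ⟨u, huK⟩)⁻¹) * (π ⟨u, huK⟩)⁻¹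
        = (π ⟨u, huK⟩ * π ⟨u, huK⟩) * π ⟨c₂, hc₂K⟩ * (π ⟨u, huK⟩ * π ⟨u, huK⟩)⁻¹ := by group
      _ = _ := by rw [hu2, one_mul, inv_one, mul_one]
  have hu₁ := hπu c c hcK hcK hyu
  have hv₂ := hπu c₂ c₃ hc₂K hc₃K hu₂
  have hv₃ := hπu c₃ c₂ hc₃K hc₂K hu₃
  have umap : ∀ a a' b b' d d' : G,
      (∀ v ∈ V, (u * a * u⁻¹) * v * (u * a * u⁻¹)⁻¹ = a' * v * a'⁻¹) →
      (∀ v ∈ V, (u * b * u⁻¹) * v * (u * b * u⁻¹)⁻¹ = b' * v * b'⁻¹) →
      (∀ v ∈ V, (u * d * u⁻¹) * v * (u * d * u⁻¹)⁻¹ = d' * v * d'⁻¹) →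
      b ∈ K → d ∈ K → b' ∈ K → d' ∈ K →
      u * (a * b * d * z * (a * b * d)⁻¹) * u⁻¹ = a' * b' * d' * z * (a' * b' * d')⁻¹ := by
    intro a a' b b' d d' ha hb hd hbK hdK hbK' hdK'
    calc u * (a * b * d * z * (a * b * d)⁻¹) * u⁻¹
        = (u * a * u⁻¹) * ((u * b * u⁻¹) * ((u * d * u⁻¹) * (u * z * u⁻¹) * (u * d * u⁻¹)⁻¹) *
            (u * b * u⁻¹)⁻¹) * (u * a * u⁻¹)⁻¹ := by group
      _ = (u * a * u⁻¹) * (b' * (d' * z * d'⁻¹) * b'⁻¹) * (u * a * u⁻¹)⁻¹ := by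
          rw [huz, hd z hzV, hb _ (horb d' hdK')]
      _ = a' * (b' * (d' * z * d'⁻¹) * b'⁻¹) * a'⁻¹ := ha _ (hVn b' hbK' _ (horb d' hdK'))
      _ = _ := by group
  have he : Conj3.symNorm c c₂ c₃ z = Conj3.symNorm' c c₂ c₃ z := by
    have hu' : u * Conj3.symNorm c c₂ c₃ z * u⁻¹ = Conj3.symNorm c c₂ c₃ z := by
      rcases hsym with e | e <;> rw [e]
      · rw [mul_one, mul_inv_cancel]
      · exact huz
    rw [← hu']
    simp only [Conj3.symNorm, Conj3.symNorm']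
    -- the three images
    have i1 := umap c c c c c₂ c₃ hu₁ hu₁ hv₂ hcK hc₂K hcK hc₃K
    have i2 := umap c₂ c₃ c₂ c₃ c₃ c₂ hv₂ hv₂ hv₃ hc₂K hc₃K hc₃K hc₂K
    have i3 := umap c₃ c₂ c₃ c₂ c c hv₃ hv₃ hu₁ hc₃K hcK hc₂K hcK
    rw [show ∀ A B D : G, u * (A * B * D) * u⁻¹ = (u * A * u⁻¹) * (u * B * u⁻¹) * (u * D * u⁻¹)
      from fun A B D => by group, i1, i2, i3]
    have sw : ∀ a b d : G, (a = c ∨ a = c₂ ∨ a = c₃) → (b = c ∨ b = c₂ ∨ b = c₃) →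
        (d = c ∨ d = c₂ ∨ d = c₃) → d ∈ K →
        a * b * d * z * (a * b * d)⁻¹ = b * a * d * z * (b * a * d)⁻¹ := by
      intro a b d ha hb _ hd
      calc a * b * d * z * (a * b * d)⁻¹ = a * b * (d * z * d⁻¹) * (a * b)⁻¹ := by group
        _ = b * a * (d * z * d⁻¹) * (b * a)⁻¹ := hswap a b ha hb _ (horb d hd)
        _ = _ := by group
    have sw' : ∀ a b d : G, (b = c ∨ b = c₂ ∨ b = c₃) → (d = c ∨ d = c₂ ∨ d = c₃) →
        a * b * d * z * (a * b * d)⁻¹ = a * d * b * z * (a * d * b)⁻¹ := by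
      intro a b d hb hd
      calc a * b * d * z * (a * b * d)⁻¹ = a * (b * d * z * (b * d)⁻¹) * a⁻¹ := by group
        _ = a * (d * b * z * (d * b)⁻¹) * a⁻¹ := by rw [hswap b d hb hd z hzV]
        _ = _ := by group
    have o1 : c = c ∨ c = c₂ ∨ c = c₃ := Or.inl rfl
    have o2 : c₂ = c ∨ c₂ = c₂ ∨ c₂ = c₃ := Or.inr (Or.inl rfl)
    have o3 : c₃ = c ∨ c₃ = c₂ ∨ c₃ = c₃ := Or.inr (Or.inr rfl)
    have f1 : c * c * c₃ * z * (c * c * c₃)⁻¹ = c₃ * c * c * z * (c₃ * c * c)⁻¹ := by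
      rw [sw' c c c₃ o1 o3, sw c c₃ c o1 o3 o1 hcK]
    have f2 : c₃ * c₃ * c₂ * z * (c₃ * c₃ * c₂)⁻¹ = c₂ * c₃ * c₃ * z * (c₂ * c₃ * c₃)⁻¹ := by
      rw [sw' c₃ c₃ c₂ o3 o2, sw c₃ c₂ c₃ o3 o2 o3 hc₃K]
    have f3 : c₂ * c₂ * c * z * (c₂ * c₂ * c)⁻¹ = c * c₂ * c₂ * z * (c * c₂ * c₂)⁻¹ := by
      rw [sw' c₂ c₂ c o2 o1, sw c₂ c c₂ o2 o1 o2 hc₂K]
    rw [f1, f2, f3]
    set A := c₃ * c * c * z * (c₃ * c * c)⁻¹
    set B := c₂ * c₃ * c₃ * z * (c₂ * c₃ * c₃)⁻¹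
    set D := c * c₂ * c₂ * z * (c * c₂ * c₂)⁻¹
    have hA : A ∈ V := horb _ (mul_mem (mul_mem hc₃K hcK) hcK)
    have hB : B ∈ V := horb _ (mul_mem (mul_mem hc₂K hc₃K) hc₃K)
    have hD : D ∈ V := horb _ (mul_mem (mul_mem hcK hc₂K) hc₂K)
    rw [(hVc A hA B (hVR hB)).eq, (hVc (B * A) (mul_mem hB hA) D (hVR hD)).eq, ← mul_assoc]
  -- the order of `c` modulo the centraliser
  have hco : (R.relIndex M).Coprime 6 := by
    rw [show (6 : ℕ) = 2 * 3 from rfl]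
    refine Nat.Coprime.mul_right ((Nat.prime_two.coprime_iff_not_dvd).2 hodd).symm
      ((Nat.prime_three.coprime_iff_not_dvd).2 fun h3 => hM3 (h3.trans ?_)).symm
    exact Dvd.intro_left _ (by
      rw [← (R.subgroupOf M).card_mul_index]
      rfl)
  have hoddc : ∀ v ∈ V, c ^ R.relIndex M * v * (c ^ R.relIndex M)⁻¹ = v := by
    haveI : (R.subgroupOf M).Normal := ⟨fun r hr m => by
      rw [Subgroup.mem_subgroupOf] at hr ⊢
      exact hnorm m (hMK m.2) r hr⟩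
    exact (memC.1 (hRC (Subgroup.mem_subgroupOf.1
      (Subgroup.pow_index_mem (R.subgroupOf M) ⟨c, hcM'⟩)))).2
  have hcz : c * z * c⁻¹ = z := hC.fix_of_symm hzV hco hoddc he1 he2 he
  -- so `c` fixes the whole orbit
  have horbM : ∀ k ∈ K, ∃ m ∈ M, k * z * k⁻¹ = m * z * m⁻¹ := by
    have hM3' : ∀ v ∈ M ⊔ Subgroup.zpowers s, ∃ m ∈ M, v * z * v⁻¹ = m * z * m⁻¹ := by
      intro v hv
      obtain ⟨m, hm, j, rfl⟩ := (mem_sup_zpowers (hM s hsK)).1 hv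
      exact ⟨m, hm, by
        rw [show m * s ^ j * z * (m * s ^ j)⁻¹ = m * (s ^ j * z * (s ^ j)⁻¹) * m⁻¹ by group,
          (h.ctx.comm.symm.pow_left j).eq, mul_inv_cancel_right]⟩
    intro k hk
    rcases hgen k hk with e | e
    · exact hM3' k e
    · obtain ⟨m, hm, e'⟩ := hM3' _ e
      refine ⟨u * m * u⁻¹, hM u huK m hm, ?_⟩
      calc k * z * k⁻¹ = u * ((u⁻¹ * k) * z * (u⁻¹ * k)⁻¹) * u⁻¹ := by group
        _ = (u * m * u⁻¹) * (u * z * u⁻¹) * (u * m * u⁻¹)⁻¹ := by rw [e']; group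
        _ = _ := by rw [huz]
  refine hy1 ((hmem c hcK).2 (memC.2 ⟨hcM', ?_⟩))
  intro v hv
  induction hv using Subgroup.closure_induction with
  | mem w hw =>
    obtain ⟨k, hk, rfl⟩ := hw
    obtain ⟨m, hm, e⟩ := horbM k hk
    rw [e]
    have e1 : π ⟨c * m, mul_mem hcK (hMK hm)⟩ = π ⟨m * c, mul_mem (hMK hm) hcK⟩ :=
      (map_mul π ⟨c, hcK⟩ ⟨m, hMK hm⟩).trans ((hcentre c (Or.inl rfl) hcK m hm).trans
        (map_mul π ⟨m, hMK hm⟩ ⟨c, hcK⟩).symm)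
    calc c * (m * z * m⁻¹) * c⁻¹ = (c * m) * z * (c * m)⁻¹ := by group
      _ = (m * c) * z * (m * c)⁻¹ := act_eq _ _ _ _ e1 z hzV
      _ = m * (c * z * c⁻¹) * m⁻¹ := by group
      _ = _ := by rw [hcz]
  | one => rw [mul_one, mul_inv_cancel]
  | mul a b ha hb iha ihb =>
    rw [show c * (a * b) * c⁻¹ = (c * a * c⁻¹) * (c * b * c⁻¹) by group, iha, ihb]
  | inv a ha iha => rw [show c * a⁻¹ * c⁻¹ = (c * a * c⁻¹)⁻¹ by group, iha]

end S3Cfg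

end CfsgLib.SelfCentralSix57
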