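import Cfsg.Agent.SelfCentralSix57.SupTools
import Cfsg.Agent.FgsSix.SmallOrders
import Cfsg.Prelude.Def_PLocal

/-!
# A 2-group `T` extended by a symmetric group of degree three
-/

set_option autoImplicit false
set_option linter.style.haveILetI false
set_option linter.unusedSectionVars false

namespace CfsgLib.SelfCentralSix57

universe u

variable {G : Type u} [Group G] [Finite G]

/-- `T` is normal in `M` with quotient of symmetric type and `S` is a Sylow 2-subgroup. -/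
structure S3Sub (M S T : Subgroup G) : Prop where
  le₁ : T ≤ S
  le₂ : S ≤ M
  two : IsPGroup 2 S
  normal : ∀ m ∈ M, ∀ t ∈ T, m * t * m⁻¹ ∈ T
  cardS : Nat.card S = 2 * Nat.card T
  cardM : Nat.card M = 6 * Nat.card T
  gen : ∃ y ∈ M, ∃ r ∈ S, y ∉ T ∧ y ^ 3 ∈ T ∧ r ∉ T ∧ r * y * r⁻¹ * y ∈ T

namespace S3Sub

variable {M S T : Subgroup G} (h : S3Sub M S T)
include h

/-- The index of `S`. -/
theorem three : Nat.card M = 3 * Nat.card S := by rw [h.cardM, h.cardS]; ring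

/-- A normal subgroup inside `S` lies in `T`. -/
theorem le_core {N : Subgroup G} (hNS : N ≤ S) (hN : ∀ m ∈ M, ∀ n ∈ N, m * n * m⁻¹ ∈ N) :
    N ≤ T := by
  obtain ⟨y, hy, r, hr, hyT, hy3, hrT, hinv⟩ := h.gen
  intro n hn
  by_contra hnT
  have hnM : n ∈ M := h.le₂ (hNS hn)
  have hi := h.cardS
  have split : ∀ a ∈ S, a ∉ T → ∀ b ∈ S, b ∉ T → a⁻¹ * b ∈ T := by
    intro a ha ha' b hb hb'
    have hidx : (T.subgroupOf S).index = 2 := by
      have h1 := (T.subgroupOf S).card_mul_index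
      rw [Nat.card_congr (Subgroup.subgroupOfEquivOfLe h.le₁).toEquiv, hi, mul_comm 2] at h1
      exact mul_left_cancel₀ Nat.card_pos.ne' h1
    exact (Subgroup.mul_mem_iff_of_index_two hidx (a := (⟨a, ha⟩ : S)⁻¹) (b := ⟨b, hb⟩)).2
      ⟨fun e => absurd (inv_mem_iff.1 e) ha', fun e => absurd e hb'⟩
  have h1 : n⁻¹ * (y * n * y⁻¹) ∈ T := by
    by_cases h2 : y * n * y⁻¹ ∈ T
    · have := h.normal y⁻¹ (inv_mem hy) _ h2
      exact absurd (by simpa [mul_assoc] using this) hnT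
    · exact split n (hNS hn) hnT _ (hNS (hN y hy n hn)) h2
  have h2 : r⁻¹ * n ∈ T := split r hr hrT n (hNS hn) hnT
  -- so `y` commutes with `r` modulo `T`
  set t := r⁻¹ * n with ht
  have hn' : n = r * t := by rw [ht, mul_inv_cancel_left]
  rw [hn'] at h1
  have h4 : y * r⁻¹ * y⁻¹ * r ∈ T := by
    have e : y * r⁻¹ * y⁻¹ * r =
        y * t * y⁻¹ * ((r * t)⁻¹ * (y * (r * t) * y⁻¹))⁻¹ * t⁻¹ := by group
    rw [e]
    exact mul_mem (mul_mem (h.normal y hy _ h2) (inv_mem h1)) (inv_mem h2)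
  have hyr : r * y * r⁻¹ * y⁻¹ ∈ T := by
    have := h.normal r (h.le₂ hr) _ h4
    simpa [mul_assoc] using this
  have h5 : y * y ∈ T := by
    have := mul_mem (inv_mem hyr) hinv
    simpa [mul_assoc] using this
  refine hyT ?_
  have h6 : y = y ^ 3 * (y * y)⁻¹ := by rw [pow_succ, pow_two]; group
  rw [h6]
  exact mul_mem hy3 (inv_mem h5)

theorem pCore_eq : Cfsg.pCore 2 M = T.subgroupOf M := by
  refine le_antisymm (sSup_le fun N hN => ?_) (le_sSup ⟨⟨fun t ht m => ?_⟩, ?_⟩)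
  · obtain ⟨hNn, hN2⟩ := hN
    have hTM : T ≤ M := h.le₁.trans h.le₂
    set N' := N.map M.subtype
    have hN'n : ∀ m ∈ M, ∀ n ∈ N', m * n * m⁻¹ ∈ N' := by
      rintro m hm _ ⟨n, hn, rfl⟩
      exact ⟨⟨m, hm⟩ * n * ⟨m, hm⟩⁻¹, hNn.conj_mem n hn _, rfl⟩
    have hnorm : S ≤ Subgroup.normalizer (N' : Set G) := fun a ha =>
      Subgroup.mem_normalizer_iff.2 fun x => ⟨hN'n a (h.le₂ ha) x, fun hx => by
        simpa [mul_assoc] using hN'n a⁻¹ (inv_mem (h.le₂ ha)) _ hx⟩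
    have h2 : IsPGroup 2 ↥(S ⊔ N') := h.two.to_sup_of_normal_right' (hN2.map _) hnorm
    haveI : Fact (Nat.Prime 2) := ⟨Nat.prime_two⟩
    have hle : S ⊔ N' ≤ M := sup_le h.le₂ (Subgroup.map_subtype_le _)
    have hd := Subgroup.card_dvd_of_le hle
    obtain ⟨a, ha⟩ := IsPGroup.iff_card.1 h2
    obtain ⟨b, hb⟩ := IsPGroup.iff_card.1 h.two
    rw [h.three, ha, hb] at hd
    have hd' : 2 ^ a ∣ 2 ^ b :=
      (Nat.Coprime.pow_left a (by norm_num : Nat.Coprime 2 3)).dvd_of_dvd_mul_left hd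
    have heq : S = S ⊔ N' :=
      Subgroup.eq_of_le_of_card_ge le_sup_left (by rw [ha, hb]; exact Nat.le_of_dvd (by positivity) hd')
    have hNS : N' ≤ S := le_sup_right.trans heq.ge
    intro x hx
    exact h.le_core hNS hN'n ⟨x, hx, rfl⟩
  · rw [Subgroup.mem_subgroupOf] at ht ⊢
    exact h.normal m m.2 t ht
  · exact (h.two.to_le h.le₁).comap_of_injective M.subtype M.subtype_injective

theorem quotient_equiv : Nonempty (M ⧸ Cfsg.pCore 2 M ≃* Equiv.Perm (Fin 3)) := by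
  haveI : (Cfsg.pCore 2 M).Normal := by
    rw [h.pCore_eq]
    exact ⟨fun t ht m => by
      rw [Subgroup.mem_subgroupOf] at ht ⊢
      exact h.normal m m.2 t ht⟩
  obtain ⟨y, hy, r, hr, hyT, hy3, hrT, hinv⟩ := h.gen
  set q := QuotientGroup.mk' (Cfsg.pCore 2 M)
  have hmem : ∀ x : M, q x = 1 ↔ (x : G) ∈ T := fun x => by
    rw [QuotientGroup.mk'_apply, QuotientGroup.eq_one_iff, h.pCore_eq, Subgroup.mem_subgroupOf]
  have hcard : Nat.card (M ⧸ Cfsg.pCore 2 M) = 6 := by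
    have h1 := (Cfsg.pCore 2 M).card_mul_index
    have h2 : Nat.card (Cfsg.pCore 2 M) = Nat.card T := by
      rw [h.pCore_eq]
      exact Nat.card_congr (Subgroup.subgroupOfEquivOfLe (h.le₁.trans h.le₂)).toEquiv
    rw [h2, h.cardM, mul_comm 6] at h1
    exact mul_left_cancel₀ Nat.card_pos.ne' h1
  haveI : Fact (Nat.Prime 3) := ⟨Nat.prime_three⟩
  haveI : Fact (Nat.Prime 2) := ⟨Nat.prime_two⟩
  refine CfsgLib.FgsSix.nonempty_mulEquiv_perm_three hcard (d := q ⟨y, hy⟩)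
    (s := q ⟨r, h.le₂ hr⟩) ?_ ?_ ?_
  · refine orderOf_eq_prime ?_ fun e => hyT ((hmem _).1 e)
    rw [← map_pow]; exact (hmem _).2 (by simpa using hy3)
  · refine orderOf_eq_prime ?_ fun e => hrT ((hmem _).1 e)
    rw [← map_pow]
    refine (hmem _).2 ?_
    have hidx : (T.subgroupOf S).index = 2 := by
      have h1 := (T.subgroupOf S).card_mul_index
      rw [Nat.card_congr (Subgroup.subgroupOfEquivOfLe h.le₁).toEquiv, h.cardS, mul_comm 2] at h1
      exact mul_left_cancel₀ Nat.card_pos.ne' h1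
    have h2 := Subgroup.mem_subgroupOf.1 (Subgroup.sq_mem_of_index_two hidx ⟨r, hr⟩)
    simpa [sq] using h2
  · rw [eq_inv_iff_mul_eq_one, ← map_inv, ← map_mul, ← map_mul, ← map_mul]
    exact (hmem _).2 (by simpa using hinv)

end S3Sub

end CfsgLib.SelfCentralSix57
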