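import Cfsg.Agent.SelfCentralSix57.TwoSetting
import Cfsg.Agent.SelfCentralSix57.S3Sub

/-!
# The configuration with quotient of symmetric type
-/

set_option autoImplicit false
set_option linter.style.haveILetI false
set_option linter.unusedSectionVars false

namespace CfsgLib.SelfCentralSix57

open scoped commutatorElement

universe u

variable {G : Type u} [Group G] [Finite G]

/-- `C(z)` is `(R × W)` extended by the group generated by `s` and `u`, with `u` inverting `s`. -/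
structure S3Cfg (z s u : G) (R W : Subgroup G) : Prop where
  hconj : ∀ x y : G, orderOf x = 2 → orderOf y = 2 → IsConj x y
  rs : TwoR z s R
  W_odd : Odd (Nat.card W)
  W_three : ¬ 3 ∣ Nat.card W
  W_comm : ∀ r ∈ R, ∀ w ∈ W, Commute r w
  W_z : ∀ w ∈ W, Commute w z
  u_z : Commute u z
  u_inv : u * s * u⁻¹ = s⁻¹
  u_sq : u * u = 1 ∨ u * u = z
  normR : ∀ h : G, Commute h z → ∀ r ∈ R, h * r * h⁻¹ ∈ R
  normW : ∀ h : G, Commute h z → ∀ w ∈ W, h * w * h⁻¹ ∈ W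
  decomp : ∀ h : G, Commute h z → ∃ r ∈ R, ∃ w ∈ W, ∃ i : ℕ, ∃ j : ℕ,
    h = r * w * s ^ i * u ^ j
  sylow : ∃ P : Sylow 2 G, (P : Subgroup G) = R ⊔ Subgroup.zpowers u

namespace S3Cfg

variable {z s u : G} {R W : Subgroup G}

/-- The Sylow subgroup. -/
def S (_h : S3Cfg z s u R W) : Subgroup G := R ⊔ Subgroup.zpowers u

/-- The first parabolic. -/
def M₁ (_h : S3Cfg z s u R W) : Subgroup G := R ⊔ Subgroup.zpowers s ⊔ Subgroup.zpowers u

variable (h : S3Cfg z s u R W)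
include h

theorem ctx : Ctx z s := h.rs.ctx

theorem zR : z ∈ R := h.rs.mem

theorem u_sq_mem : u * u ∈ R := by
  rcases h.u_sq with e | e <;> rw [e]
  · exact one_mem R
  · exact h.zR

theorem uR : ∀ r ∈ R, u * r * u⁻¹ ∈ R := h.normR u h.u_z

theorem sW : ∀ w ∈ W, s * w * s⁻¹ ∈ W := h.normW s h.ctx.comm.symm

theorem u_not_mem : u ∉ R := fun hu => by
  have h1 : u * (s * u⁻¹ * s⁻¹) ∈ R := mul_mem hu (h.rs.act _ (inv_mem hu))
  rw [show u * (s * u⁻¹ * s⁻¹) = (u * s * u⁻¹) * s⁻¹ by group, h.u_inv, ← mul_inv_rev,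
    inv_mem_iff] at h1
  have h2 : s ^ 2 * s ^ 2 ∈ R := by rw [sq]; exact mul_mem h1 h1
  rw [← pow_add, show 2 + 2 = 3 + 1 from rfl, pow_succ, h.ctx.s_cube, one_mul] at h2
  exact h.rs.three (h.ctx.s_ord ▸ Subgroup.orderOf_dvd_natCard R h2)

theorem mem_S {x : G} : x ∈ h.S ↔ x ∈ R ∨ ∃ r ∈ R, x = r * u :=
  mem_sup_two h.uR h.u_sq_mem

theorem R_le_S : R ≤ h.S := le_sup_left

theorem u_mem_S : u ∈ h.S := (le_sup_right (a := R) : Subgroup.zpowers u ≤ h.S) (Subgroup.mem_zpowers u)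

theorem card_S : Nat.card h.S = 2 * Nat.card R := card_sup_two h.uR h.u_sq_mem h.u_not_mem

theorem S_two : IsPGroup 2 h.S := by
  obtain ⟨P, hP⟩ := h.sylow
  show IsPGroup 2 (R ⊔ Subgroup.zpowers u : Subgroup G)
  rw [← hP]
  exact P.2

theorem S_z {x : G} (hx : x ∈ h.S) : Commute x z := by
  rcases h.mem_S.1 hx with hx | ⟨r, hr, rfl⟩
  · exact h.rs.central x hx
  · exact (h.rs.central r hr).mul_left h.u_z

theorem z_mem_S : z ∈ h.S := h.R_le_S h.zR

theorem normal_R_in_S : ∀ x ∈ h.S, ∀ r ∈ R, x * r * x⁻¹ ∈ R :=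
  fun x hx => h.normR x (h.S_z hx)

theorem two_power {x : G} (hx : x ∈ h.S) : ∃ k, x ^ 2 ^ k = 1 := by
  obtain ⟨k, hk⟩ := h.S_two ⟨x, hx⟩
  exact ⟨k, congrArg Subtype.val hk⟩

theorem W_inf {x : G} (hx : x ∈ W) {k : ℕ} (h2 : x ^ 2 ^ k = 1) : x = 1 := by
  have h1 := Nat.dvd_gcd (orderOf_dvd_of_pow_eq_one h2) (Subgroup.orderOf_dvd_natCard W hx)
  rwa [Nat.coprime_iff_gcd_eq_one.1 ((Nat.coprime_two_left.2 h.W_odd).pow_left k), Nat.dvd_one,
    orderOf_eq_one_iff] at h1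

theorem s_u : u * s = s * s * u := by
  have := mul_inv_eq_iff_eq_mul.1 h.u_inv
  rw [this]
  congr 1
  refine inv_eq_of_mul_eq_one_right ?_
  have := h.ctx.s_cube
  rwa [pow_succ, pow_two, mul_assoc] at this

/-- The 2-elements of `C(z)`. -/
theorem two_cases {x : G} (hx : Commute x z) {k : ℕ} (h2 : x ^ 2 ^ k = 1) :
    x ∈ R ∨ ∃ r ∈ R, ∃ w ∈ W, ∃ i : ℕ, x = r * w * s ^ i * u := by
  obtain ⟨r, hr, w, hw, i, j, rfl⟩ := h.decomp x hx
  rcases Nat.even_or_odd' j with ⟨j', rfl | rfl⟩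
  · -- an element of `R W ⟨s⟩`
    left
    set M : Subgroup G := R ⊔ W with hM
    have hRW : W ≤ Subgroup.normalizer (R : Set G) := fun v hv =>
      Subgroup.mem_normalizer_iff.2 fun a => ⟨h.normR v (h.W_z v hv) a, fun ha => by
        simpa [mul_assoc] using h.normR v⁻¹ (h.W_z v hv).inv_left _ ha⟩
    have memM : ∀ {v : G}, v ∈ M ↔ ∃ a ∈ R, ∃ b ∈ W, v = a * b := fun {v} => by
      rw [← SetLike.mem_coe, hM, Subgroup.coe_mul_of_right_le_normalizer_left R W hRW, Set.mem_mul]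
      exact ⟨fun ⟨a, ha, b, hb, e⟩ => ⟨a, ha, b, hb, e.symm⟩,
        fun ⟨a, ha, b, hb, e⟩ => ⟨a, ha, b, hb, e.symm⟩⟩
    have hsM : ∀ v ∈ M, s * v * s⁻¹ ∈ M := fun v hv => by
      obtain ⟨a, ha, b, hb, rfl⟩ := memM.1 hv
      exact memM.2 ⟨_, h.rs.act a ha, _, h.sW b hb, by group⟩
    have hsnM : s ∉ M := fun hs => by
      obtain ⟨a, ha, b, hb, e⟩ := memM.1 hs
      have hc := h.W_comm a ha b hb
      have h1 : orderOf s ∣ Nat.card R * Nat.card W := by
        rw [e]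
        refine hc.orderOf_mul_dvd_lcm.trans (Nat.lcm_dvd ?_ ?_)
        · exact dvd_mul_of_dvd_left (Subgroup.orderOf_dvd_natCard R ha) _
        · exact dvd_mul_of_dvd_right (Subgroup.orderOf_dvd_natCard W hb) _
      rw [h.ctx.s_ord] at h1
      exact (Nat.prime_three.dvd_mul.1 h1).elim h.rs.three h.W_three
    have huu : u ^ (2 * j') ∈ R := by rw [pow_mul, sq]; exact pow_mem h.u_sq_mem j'
    set m := r * w * (s ^ i * u ^ (2 * j') * (s ^ i)⁻¹) with hm
    have hmM : m ∈ M := mul_mem (memM.2 ⟨r, hr, w, hw, rfl⟩)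
      (memM.2 ⟨_, h.normR (s ^ i) (h.ctx.comm.symm.pow_left i) _ huu, 1, one_mem _, (mul_one _).symm⟩)
    have hx' : r * w * s ^ i * u ^ (2 * j') = m * s ^ i := by rw [hm]; group
    have h3' : s ^ 3 ∈ M := by rw [h.ctx.s_cube]; exact one_mem _
    haveI : (M.subgroupOf (M ⊔ Subgroup.zpowers s)).Normal :=
      ⟨fun a ha b => by
        rw [Subgroup.mem_subgroupOf] at ha ⊢
        obtain ⟨n, hn, p, hp⟩ := (mem_sup_zpowers hsM).1 b.2
        have hpn : ∀ p : ℕ, ∀ v ∈ M, s ^ p * v * (s ^ p)⁻¹ ∈ M := fun p => by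
          induction p with
          | zero => intro v hv; simpa using hv
          | succ p ih =>
            intro v hv
            have := hsM _ (ih v hv)
            rwa [pow_succ', mul_inv_rev, show s * s ^ p * v * ((s ^ p)⁻¹ * s⁻¹) =
              s * (s ^ p * v * (s ^ p)⁻¹) * s⁻¹ by group]
        show (b : G) * a * (b : G)⁻¹ ∈ M
        rw [hp, mul_inv_rev, show n * s ^ p * (a : G) * ((s ^ p)⁻¹ * n⁻¹) =
          n * (s ^ p * a * (s ^ p)⁻¹) * n⁻¹ by group]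
        exact mul_mem (mul_mem hn (hpn p _ ha)) (inv_mem hn)⟩
    have hidx : M.relIndex (M ⊔ Subgroup.zpowers s) = 3 := by
      have h1 := (M.subgroupOf (M ⊔ Subgroup.zpowers s)).card_mul_index
      rw [Nat.card_congr (Subgroup.subgroupOfEquivOfLe le_sup_left).toEquiv,
        card_sup_three hsM h3' hsnM, mul_comm 3] at h1
      exact mul_left_cancel₀ Nat.card_pos.ne' h1
    have hxm : r * w * s ^ i * u ^ (2 * j') ∈ M ⊔ Subgroup.zpowers s :=
      hx' ▸ mul_mem (le_sup_left (b := Subgroup.zpowers s) hmM)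
        ((le_sup_right (a := M)) (Subgroup.npow_mem_zpowers s i))
    have hxM : r * w * s ^ i * u ^ (2 * j') ∈ M := by
      set Q := (M ⊔ Subgroup.zpowers s : Subgroup G) ⧸ M.subgroupOf (M ⊔ Subgroup.zpowers s)
      have h1 : orderOf (QuotientGroup.mk ⟨_, hxm⟩ : Q) ∣ 2 ^ k :=
        orderOf_dvd_of_pow_eq_one (by
          rw [← QuotientGroup.mk_pow]
          refine (QuotientGroup.eq_one_iff (N := M.subgroupOf (M ⊔ Subgroup.zpowers s)) _).2 ?_
          rw [Subgroup.mem_subgroupOf, Subgroup.coe_pow]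
          show (r * w * s ^ i * u ^ (2 * j')) ^ 2 ^ k ∈ M
          rw [h2]; exact one_mem _)
      have h3 : orderOf (QuotientGroup.mk ⟨_, hxm⟩ : Q) ∣ 3 := hidx ▸ orderOf_dvd_natCard _
      have h4 := Nat.dvd_gcd h1 h3
      rw [Nat.coprime_iff_gcd_eq_one.1 ((by norm_num : Nat.Coprime 2 3).pow_left k), Nat.dvd_one,
        orderOf_eq_one_iff] at h4
      exact (QuotientGroup.eq_one_iff (N := M.subgroupOf (M ⊔ Subgroup.zpowers s)) ⟨_, hxm⟩).1 h4
    obtain ⟨a, ha, b, hb, e⟩ := memM.1 hxM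
    rw [e] at h2 ⊢
    have hc := h.W_comm a ha b hb
    rw [hc.mul_pow] at h2
    have hbk : b ^ 2 ^ k ∈ R := by rw [eq_inv_of_mul_eq_one_right h2]; exact inv_mem (pow_mem ha _)
    obtain ⟨l, hl⟩ := h.rs.two ⟨_, hbk⟩
    have hl' : (b ^ 2 ^ k) ^ 2 ^ l = 1 := congrArg Subtype.val hl
    rw [← pow_mul, ← pow_add] at hl'
    rw [h.W_inf hb hl', mul_one]
    exact ha
  · right
    have huu : u ^ (2 * j') ∈ R := by rw [pow_mul, sq]; exact pow_mem h.u_sq_mem j'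
    have hc : Commute (w * s ^ i) z := (h.W_z w hw).mul_left (h.ctx.comm.symm.pow_left i)
    refine ⟨r * ((w * s ^ i) * u ^ (2 * j') * (w * s ^ i)⁻¹), mul_mem hr (h.normR _ hc _ huu),
      w, hw, i, ?_⟩
    rw [pow_succ]; group

/-- Conjugation on `R / ⟨z⟩` composed with `s` is again fixed-point-free. -/
theorem fixed_twist {r0 j : G} (hr0 : r0 ∈ R) (hj : j ∈ R)
    (hfix : r0 * (s * j * s⁻¹) * r0⁻¹ = j ∨ r0 * (s * j * s⁻¹) * r0⁻¹ = j * z) :
    j = 1 ∨ j = z := by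
  classical
  have hzz : ∀ ζ : G, ζ ∈ Subgroup.zpowers z → (ζ = 1 ∨ ζ = z) := fun ζ hζ =>
    h.ctx.mem_zpowers_z_iff.1 hζ
  haveI : ((Subgroup.zpowers z).subgroupOf R).Normal := ⟨fun a ha b => by
    rw [Subgroup.mem_subgroupOf] at ha ⊢
    exact h.rs.fpf.normal b b.2 a ha⟩
  let F : R ⧸ (Subgroup.zpowers z).subgroupOf R → R ⧸ (Subgroup.zpowers z).subgroupOf R :=
    Quotient.lift (fun n : R =>
      (QuotientGroup.mk (⟨(n : G) * (s * (n : G)⁻¹ * s⁻¹),
        mul_mem n.2 (h.rs.act _ (inv_mem n.2))⟩ : R) : R ⧸ (Subgroup.zpowers z).subgroupOf R))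
      (fun n m e => by
        rw [QuotientGroup.eq, Subgroup.mem_subgroupOf]
        have e'' : n⁻¹ * m ∈ (Subgroup.zpowers z).subgroupOf R := QuotientGroup.leftRel_apply.1 e
        have e' : ((n : G))⁻¹ * m ∈ Subgroup.zpowers z := Subgroup.mem_subgroupOf.1 e''
        obtain ⟨ζ, hζ, em⟩ : ∃ ζ : G, (ζ = 1 ∨ ζ = z) ∧ (m : G) = n * ζ :=
          ⟨_, hzz _ e', (mul_inv_cancel_left _ _).symm⟩
        show ((n : G) * (s * (n : G)⁻¹ * s⁻¹))⁻¹ * ((m : G) * (s * (m : G)⁻¹ * s⁻¹)) ∈ _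
        have hsζ : s * ζ⁻¹ * s⁻¹ = ζ⁻¹ := by
          rcases hζ with rfl | rfl
          · group
          · rw [h.ctx.z_inv, h.rs.s_z]
        rw [em, mul_inv_rev (n : G) ζ, show s * (ζ⁻¹ * (n : G)⁻¹) * s⁻¹ =
          (s * ζ⁻¹ * s⁻¹) * (s * (n : G)⁻¹ * s⁻¹) by group, hsζ,
          show (n : G) * ζ * (ζ⁻¹ * (s * (n : G)⁻¹ * s⁻¹)) = (n : G) * (s * (n : G)⁻¹ * s⁻¹) by
            group, inv_mul_cancel]
        exact one_mem _)
  have hF : Function.Injective F := by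
    intro p q hpq
    induction p using QuotientGroup.induction_on with
    | _ n =>
      induction q using QuotientGroup.induction_on with
      | _ m =>
        have e := Subgroup.mem_subgroupOf.1 (QuotientGroup.eq.1 hpq)
        have e' : ((n : G) * (s * (n : G)⁻¹ * s⁻¹))⁻¹ * ((m : G) * (s * (m : G)⁻¹ * s⁻¹)) ∈
            Subgroup.zpowers z := e
        rw [QuotientGroup.eq, Subgroup.mem_subgroupOf]
        show (n : G)⁻¹ * m ∈ Subgroup.zpowers z
        refine h.rs.fpf.mem_of_fixed_mod (mul_mem (inv_mem n.2) m.2) ?_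
        -- conjugate by `s n⁻¹ s⁻¹`
        have h1 := h.rs.fpf.normal _ (h.rs.act _ (inv_mem n.2)) _ e'
        have h2 := inv_mem h1
        have h3 := h.rs.fpf.normal _ (mul_mem (inv_mem m.2) n.2) _ h2
        have h3' : ((n : G)⁻¹ * m)⁻¹ * (s * ((n : G)⁻¹ * m) * s⁻¹) ∈ Subgroup.zpowers z := by
          convert h3 using 1
          group
        exact h3'
  obtain ⟨q, hq⟩ := Finite.surjective_of_injective hF (QuotientGroup.mk ⟨r0, hr0⟩)
  induction q using QuotientGroup.induction_on with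
  | _ n =>
    have e := Subgroup.mem_subgroupOf.1 (QuotientGroup.eq.1 hq)
    obtain ⟨ζ, hζ, e'⟩ : ∃ ζ : G, (ζ = 1 ∨ ζ = z) ∧ r0 = (n : G) * (s * (n : G)⁻¹ * s⁻¹) * ζ := by
      refine ⟨((n : G) * (s * (n : G)⁻¹ * s⁻¹))⁻¹ * r0, hzz _ e, ?_⟩
      rw [mul_inv_cancel_left]
    set j' := (n : G)⁻¹ * j * n with hj'
    have hj'R : j' ∈ R := mul_mem (mul_mem (inv_mem n.2) hj) n.2
    have key : s * j' * s⁻¹ = j' ∨ s * j' * s⁻¹ = j' * z := by
      have hsj : ζ * (s * j * s⁻¹) * ζ⁻¹ = s * j * s⁻¹ := by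
        rw [(h.rs.z_comm hζ (h.rs.act j hj)).eq, mul_inv_cancel_right]
      have e1 : r0 * (s * j * s⁻¹) * r0⁻¹ = (n : G) * (s * j' * s⁻¹) * (n : G)⁻¹ := by
        rw [e', mul_inv_rev]
        calc (n : G) * (s * (n : G)⁻¹ * s⁻¹) * ζ * (s * j * s⁻¹) *
              (ζ⁻¹ * ((n : G) * (s * (n : G)⁻¹ * s⁻¹))⁻¹)
            = (n : G) * (s * (n : G)⁻¹ * s⁻¹) * (ζ * (s * j * s⁻¹) * ζ⁻¹) *
              ((n : G) * (s * (n : G)⁻¹ * s⁻¹))⁻¹ := by group
          _ = _ := by rw [hsj, hj']; group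
      rw [e1] at hfix
      rcases hfix with e2 | e2
      · left
        have e3 := congrArg (fun v => (n : G)⁻¹ * v * n) e2
        simpa [hj', mul_assoc] using e3
      · right
        have e3 : s * j' * s⁻¹ = (n : G)⁻¹ * (j * z) * n := by rw [← e2]; group
        rw [e3, hj', mul_assoc _ (j * z), mul_assoc j z, ← (h.rs.central _ n.2).eq]
        group
    have hres := h.rs.mem_of_fixed_coset hj'R key
    have hjn : j = (n : G) * j' * (n : G)⁻¹ := by rw [hj']; group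
    rcases hres with e3 | e3 <;> rw [hjn, e3]
    · left; group
    · right; rw [(h.rs.central _ n.2).eq, mul_inv_cancel_right]

/-- The element `x⁻¹ (s x s⁻¹)` for `x` outside. -/
theorem shift {r w : G} (hr : r ∈ R) (hw : w ∈ W) (i : ℕ) :
    ∃ r' ∈ R, ∃ w' ∈ W,
      (r * w * s ^ i * u)⁻¹ * (s * (r * w * s ^ i * u) * s⁻¹) = r' * w' * s := by
  obtain ⟨m, rfl⟩ : ∃ m, m = i := ⟨i, rfl⟩
  set g := (s ^ m * u)⁻¹
  have hg : Commute g z := ((h.ctx.comm.symm.pow_left m).mul_left h.u_z).inv_left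
  have hrw : Commute r w := h.W_comm r hr w hw
  have hsr := h.rs.act r hr
  have hsw := h.sW w hw
  refine ⟨g * (r⁻¹ * (s * r * s⁻¹)) * g⁻¹, h.normR g hg _ (mul_mem (inv_mem hr) hsr),
    g * (w⁻¹ * (s * w * s⁻¹)) * g⁻¹, h.normW g hg _ (mul_mem (inv_mem hw) hsw), ?_⟩
  have e1 : r⁻¹ * (s * r * s⁻¹) * (w⁻¹ * (s * w * s⁻¹)) = (r * w)⁻¹ * (s * (r * w) * s⁻¹) := by
    have hc2 : Commute (s * r * s⁻¹) w := h.W_comm _ hsr w hw
    rw [mul_inv_rev, ← mul_assoc, mul_assoc r⁻¹, hc2.inv_right.eq, ← mul_assoc r⁻¹,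
      (hrw.inv_left.inv_right).eq, mul_assoc, mul_assoc, show s * (r * w) * s⁻¹ =
        s * r * s⁻¹ * (s * w * s⁻¹) by group]
    simp only [mul_assoc]
  have e2 : u⁻¹ * (s * (u * s⁻¹)) = s := by
    have h1 : u * s⁻¹ * u⁻¹ = s := by
      have := congrArg (·⁻¹) h.u_inv
      simpa [mul_assoc] using this
    have h2 : u⁻¹ * s * u = s⁻¹ := by
      have h3 := congrArg (fun v => (u⁻¹ * v * u)⁻¹) h.u_inv
      simpa [mul_assoc] using h3.symm
    calc u⁻¹ * (s * (u * s⁻¹)) = (u⁻¹ * s * u) * s⁻¹ := by group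
      _ = (s ^ 3)⁻¹ * s := by rw [h2]; simp only [pow_succ, pow_zero, one_mul]; group
      _ = s := by rw [h.ctx.s_cube, inv_one, one_mul]
  calc (r * w * s ^ m * u)⁻¹ * (s * (r * w * s ^ m * u) * s⁻¹)
      = g * ((r * w)⁻¹ * (s * (r * w) * s⁻¹)) * g⁻¹ * (u⁻¹ * (s * (u * s⁻¹))) := by
        simp only [g]; group
    _ = g * ((r * w)⁻¹ * (s * (r * w) * s⁻¹)) * g⁻¹ * s := by rw [e2]
    _ = g * (r⁻¹ * (s * r * s⁻¹) * (w⁻¹ * (s * w * s⁻¹))) * g⁻¹ * s := by rw [e1]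
    _ = _ := by group

/-- A 2-element outside `R` centralising a subgroup of index two of `R` modulo `⟨z⟩`. -/
theorem card_le_eight {x : G} (hx : Commute x z) {k : ℕ} (h2 : x ^ 2 ^ k = 1) (hxR : x ∉ R)
    {I : Subgroup G} (hIR : I ≤ R) (hI : ∀ p ∈ R, ∀ q ∈ R, p ∉ I → q ∉ I → p⁻¹ * q ∈ I)
    (hIx : ∀ v ∈ I, ⁅x, v⁆ = 1 ∨ ⁅x, v⁆ = z) : Nat.card R ≤ 8 := by
  classical
  obtain ⟨r, hr, w, hw, i, rfl⟩ := (h.two_cases hx h2).resolve_left hxR
  obtain ⟨r', hr', w', hw', e⟩ := h.shift hr hw i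
  set x := r * w * s ^ i * u
  set Z := ((Subgroup.zpowers z : Subgroup G) : Set G)
  -- `J = I ∩ I^s` lies in `⟨z⟩`
  have hJ : ∀ v ∈ I, s⁻¹ * v * s ∈ I → v ∈ Z := by
    intro v hv hv'
    refine h.ctx.mem_zpowers_z_iff.2 (h.fixed_twist hr' (hIR hv) ?_)
    obtain ⟨ζ₁, hζ₁, a1⟩ : ∃ ζ, (ζ = 1 ∨ ζ = z) ∧ x * v * x⁻¹ = ζ * v :=
      ⟨_, hIx v hv, by rw [commutatorElement_def]; group⟩
    obtain ⟨ζ₂, hζ₂, a2⟩ : ∃ ζ, (ζ = 1 ∨ ζ = z) ∧
        x * (s⁻¹ * v * s) * x⁻¹ = ζ * (s⁻¹ * v * s) :=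
      ⟨_, hIx _ hv', by rw [commutatorElement_def]; group⟩
    have hsζ : s * ζ₂ * s⁻¹ = ζ₂ := by
      rcases hζ₂ with rfl | rfl
      · group
      · exact h.rs.s_z
    have a3 : (s * x * s⁻¹) * v * (s * x * s⁻¹)⁻¹ = ζ₂ * v := by
      calc (s * x * s⁻¹) * v * (s * x * s⁻¹)⁻¹ = s * (x * (s⁻¹ * v * s) * x⁻¹) * s⁻¹ := by group
        _ = (s * ζ₂ * s⁻¹) * v := by rw [a2]; group
        _ = ζ₂ * v := by rw [hsζ]
    have hxζ : ∀ ζ, (ζ = 1 ∨ ζ = z) → x⁻¹ * ζ * x = ζ := by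
      rintro ζ (rfl | rfl)
      · group
      · rw [hx.inv_left.eq, mul_assoc, inv_mul_cancel, mul_one]
    have a4 : x⁻¹ * v * x = ζ₁ * v := by
      calc x⁻¹ * v * x = x⁻¹ * (ζ₁⁻¹ * (x * v * x⁻¹)) * x := by rw [a1, inv_mul_cancel_left]
        _ = (x⁻¹ * ζ₁⁻¹ * x) * v := by group
        _ = ζ₁ * v := by
            rcases hζ₁ with e' | e' <;> rw [e']
            · group
            · rw [h.ctx.z_inv, hxζ z (Or.inr rfl)]
    have a5 : (r' * w' * s) * v * (r' * w' * s)⁻¹ = ζ₂ * (ζ₁ * v) := by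
      rw [← e]
      calc x⁻¹ * (s * x * s⁻¹) * v * (x⁻¹ * (s * x * s⁻¹))⁻¹
          = x⁻¹ * ((s * x * s⁻¹) * v * (s * x * s⁻¹)⁻¹) * x := by group
        _ = (x⁻¹ * ζ₂ * x) * (x⁻¹ * v * x) := by rw [a3]; group
        _ = ζ₂ * (ζ₁ * v) := by rw [hxζ ζ₂ hζ₂, a4]
    have hw'c : w' * (s * v * s⁻¹) * w'⁻¹ = s * v * s⁻¹ := by
      rw [← (h.W_comm _ (h.rs.act v (hIR hv)) w' hw').eq, mul_inv_cancel_right]
    have a6 : r' * (s * v * s⁻¹) * r'⁻¹ = ζ₂ * ζ₁ * v := by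
      rw [mul_assoc ζ₂, ← a5]
      calc r' * (s * v * s⁻¹) * r'⁻¹ = r' * (w' * (s * v * s⁻¹) * w'⁻¹) * r'⁻¹ := by rw [hw'c]
        _ = _ := by group
    rw [a6]
    rcases h.rs.z_mul hζ₂ hζ₁ with e' | e' <;> rw [e']
    · exact Or.inl (one_mul v)
    · exact Or.inr (h.rs.central v (hIR hv)).eq.symm
  -- covering `R`
  by_cases hall : R ≤ I
  · have : (R : Set G) ⊆ Z := fun v hv => hJ v (hall hv) (hall (by
      have := h.normR s⁻¹ h.ctx.comm.symm.inv_left v hv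
      simpa using this))
    have h1 := Set.ncard_le_ncard this (Set.toFinite _)
    rw [← Nat.card_coe_set_eq, ← Nat.card_coe_set_eq] at h1
    simp only [Z, SetLike.coe_sort_coe] at h1
    rw [h.ctx.card_zpowers_z] at h1
    omega
  obtain ⟨p, hp, hpI⟩ := Set.not_subset.1 hall
  have hsR : ∀ v ∈ R, s⁻¹ * v * s ∈ R := fun v hv => by
    simpa using h.normR s⁻¹ h.ctx.comm.symm.inv_left v hv
  -- representatives
  obtain ⟨q, hq⟩ : ∃ q : G, ∀ v ∈ I, s⁻¹ * v * s ∈ I ∨ (q⁻¹ * v ∈ I ∧ s⁻¹ * (q⁻¹ * v) * s ∈ I) := by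
    by_cases hall2 : ∀ v ∈ I, s⁻¹ * v * s ∈ I
    · exact ⟨1, fun v hv => Or.inl (hall2 v hv)⟩
    push Not at hall2
    obtain ⟨q, hq1, hq2⟩ := hall2
    refine ⟨q, fun v hv => ?_⟩
    by_cases h' : s⁻¹ * v * s ∈ I
    · exact Or.inl h'
    · refine Or.inr ⟨mul_mem (inv_mem hq1) hv, ?_⟩
      have := hI _ (hsR q (hIR hq1)) _ (hsR v (hIR hv)) hq2 h'
      simpa [mul_assoc] using this
  have hsub : (R : Set G) ⊆ (Z ∪ (q * ·) '' Z) ∪ (p * ·) '' (Z ∪ (q * ·) '' Z) := by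
    have inI : ∀ v ∈ I, v ∈ Z ∪ (q * ·) '' Z := fun v hv => by
      rcases hq v hv with h' | ⟨h1, h2⟩
      · exact Or.inl (hJ v hv h')
      · exact Or.inr ⟨_, hJ _ h1 h2, mul_inv_cancel_left q v⟩
    intro v hv
    by_cases hvI : v ∈ I
    · exact Or.inl (inI v hvI)
    · exact Or.inr ⟨p⁻¹ * v, inI _ (hI p hp v hv hpI hvI), mul_inv_cancel_left p v⟩
  have hZc : Z.ncard = 2 := by
    rw [← Nat.card_coe_set_eq]; exact h.ctx.card_zpowers_z
  have h1 := (Set.ncard_le_ncard hsub (Set.toFinite _)).trans (Set.ncard_union_le _ _)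
  have h2 : ((q * ·) '' Z).ncard ≤ 2 := (Set.ncard_image_le (Set.toFinite _)).trans hZc.le
  have h3 := Set.ncard_union_le Z ((q * ·) '' Z)
  have h4 : ((p * ·) '' (Z ∪ (q * ·) '' Z)).ncard ≤ (Z ∪ (q * ·) '' Z).ncard :=
    Set.ncard_image_le (Set.toFinite _)
  rw [← Nat.card_coe_set_eq] at h1
  simp only [SetLike.coe_sort_coe] at h1
  omega

/-- A central element of `S` lies in `R` unless `R` is small. -/
theorem center_mem_R (h8 : 8 < Nat.card R) {w : G} (hw : w ∈ h.S) (hc : ∀ x ∈ h.S, Commute w x) :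
    w ∈ R := by
  by_contra hwR
  obtain ⟨k, hk⟩ := h.two_power hw
  have := h.card_le_eight (h.S_z hw) hk hwR le_rfl (fun p hp q _ hp' => absurd hp hp')
    fun v hv => Or.inl (commutatorElement_eq_one_iff_commute.2 (hc v (h.R_le_S hv)))
  omega

theorem card_R_mod : Nat.card R % 3 = 2 := by
  classical
  haveI : Fact (Nat.Prime 3) := ⟨Nat.prime_three⟩
  haveI : Fintype R := Fintype.ofFinite _
  let π : Equiv.Perm R :=
    ⟨fun t => ⟨s * t * s⁻¹, h.rs.act t t.2⟩,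
      fun t => ⟨s * (s * t * s⁻¹) * s⁻¹, h.rs.act _ (h.rs.act t t.2)⟩,
      fun t => Subtype.ext (h.rs.s_cubed t), fun t => Subtype.ext (h.rs.s_cubed t)⟩
  have hπ : π ^ 3 ^ 1 = 1 := by
    refine Equiv.ext fun t => Subtype.ext ?_
    simpa [pow_succ, π, mul_assoc] using h.rs.s_cubed (t : G)
  have hfix : π.supportᶜ = {1, ⟨z, h.zR⟩} := by
    ext t
    simp only [Finset.mem_compl, Equiv.Perm.notMem_support, Finset.mem_insert, Finset.mem_singleton]
    refine ⟨fun ht => ?_, ?_⟩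
    · rcases h.rs.fixed t.2 ((mul_inv_eq_iff_eq_mul.1 (congrArg Subtype.val ht)).symm) with e | e
      · exact Or.inl (Subtype.ext e)
      · exact Or.inr (Subtype.ext e)
    · rintro (rfl | rfl)
      · exact Subtype.ext (show s * (1 : G) * s⁻¹ = 1 by group)
      · exact Subtype.ext h.rs.s_z
  have h1 := Equiv.Perm.card_compl_support_modEq hπ
  rw [hfix, Finset.card_insert_of_notMem (by
    simp only [Finset.mem_singleton]
    exact fun e => h.ctx.z_ne (congrArg Subtype.val e).symm), Finset.card_singleton] at h1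
  rw [Nat.card_eq_fintype_card]
  exact h1.symm

/-- The first parabolic. -/
theorem s3sub : S3Sub h.M₁ h.S R := by
  have hs3 : s ^ 3 ∈ R := by rw [h.ctx.s_cube]; exact one_mem R
  have hsR : s ∉ R := fun hs => h.rs.three (h.ctx.s_ord ▸ Subgroup.orderOf_dvd_natCard R hs)
  set K := R ⊔ Subgroup.zpowers s with hK
  have hKu : ∀ k ∈ K, u * k * u⁻¹ ∈ K := by
    intro k hk
    obtain ⟨n, hn, j, rfl⟩ := (mem_sup_zpowers h.rs.act).1 hk
    rw [show u * (n * s ^ j) * u⁻¹ = (u * n * u⁻¹) * (u * s * u⁻¹) ^ j by rw [conj_pow]; group,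
      h.u_inv]
    exact mul_mem (le_sup_left (b := Subgroup.zpowers s) (h.uR n hn))
      (pow_mem (inv_mem ((le_sup_right (a := R)) (Subgroup.mem_zpowers s))) j)
  have huu : u * u ∈ K := le_sup_left (b := Subgroup.zpowers s) h.u_sq_mem
  have huK : u ∉ K := fun hu => by
    rcases (mem_sup_three h.rs.act hs3).1 hu with e | ⟨n, hn, e⟩ | ⟨n, hn, e⟩
    · exact h.u_not_mem e
    all_goals
      obtain ⟨k, hk⟩ := h.two_power h.u_mem_S
      have hnc : Commute n z := h.rs.central n hn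
      have hQ : ∀ j : ℕ, ∃ m ∈ R, u ^ j = m * (n⁻¹ * u) ^ j := by
        intro j
        induction j with
        | zero => exact ⟨1, one_mem _, by simp⟩
        | succ j ih =>
          obtain ⟨m, hm, em⟩ := ih
          refine ⟨m * ((n⁻¹ * u) ^ j * n * ((n⁻¹ * u) ^ j)⁻¹), mul_mem hm
            (h.normR _ ((hnc.inv_left.mul_left h.u_z).pow_left j) _ hn), ?_⟩
          rw [pow_succ, em, pow_succ]
          group
      obtain ⟨m, hm, em⟩ := hQ (2 ^ k)
      rw [hk, show n⁻¹ * u = _ by rw [e, inv_mul_cancel_left]] at em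
      have h3 : (s : G) ^ (2 ^ k) ∈ R ∨ (s * s) ^ (2 ^ k) ∈ R := by
        first
          | exact Or.inl (by rw [eq_inv_of_mul_eq_one_right em.symm]; exact inv_mem hm)
          | exact Or.inr (by rw [eq_inv_of_mul_eq_one_right em.symm]; exact inv_mem hm)
      have hco : Nat.Coprime 3 (2 ^ k) := (by norm_num : Nat.Coprime 3 2).pow_right k
      have key : ∀ g : G, orderOf g = 3 → g ^ 2 ^ k ∈ R → False := fun g hg hgm => h.rs.three (by
        have := Subgroup.orderOf_dvd_natCard R hgm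
        rwa [Nat.Coprime.orderOf_pow (by rw [hg]; exact hco), hg] at this)
      rcases h3 with h3 | h3
      · exact key s h.ctx.s_ord h3
      · exact key (s * s) (by
          rw [← sq, Nat.Coprime.orderOf_pow (by rw [h.ctx.s_ord]; norm_num), h.ctx.s_ord]) h3
  refine { le₁ := h.R_le_S, le₂ := ?_, two := h.S_two, normal := ?_, cardS := h.card_S,
           cardM := ?_, gen := ?_ }
  · exact sup_le (le_sup_left.trans le_sup_left) le_sup_right
  · intro m hm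
    have hz : h.M₁ ≤ Subgroup.centralizer {z} := by
      refine sup_le (sup_le (fun r hr => ?_) (Subgroup.zpowers_le.2 ?_)) (Subgroup.zpowers_le.2 ?_)
      · exact Subgroup.mem_centralizer_singleton_iff.2 (h.rs.central r hr).eq
      · exact Subgroup.mem_centralizer_singleton_iff.2 h.ctx.comm.symm.eq
      · exact Subgroup.mem_centralizer_singleton_iff.2 h.u_z.eq
    exact h.normR m (Subgroup.mem_centralizer_singleton_iff.1 (hz hm))
  · show Nat.card ↥(K ⊔ Subgroup.zpowers u) = _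
    rw [card_sup_two hKu huu huK, card_sup_three h.rs.act hs3 hsR]
    ring
  · exact ⟨s, (le_sup_left (b := Subgroup.zpowers u)) ((le_sup_right (a := R)) (Subgroup.mem_zpowers s)),
      u, h.u_mem_S, hsR, hs3, h.u_not_mem, by rw [h.u_inv, inv_mul_cancel]; exact one_mem R⟩

theorem M₁_z {m : G} (hm : m ∈ h.M₁) : Commute m z := by
  have hz : h.M₁ ≤ Subgroup.centralizer {z} := by
    refine sup_le (sup_le (fun r hr => ?_) (Subgroup.zpowers_le.2 ?_)) (Subgroup.zpowers_le.2 ?_)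
    · exact Subgroup.mem_centralizer_singleton_iff.2 (h.rs.central r hr).eq
    · exact Subgroup.mem_centralizer_singleton_iff.2 h.ctx.comm.symm.eq
    · exact Subgroup.mem_centralizer_singleton_iff.2 h.u_z.eq
  exact Subgroup.mem_centralizer_singleton_iff.1 (hz hm)

theorem s_mem_M₁ : s ∈ h.M₁ :=
  (le_sup_left (b := Subgroup.zpowers u)) ((le_sup_right (a := R)) (Subgroup.mem_zpowers s))

/-- The conjugate configuration. -/
theorem conj (g : G) : S3Cfg (g * z * g⁻¹) (g * s * g⁻¹) (g * u * g⁻¹)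
    (R.map (MulAut.conj g).toMonoidHom) (W.map (MulAut.conj g).toMonoidHom) where
  hconj := h.hconj
  rs :=
    { ctx := h.ctx.conj g
      two := h.rs.two.map _
      mem := ⟨z, h.zR, rfl⟩
      central := by
        rintro _ ⟨r, hr, rfl⟩
        exact (h.rs.central r hr).map (MulAut.conj g).toMonoidHom
      act := by
        rintro _ ⟨r, hr, rfl⟩
        exact ⟨s * r * s⁻¹, h.rs.act r hr, by simp [mul_assoc]⟩ }
  W_odd := by rw [Subgroup.card_map_of_injective (f := (MulAut.conj g).toMonoidHom) (MulAut.conj g).injective]; exact h.W_odd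
  W_three := by rw [Subgroup.card_map_of_injective (f := (MulAut.conj g).toMonoidHom) (MulAut.conj g).injective]; exact h.W_three
  W_comm := by
    rintro _ ⟨r, hr, rfl⟩ _ ⟨w, hw, rfl⟩
    exact (h.W_comm r hr w hw).map (MulAut.conj g).toMonoidHom
  W_z := by
    rintro _ ⟨w, hw, rfl⟩
    exact (h.W_z w hw).map (MulAut.conj g).toMonoidHom
  u_z := h.u_z.map (MulAut.conj g).toMonoidHom
  u_inv := by
    rw [show g * u * g⁻¹ * (g * s * g⁻¹) * (g * u * g⁻¹)⁻¹ = g * (u * s * u⁻¹) * g⁻¹ by group,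
      h.u_inv]
    group
  u_sq := by
    rw [show g * u * g⁻¹ * (g * u * g⁻¹) = g * (u * u) * g⁻¹ by group]
    rcases h.u_sq with e | e <;> rw [e]
    · exact Or.inl (by group)
    · exact Or.inr rfl
  normR := by
    rintro x hx _ ⟨r, hr, rfl⟩
    have hc : Commute (g⁻¹ * x * g) z := by
      simpa [mul_assoc] using hx.map (MulAut.conj g⁻¹).toMonoidHom
    exact ⟨_, h.normR _ hc r hr, by simp [mul_assoc]⟩
  normW := by
    rintro x hx _ ⟨w, hw, rfl⟩
    have hc : Commute (g⁻¹ * x * g) z := by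
      simpa [mul_assoc] using hx.map (MulAut.conj g⁻¹).toMonoidHom
    exact ⟨_, h.normW _ hc w hw, by simp [mul_assoc]⟩
  decomp := by
    intro x hx
    have hc : Commute (g⁻¹ * x * g) z := by
      simpa [mul_assoc] using hx.map (MulAut.conj g⁻¹).toMonoidHom
    obtain ⟨r, hr, w, hw, i, j, e⟩ := h.decomp _ hc
    refine ⟨_, ⟨r, hr, rfl⟩, _, ⟨w, hw, rfl⟩, i, j, ?_⟩
    have e' : x = g * (r * w * s ^ i * u ^ j) * g⁻¹ := by rw [← e]; group
    rw [e', conj_pow, conj_pow]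
    simp [mul_assoc]
  sylow := by
    obtain ⟨P, hP⟩ := h.sylow
    refine ⟨g • P, ?_⟩
    rw [Sylow.coe_subgroup_smul, hP, Subgroup.pointwise_smul_def]
    rw [show (MulDistribMulAction.toMonoidEnd (MulAut G) G (MulAut.conj g)) =
      (MulAut.conj g).toMonoidHom from rfl, Subgroup.map_sup, MonoidHom.map_zpowers]
    rfl

theorem conj_S (g : G) : (h.conj g).S = h.S.map (MulAut.conj g).toMonoidHom := by
  show _ = (R ⊔ Subgroup.zpowers u).map _
  rw [Subgroup.map_sup, MonoidHom.map_zpowers]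
  rfl

theorem conj_M₁ (g : G) : (h.conj g).M₁ = h.M₁.map (MulAut.conj g).toMonoidHom := by
  show _ = (R ⊔ Subgroup.zpowers s ⊔ Subgroup.zpowers u).map _
  rw [Subgroup.map_sup, Subgroup.map_sup, MonoidHom.map_zpowers, MonoidHom.map_zpowers]
  rfl

end S3Cfg

end CfsgLib.SelfCentralSix57
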