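import Cfsg.Agent.SelfCentralSix57.TwoClosed
import Cfsg.Agent.SelfCentralSix57.S3Cfg
import Cfsg.Agent.NilpotentCover.Basic

/-!
# The shape of the centraliser of an involution with a nilpotent normal subgroup of index 3 or 6
-/

set_option autoImplicit false
set_option linter.style.haveILetI false
set_option linter.unusedSectionVars false

namespace CfsgLib.SelfCentralSix57

universe u

variable {G : Type u} [Group G] [Finite G]

/-- The decomposition of the nilpotent part of the centraliser of `z`. -/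
structure NilSplit (z s : G) (M R W : Subgroup G) : Prop where
  rs : TwoR z s R
  R_le : R ≤ M
  W_le : W ≤ M
  W_odd : Odd (Nat.card W)
  W_three : ¬ 3 ∣ Nat.card W
  W_comm : ∀ r ∈ R, ∀ w ∈ W, Commute r w
  mul : ∀ m ∈ M, ∃ r ∈ R, ∃ w ∈ W, m = r * w
  card : Nat.card M = Nat.card R * Nat.card W
  normR : ∀ h : G, Commute h z → ∀ r ∈ R, h * r * h⁻¹ ∈ R
  normW : ∀ h : G, Commute h z → ∀ w ∈ W, h * w * h⁻¹ ∈ W

/-- The configuration with quotient of order three: `C(z)` is `R × W` extended by `s`, with `R`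
elementary of order eight. -/
structure C3Cfg (z s : G) (R W : Subgroup G) : Prop where
  hconj : ∀ x y : G, orderOf x = 2 → orderOf y = 2 → IsConj x y
  rs : TwoR z s R
  card : Nat.card R = 8
  sq : ∀ r ∈ R, r * r = 1
  W_odd : Odd (Nat.card W)
  W_three : ¬ 3 ∣ Nat.card W
  W_comm : ∀ r ∈ R, ∀ w ∈ W, Commute r w
  normR : ∀ h : G, Commute h z → ∀ r ∈ R, h * r * h⁻¹ ∈ R
  normW : ∀ h : G, Commute h z → ∀ w ∈ W, h * w * h⁻¹ ∈ W
  decomp : ∀ h : G, Commute h z → ∃ r ∈ R, ∃ w ∈ W, ∃ i : ℕ, h = r * w * s ^ i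
  sylow : ∃ P : Sylow 2 G, (P : Subgroup G) = R

namespace TwoR

/-- A subgroup of order at most eight with an involution moved by `s` is elementary of order eight. -/
theorem elementary {z s : G} {R : Subgroup G} (h : TwoR z s R) (h8 : Nat.card R ≤ 8) {a : G}
    (haR : a ∈ R) (ha2 : orderOf a = 2) (haz : a ≠ z) :
    Nat.card R = 8 ∧ ∀ r ∈ R, r * r = 1 := by
  classical
  haveI : Fact (Nat.Prime 2) := ⟨Nat.prime_two⟩
  have haa : a * a = 1 := by rw [← sq, ← ha2, pow_orderOf_eq_one]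
  have hsq : ∀ r ∈ R, r * r = 1 := by
    -- the orbit of `a` and `z` generate `R`
    set b := s * a * s⁻¹ with hb
    have hbR : b ∈ R := h.act a haR
    have hab : b ≠ a ∧ b ≠ a * z := by
      constructor
      all_goals
        intro e
        rcases h.mem_of_fixed_coset haR (by first | exact Or.inl e | exact Or.inr e) with e' | e'
        · exact (orderOf_eq_one_iff.not.1 (by rw [ha2]; norm_num)) e'
        · exact haz e'
    have hzz := h.ctx.z_sq
    have hac : Commute a z := h.central a haR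
    have hbz : Commute b z := h.central b hbR
    set c' := s * b * s⁻¹
    have hc'R : c' ∈ R := h.act b hbR
    -- the elements squaring to one
    have hpow : ∀ r ∈ R, ∃ k, r ^ 2 ^ k = 1 := fun r hr => by
      obtain ⟨k, hk⟩ := h.two ⟨r, hr⟩
      exact ⟨k, congrArg Subtype.val hk⟩
    obtain ⟨n, hn'⟩ := IsPGroup.iff_card.1 h.two
    -- `R` is the union of `{1, z}` and three cosets
    have hT : Set.ncard ({1, z, a, a * z, b, b * z, c', c' * z} : Set G) = 8 := by
      have hne1 : a ≠ 1 := orderOf_eq_one_iff.not.1 (by rw [ha2]; norm_num)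
      have hs_inj : ∀ {x y : G}, s * x * s⁻¹ = s * y * s⁻¹ ↔ x = y := fun {x y} =>
        ⟨fun e => mul_left_cancel (mul_right_cancel e), fun e => e ▸ rfl⟩
      have hsz : ∀ x : G, s * (x * z) * s⁻¹ = s * x * s⁻¹ * z := fun x => by
        rw [mul_assoc s, mul_assoc x, h.ctx.comm.inv_right.eq]; group
      have hb1 : b ≠ 1 := fun e => hne1 (conj_eq_one_iff.1 e)
      have hc1 : c' ≠ 1 := fun e => hb1 (conj_eq_one_iff.1 e)
      have hbz' : b ≠ z := fun e => haz (hs_inj.1 (e.trans h.s_z.symm))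
      have hcz' : c' ≠ z := fun e => hbz' (hs_inj.1 (e.trans h.s_z.symm))
      have hcb : c' ≠ b := fun e => hab.1 (hs_inj.1 e)
      have hcbz : c' ≠ b * z := fun e => hab.2 (hs_inj.1 (e.trans (hsz a).symm))
      have hca : c' ≠ a := fun e => by
        refine hab.1 ?_
        have e' : s * c' * s⁻¹ = b := by rw [e]
        rwa [show s * c' * s⁻¹ = a from h.s_cubed a, eq_comm] at e'
      have hcaz : c' ≠ a * z := fun e => by
        refine hab.2 ?_
        have e' : s * c' * s⁻¹ = b * z := by rw [e, hsz]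
        rw [show s * c' * s⁻¹ = a from h.s_cubed a] at e'
        rw [e', mul_assoc, hzz, mul_one]
      have mz : ∀ {x y : G}, x * z = y ↔ x = y * z := fun {x y} =>
        ⟨fun e => by rw [← e, mul_assoc, hzz, mul_one],
          fun e => by rw [e, mul_assoc, hzz, mul_one]⟩
      have mz1 : ∀ {x : G}, x * z = 1 ↔ x = z := fun {x} => by rw [mz, one_mul]
      have nzy : ∀ {x y : G}, x ≠ y → x * z ≠ y * z := fun hxy e => hxy (mul_right_cancel e)
      have q1 : (1 : G) ≠ z := h.ctx.z_ne.symm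
      simp only [Set.ncard_eq_toFinset_card', Set.toFinset_insert, Set.toFinset_singleton]
      rw [Finset.card_insert_of_notMem, Finset.card_insert_of_notMem, Finset.card_insert_of_notMem,
        Finset.card_insert_of_notMem, Finset.card_insert_of_notMem, Finset.card_insert_of_notMem,
        Finset.card_insert_of_notMem, Finset.card_singleton]
      all_goals simp only [Finset.mem_insert, Finset.mem_singleton, not_or]
      · exact fun e => h.ctx.z_ne (left_eq_mul.1 e)
      · exact ⟨fun e => hcbz e.symm, fun e => hcb (mul_right_cancel e).symm⟩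
      · exact ⟨fun e => h.ctx.z_ne (left_eq_mul.1 e), hcb.symm, fun e => hcbz (mz.1 e.symm)⟩
      · exact ⟨fun e => hab.2 e.symm, fun e => hab.1 (mul_right_cancel e).symm,
          fun e => hcaz e.symm, fun e => hca (mul_right_cancel e).symm⟩
      · exact ⟨fun e => h.ctx.z_ne (left_eq_mul.1 e), hab.1.symm,
          fun e => hab.2 (mz.1 e.symm), hca.symm, fun e => hcaz (mz.1 e.symm)⟩
      · exact ⟨haz.symm, fun e => hne1 (right_eq_mul.1 e), hbz'.symm,
          fun e => hb1 (right_eq_mul.1 e), hcz'.symm, fun e => hc1 (right_eq_mul.1 e)⟩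
      · exact ⟨q1, hne1.symm, fun e => haz (mz1.1 e.symm), hb1.symm, fun e => hbz' (mz1.1 e.symm),
          hc1.symm, fun e => hcz' (mz1.1 e.symm)⟩
    have hsub : ({1, z, a, a * z, b, b * z, c', c' * z} : Set G) ⊆ (R : Set G) := by
      intro x hx
      simp only [Set.mem_insert_iff, Set.mem_singleton_iff] at hx
      rcases hx with rfl | rfl | rfl | rfl | rfl | rfl | rfl | rfl
      exacts [one_mem R, h.mem, haR, mul_mem haR h.mem, hbR, mul_mem hbR h.mem, hc'R,
        mul_mem hc'R h.mem]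
    have heq := Set.eq_of_subset_of_ncard_le hsub (by
      rw [hT, ← Nat.card_coe_set_eq, SetLike.coe_sort_coe]; exact h8) (Set.toFinite _)
    intro r hr
    have hr' : r ∈ ({1, z, a, a * z, b, b * z, c', c' * z} : Set G) := heq.symm ▸ hr
    have hbb : b * b = 1 := by rw [hb, show s * a * s⁻¹ * (s * a * s⁻¹) = s * (a * a) * s⁻¹ by group,
      haa, mul_one, mul_inv_cancel]
    have hcc : c' * c' = 1 := by
      rw [show c' * c' = s * (b * b) * s⁻¹ by simp only [c']; group, hbb, mul_one, mul_inv_cancel]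
    have sqz : ∀ x : G, x * x = 1 → Commute x z → x * z * (x * z) = 1 := fun x hx hxz => by
      rw [hxz.symm.mul_mul_mul_comm, hx, hzz, one_mul]
    simp only [Set.mem_insert_iff, Set.mem_singleton_iff] at hr'
    rcases hr' with rfl | rfl | rfl | rfl | rfl | rfl | rfl | rfl
    exacts [one_mul 1, hzz, haa, sqz a haa hac, hbb, sqz b hbb hbz, hcc,
      sqz c' hcc (h.central c' hc'R)]
  have hcard : Nat.card R = 8 := by
    obtain ⟨n, hn'⟩ := IsPGroup.iff_card.1 h.two
    rw [hn'] at h8 ⊢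
    have hn3 : n ≤ 3 := by
      by_contra hlt
      have := Nat.pow_le_pow_right (n := 2) (by norm_num) (show 4 ≤ n by omega)
      omega
    interval_cases n
    · exfalso
      have : Nat.card R < 2 := by rw [hn']; norm_num
      have h2 : Nat.card (Subgroup.zpowers z) ≤ Nat.card R := Subgroup.card_le_of_le h.zle
      rw [h.ctx.card_zpowers_z] at h2
      omega
    · exfalso
      have e := Subgroup.eq_of_le_of_card_ge h.zle (by rw [h.ctx.card_zpowers_z, hn']; norm_num)
      rcases h.ctx.mem_zpowers_z_iff.1 (e ▸ haR) with e' | e'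
      · rw [e', orderOf_one] at ha2; omega
      · exact haz e'
    · exfalso
      -- a four-group has no automorphism of order three fixing `z`
      have hbR : s * a * s⁻¹ ∈ R := h.act a haR
      have hne1 : a ≠ 1 := orderOf_eq_one_iff.not.1 (by rw [ha2]; norm_num)
      have hs4 : Set.ncard ({1, z, a, a * z} : Set G) = 4 := by
        simp only [Set.ncard_eq_toFinset_card', Set.toFinset_insert, Set.toFinset_singleton]
        rw [Finset.card_insert_of_notMem, Finset.card_insert_of_notMem,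
          Finset.card_insert_of_notMem, Finset.card_singleton]
        all_goals simp only [Finset.mem_insert, Finset.mem_singleton, not_or]
        · exact fun e => h.ctx.z_ne (left_eq_mul.1 e)
        · exact ⟨haz.symm, fun e => hne1 (right_eq_mul.1 e)⟩
        · exact ⟨h.ctx.z_ne.symm, hne1.symm, fun e => haz (by
            rw [← h.ctx.z_inv]; exact eq_inv_of_mul_eq_one_left e.symm)⟩
      have hsub : ({1, z, a, a * z} : Set G) ⊆ (R : Set G) := by
        intro x hx
        simp only [Set.mem_insert_iff, Set.mem_singleton_iff] at hx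
        rcases hx with rfl | rfl | rfl | rfl
        exacts [one_mem R, h.mem, haR, mul_mem haR h.mem]
      have heq := Set.eq_of_subset_of_ncard_le hsub (by
        rw [hs4, ← Nat.card_coe_set_eq, SetLike.coe_sort_coe, hn']; norm_num) (Set.toFinite _)
      have hb' : s * a * s⁻¹ ∈ ({1, z, a, a * z} : Set G) := heq.symm ▸ hbR
      simp only [Set.mem_insert_iff, Set.mem_singleton_iff] at hb'
      have hfix : s * a * s⁻¹ = a ∨ s * a * s⁻¹ = a * z := by
        rcases hb' with e | e | e | e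
        · exact absurd (conj_eq_one_iff.1 e) hne1
        · exact absurd (mul_left_cancel (mul_right_cancel (e.trans h.s_z.symm))) haz
        · exact Or.inl e
        · exact Or.inr e
      exact (h.mem_of_fixed_coset haR hfix).elim hne1 haz
    · norm_num
  exact ⟨hcard, hsq⟩

end TwoR

theorem mem_centralizer_iff_commute {z g : G} :
    g ∈ Subgroup.centralizer ({z} : Set G) ↔ Commute g z :=
  ⟨fun h => Subgroup.mem_centralizer_singleton_iff.1 h,
    fun h => Subgroup.mem_centralizer_singleton_iff.2 h.eq⟩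

/-- Some Sylow 2-subgroup is centralised by `z`. -/
theorem exists_sylow_le (hconj : ∀ x y : G, orderOf x = 2 → orderOf y = 2 → IsConj x y) {z : G}
    (hz : orderOf z = 2) :
    ∃ P : Sylow 2 G, (P : Subgroup G) ≤ Subgroup.centralizer ({z} : Set G) := by
  haveI : Fact (Nat.Prime 2) := ⟨Nat.prime_two⟩
  obtain ⟨P⟩ : Nonempty (Sylow 2 G) := inferInstance
  have h2 : 2 ∣ Nat.card (P : Subgroup G) := by
    have h3 : (P : Subgroup G) ≠ ⊥ := fun e => by
      refine absurd (hz ▸ orderOf_dvd_natCard z : 2 ∣ Nat.card G) ?_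
      have h1 := P.not_dvd_index
      rwa [e, Subgroup.index_bot] at h1
    haveI : Nontrivial (P : Subgroup G) := (Subgroup.nontrivial_iff_ne_bot _).2 h3
    obtain ⟨n, hn, e⟩ := P.2.nontrivial_iff_card.1 inferInstance
    rw [e]
    exact dvd_pow_self 2 hn.ne'
  obtain ⟨w, hwP, hw, hwc⟩ : ∃ w ∈ (P : Subgroup G), orderOf w = 2 ∧
      ∀ x ∈ (P : Subgroup G), Commute w x := by
    haveI : Nontrivial (P : Subgroup G) := Finite.one_lt_card_iff_nontrivial.1
      (Nat.le_of_dvd Nat.card_pos h2)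
    haveI := P.2.center_nontrivial
    obtain ⟨n, hn, e⟩ := (P.2.to_subgroup (Subgroup.center (P : Subgroup G))).nontrivial_iff_card.1
      inferInstance
    obtain ⟨w, hw⟩ := exists_prime_orderOf_dvd_card' (G := Subgroup.center (P : Subgroup G)) 2
      (by rw [e]; exact dvd_pow_self 2 hn.ne')
    refine ⟨((w : (P : Subgroup G)) : G), (w : (P : Subgroup G)).2, ?_, fun x hx => ?_⟩
    · rw [Subgroup.orderOf_coe, Subgroup.orderOf_coe, hw]
    · exact (congrArg Subtype.val (Subgroup.mem_center_iff.1 w.2 ⟨x, hx⟩)).symm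
  obtain ⟨g, hg⟩ := isConj_iff.1 (hconj w z hw hz)
  refine ⟨g • P, fun x hx => ?_⟩
  rw [Sylow.coe_subgroup_smul, Subgroup.mem_pointwise_smul_iff_inv_smul_mem] at hx
  have h1 : Commute w (g⁻¹ * x * g) := hwc _ (by simpa [mul_assoc] using hx)
  have h3 := h1.map (MulAut.conj g).toMonoidHom
  refine mem_centralizer_iff_commute.2 ?_
  have h4 : Commute (g * w * g⁻¹) x := by simpa [mul_assoc] using h3
  rw [hg] at h4
  exact h4.symm

/-- A 2-subgroup of `C(z)` of odd index in it is a Sylow subgroup. -/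
theorem exists_sylow_eq (hconj : ∀ x y : G, orderOf x = 2 → orderOf y = 2 → IsConj x y) {z : G}
    (hz : orderOf z = 2) {T : Subgroup G} (hT : IsPGroup 2 T) {n : ℕ} (hn : Odd n)
    (hc : Nat.card (Subgroup.centralizer ({z} : Set G)) = n * Nat.card T) :
    ∃ P : Sylow 2 G, (P : Subgroup G) = T := by
  haveI : Fact (Nat.Prime 2) := ⟨Nat.prime_two⟩
  obtain ⟨P, hP⟩ := exists_sylow_le hconj hz
  obtain ⟨Q, hQ⟩ := hT.exists_le_sylow
  refine ⟨Q, (Subgroup.eq_of_le_of_card_ge hQ ?_).symm⟩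
  rw [Nat.card_congr (Sylow.equiv Q P).toEquiv]
  have h1 : Nat.card (P : Subgroup G) ∣ n * Nat.card T := hc ▸ Subgroup.card_dvd_of_le hP
  obtain ⟨k, hk⟩ := IsPGroup.iff_card.1 P.2
  refine Nat.le_of_dvd Nat.card_pos ?_
  refine Nat.Coprime.dvd_of_dvd_mul_left ?_ h1
  rw [hk]
  exact (Nat.coprime_two_left.2 hn).pow_left k

namespace Ctx

variable {z s : G} (c : Ctx z s)
include c

theorem z_mem_cent : z ∈ Subgroup.centralizer ({z} : Set G) :=
  mem_centralizer_iff_commute.2 (Commute.refl z)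

theorem s_mem_cent : s ∈ Subgroup.centralizer ({z} : Set G) :=
  mem_centralizer_iff_commute.2 c.comm.symm

theorem norm_zpowers {k : G} (hk : k ∈ Subgroup.centralizer ({z} : Set G)) {n : G}
    (hn : n ∈ Subgroup.zpowers z) : k * n * k⁻¹ ∈ Subgroup.zpowers z := by
  rcases c.mem_zpowers_z_iff.1 hn with rfl | rfl
  · simp
  · rw [(mem_centralizer_iff_commute.1 hk).eq, mul_inv_cancel_right]
    exact Subgroup.mem_zpowers n

theorem three_zpowers : ¬ 3 ∣ Nat.card (Subgroup.zpowers z) := by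
  rw [c.card_zpowers_z]; norm_num

/-- The nilpotent part. -/
theorem exists_split {M : Subgroup G} (hM : M ≤ Subgroup.centralizer ({z} : Set G))
    (hn : ∀ k ∈ Subgroup.centralizer ({z} : Set G), ∀ m ∈ M, k * m * k⁻¹ ∈ M) (hzM : z ∈ M)
    (h3 : ¬ 3 ∣ Nat.card M) : ∃ R W, NilSplit z s M R W := by
  classical
  haveI : Fact (Nat.Prime 2) := ⟨Nat.prime_two⟩
  set H := Subgroup.centralizer ({z} : Set G) with hH
  set N := Subgroup.zpowers z with hN
  have hNH : N ≤ H := Subgroup.zpowers_le.2 c.z_mem_cent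
  haveI : (N.subgroupOf H).Normal := ⟨fun n hn' k => by
    rw [Subgroup.mem_subgroupOf] at hn' ⊢
    exact c.norm_zpowers k.2 hn'⟩
  haveI hMn : (M.subgroupOf H).Normal := ⟨fun m hm k => by
    rw [Subgroup.mem_subgroupOf] at hm ⊢
    exact hn k k.2 m hm⟩
  let φ : M →* H ⧸ N.subgroupOf H :=
    (QuotientGroup.mk' (N.subgroupOf H)).comp (Subgroup.inclusion hM)
  haveI hWn : φ.range.Normal := by
    rw [MonoidHom.range_comp, Subgroup.inclusion_range]
    exact hMn.map _ (QuotientGroup.mk'_surjective _)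
  have hW3 : ¬ 3 ∣ Nat.card φ.range := fun h => h3 (h.trans (Subgroup.card_range_dvd φ))
  haveI : Group.IsNilpotent φ.range :=
    (SelfCentralThree.nilpotent_and_class_two (c.hyp_quot hNH c.s_mem_cent (Subgroup.mem_zpowers z)
      c.three_zpowers (fun n hn' _ => hn'))
      (by rw [Subgroup.normalizer_eq_top]; trivial) hW3).1
  have hker : φ.rangeRestrict.ker ≤ Subgroup.center M := by
    intro m hm
    rw [MonoidHom.ker_rangeRestrict, MonoidHom.mem_ker] at hm
    have h1 : (m : G) ∈ N :=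
      Subgroup.mem_subgroupOf.1 ((QuotientGroup.eq_one_iff (N := N.subgroupOf H)
        (Subgroup.inclusion hM m)).1 hm)
    refine Subgroup.mem_center_iff.2 fun x => Subtype.ext ?_
    rcases c.mem_zpowers_z_iff.1 h1 with e | e
    · simp [e]
    · show (x : G) * m = m * x
      rw [e]
      exact (mem_centralizer_iff_commute.1 (hM x.2)).eq
  haveI hnil : Group.IsNilpotent M := Subgroup.isNilpotent_of_ker_le_center φ.rangeRestrict hker
  obtain ⟨P⟩ : Nonempty (Sylow 2 M) := inferInstance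
  haveI hPn : (P : Subgroup M).Normal :=
    Sylow.normal_of_normalizerCondition Group.normalizerCondition_of_isNilpotent P
  obtain ⟨K, hK⟩ := Subgroup.exists_right_complement'_of_coprime (N := (P : Subgroup M))
    P.card_coprime_index
  have hKc : Odd (Nat.card K) := by
    rw [← hK.symm.index_eq_card]
    rw [Nat.odd_iff, ← Nat.two_dvd_ne_zero]
    exact P.not_dvd_index
  have hcomm : ∀ p ∈ (P : Subgroup M), ∀ k ∈ K, Commute p k := fun p hp k hk => by
    refine NilpotentCover.commute_of_coprime p k ?_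
    obtain ⟨a, ha⟩ := IsPGroup.iff_card.1 P.2
    refine Nat.Coprime.coprime_dvd_left (Subgroup.orderOf_dvd_natCard _ hp) ?_
    refine Nat.Coprime.coprime_dvd_right (Subgroup.orderOf_dvd_natCard _ hk) ?_
    rw [ha]
    exact (Nat.coprime_two_left.2 hKc).pow_left a
  have hdec : ∀ m : M, ∃ p ∈ (P : Subgroup M), ∃ k ∈ K, m = p * k := fun m => by
    obtain ⟨⟨⟨p, hp⟩, ⟨k, hk⟩⟩, e⟩ := hK.2 m
    exact ⟨p, hp, k, hk, e.symm⟩
  have hodd : ∀ m : M, Odd (orderOf m) → m ∈ K := fun m hm => by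
    obtain ⟨p, hp, k, hk, rfl⟩ := hdec m
    have hc := hcomm p hp k hk
    obtain ⟨a, ha⟩ := P.2 ⟨p, hp⟩
    have hp2 : p ^ 2 ^ a = 1 := congrArg Subtype.val ha
    have h1 : p ^ orderOf (p * k) = 1 := by
      have h2 := pow_orderOf_eq_one (p * k)
      rw [hc.mul_pow] at h2
      have h4 : p ^ orderOf (p * k) ∈ (P : Subgroup M) ⊓ K :=
        ⟨pow_mem hp _, by rw [eq_inv_of_mul_eq_one_left h2]; exact K.inv_mem (K.pow_mem hk _)⟩
      rwa [hK.disjoint.eq_bot, Subgroup.mem_bot] at h4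
    have h5 := Nat.dvd_gcd (orderOf_dvd_of_pow_eq_one h1) (orderOf_dvd_of_pow_eq_one hp2)
    rw [Nat.coprime_iff_gcd_eq_one.1 ((Nat.coprime_two_right.2 hm).pow_right a), Nat.dvd_one,
      orderOf_eq_one_iff] at h5
    rw [h5, one_mul]
    exact hk
  have hnorm : ∀ h : G, Commute h z → ∀ m ∈ M, h * m * h⁻¹ ∈ M := fun h hh =>
    hn h (mem_centralizer_iff_commute.2 hh)
  set R := (P : Subgroup M).map M.subtype with hR
  set W := K.map M.subtype with hW
  have hPel : ∀ m : M, m ∈ (P : Subgroup M) ↔ ∃ a, m ^ 2 ^ a = 1 := fun m => by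
    refine ⟨fun hm => ?_, fun ⟨a, ha⟩ => ?_⟩
    · obtain ⟨a, ha⟩ := P.2 ⟨m, hm⟩
      exact ⟨a, congrArg Subtype.val ha⟩
    · obtain ⟨Q, hQ⟩ := (show IsPGroup 2 (Subgroup.zpowers m) from fun y => by
        obtain ⟨j, hj⟩ := Subgroup.mem_zpowers_iff.1 y.2
        refine ⟨a, Subtype.ext ?_⟩
        rw [Subgroup.coe_pow, Subgroup.coe_one, ← hj, ← zpow_natCast, ← zpow_mul, mul_comm, zpow_mul, zpow_natCast, ha, one_zpow]).exists_le_sylow
      haveI := Sylow.normal_of_normalizerCondition Group.normalizerCondition_of_isNilpotent Q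
      haveI := P.unique_of_normal inferInstance
      exact (Subsingleton.elim Q P) ▸ hQ (Subgroup.mem_zpowers m)
  have hnormR : ∀ h : G, Commute h z → ∀ r ∈ R, h * r * h⁻¹ ∈ R := by
    rintro h hh _ ⟨r, hr, rfl⟩
    obtain ⟨a, ha⟩ := (hPel r).1 hr
    refine ⟨⟨_, hnorm h hh r r.2⟩, (hPel _).2 ⟨a, Subtype.ext ?_⟩, rfl⟩
    show (h * (r : G) * h⁻¹) ^ 2 ^ a = 1
    rw [conj_pow, ← Subgroup.coe_pow, ha, Subgroup.coe_one, mul_one, mul_inv_cancel]
  have hnormW : ∀ h : G, Commute h z → ∀ w ∈ W, h * w * h⁻¹ ∈ W := by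
    rintro h hh _ ⟨w, hw, rfl⟩
    refine ⟨⟨_, hnorm h hh w w.2⟩, hodd _ ?_, rfl⟩
    rw [← Subgroup.orderOf_coe]
    show Odd (orderOf (MulAut.conj h (w : G)))
    rw [MulEquiv.orderOf_eq, Subgroup.orderOf_coe]
    exact hKc.of_dvd_nat (Subgroup.orderOf_dvd_natCard K hw)
  refine ⟨R, W, ⟨?_, Subgroup.map_subtype_le _, Subgroup.map_subtype_le _, ?_, ?_, ?_, ?_, ?_,
    hnormR, hnormW⟩⟩
  · refine ⟨c, P.2.map _, ⟨⟨z, hzM⟩, (hPel _).2 ⟨1, Subtype.ext (by simp [sq, c.z_sq])⟩, rfl⟩,
      ?_, fun r hr => hnormR s c.comm.symm r hr⟩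
    rintro _ ⟨r, -, rfl⟩
    exact mem_centralizer_iff_commute.1 (hM r.2)
  · rw [hW, Subgroup.card_map_of_injective M.subtype_injective]; exact hKc
  · rw [hW, Subgroup.card_map_of_injective M.subtype_injective]
    exact fun h => h3 (h.trans (Subgroup.card_subgroup_dvd_card K))
  · rintro _ ⟨p, hp, rfl⟩ _ ⟨k, hk, rfl⟩
    exact (hcomm p hp k hk).map M.subtype
  · intro m hm
    obtain ⟨p, hp, k, hk, e⟩ := hdec ⟨m, hm⟩
    exact ⟨p, ⟨p, hp, rfl⟩, k, ⟨k, hk, rfl⟩, congrArg Subtype.val e⟩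
  · rw [hR, hW, Subgroup.card_map_of_injective M.subtype_injective,
      Subgroup.card_map_of_injective M.subtype_injective, hK.card_mul_card]

/-- Index three: the configuration with quotient of order three. -/
theorem c3_of_index (hconj : ∀ x y : G, orderOf x = 2 → orderOf y = 2 → IsConj x y)
    [IsSimpleGroup G] (hG : ¬ IsMulCommutative G) {M : Subgroup G}
    (hM : M ≤ Subgroup.centralizer ({z} : Set G))
    (hn : ∀ k ∈ Subgroup.centralizer ({z} : Set G), ∀ m ∈ M, k * m * k⁻¹ ∈ M) (hzM : z ∈ M)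
    (h3 : ¬ 3 ∣ Nat.card M) (hi : M.relIndex (Subgroup.centralizer ({z} : Set G)) = 3) :
    ∃ R W, C3Cfg z s R W := by
  classical
  haveI : Fact (Nat.Prime 2) := ⟨Nat.prime_two⟩
  obtain ⟨R, W, h⟩ := c.exists_split hM hn hzM h3
  set H := Subgroup.centralizer ({z} : Set G) with hH
  have hHc : Nat.card H = 3 * Nat.card W * Nat.card R := by
    have h1 := (M.subgroupOf H).card_mul_index
    rw [Nat.card_congr (Subgroup.subgroupOfEquivOfLe hM).toEquiv, ← Subgroup.relIndex, hi,
      h.card] at h1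
    rw [← h1]; ring
  obtain ⟨P, hP⟩ := exists_sylow_eq hconj c.z_ord h.rs.two ((Odd.mul (by decide) h.W_odd)) hHc
  have h8 : Nat.card R ≤ 8 := by
    have := SelfCentralSix57.two_closed hconj c P (by rw [hP]; exact h.rs.central) (by rw [hP]; exact h.rs.act)
    rwa [hP] at this
  -- the unique involution is impossible
  have hinv : ∀ a, orderOf a = 2 → Commute a z → a ∈ R := by
    intro a ha hc
    haveI : (R.subgroupOf H).Normal := ⟨fun r hr k => by
      rw [Subgroup.mem_subgroupOf] at hr ⊢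
      exact h.normR k (mem_centralizer_iff_commute.1 k.2) r hr⟩
    have haH : a ∈ H := mem_centralizer_iff_commute.2 hc
    have hRH : R ≤ H := h.R_le.trans hM
    by_contra haR
    have hu : ∀ r ∈ R, a * r * a⁻¹ ∈ R := h.normR a hc
    have ha2 : a * a = 1 := by rw [← sq, ← ha, pow_orderOf_eq_one]
    have h1 := card_sup_two hu (ha2 ▸ one_mem R) haR
    have h2 : Nat.card ↥(R ⊔ Subgroup.zpowers a) ∣ Nat.card H :=
      Subgroup.card_dvd_of_le (sup_le hRH (Subgroup.zpowers_le.2 haH))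
    rw [h1, hHc] at h2
    have h4 : (2 : ℕ) ∣ 3 * Nat.card W := Nat.dvd_of_mul_dvd_mul_right Nat.card_pos h2
    exact (Nat.not_even_iff_odd.2 ((Odd.mul (by decide) h.W_odd))) (even_iff_two_dvd.2 h4)
  obtain ⟨a, ha2, hac, haz⟩ := c.exists_involution_ne hG
  have haR := hinv a ha2 hac
  obtain ⟨hcard, hsq⟩ := h.rs.elementary h8 haR ha2 haz
  refine ⟨R, W, ⟨hconj, h.rs, hcard, hsq, h.W_odd, h.W_three, h.W_comm, h.normR, h.normW, ?_,
    ⟨P, hP⟩⟩⟩
  intro x hx
  have hxH : x ∈ H := mem_centralizer_iff_commute.2 hx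
  have hs3 : s ^ 3 ∈ M := by rw [c.s_cube]; exact one_mem M
  have hsM : ∀ m ∈ M, s * m * s⁻¹ ∈ M := hn s c.s_mem_cent
  have hsnM : s ∉ M := fun hs => h3 (c.s_ord ▸ Subgroup.orderOf_dvd_natCard M hs)
  have hK : M ⊔ Subgroup.zpowers s = H := by
    refine Subgroup.eq_of_le_of_card_ge (sup_le hM (Subgroup.zpowers_le.2 c.s_mem_cent)) ?_
    rw [card_sup_three hsM hs3 hsnM, hHc, h.card]
    exact le_of_eq (by ring)
  rw [← hK] at hxH
  obtain ⟨m, hm, i, rfl⟩ := (mem_sup_zpowers hsM).1 hxH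
  obtain ⟨r, hr, w, hw, rfl⟩ := h.mul m hm
  exact ⟨r, hr, w, hw, i, rfl⟩

/-- Index six: the configuration with quotient of symmetric type. -/
theorem s3_of_index (hconj : ∀ x y : G, orderOf x = 2 → orderOf y = 2 → IsConj x y)
    {M : Subgroup G} (hM : M ≤ Subgroup.centralizer ({z} : Set G))
    (hn : ∀ k ∈ Subgroup.centralizer ({z} : Set G), ∀ m ∈ M, k * m * k⁻¹ ∈ M) (hzM : z ∈ M)
    (h3 : ¬ 3 ∣ Nat.card M) (hi : M.relIndex (Subgroup.centralizer ({z} : Set G)) = 6) :
    ∃ u R W, S3Cfg z s u R W := by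
  classical
  haveI : Fact (Nat.Prime 2) := ⟨Nat.prime_two⟩
  haveI : Fact (Nat.Prime 3) := ⟨Nat.prime_three⟩
  obtain ⟨R, W, h⟩ := c.exists_split hM hn hzM h3
  set H := Subgroup.centralizer ({z} : Set G) with hH
  have hs3 : s ^ 3 ∈ M := by rw [c.s_cube]; exact one_mem M
  have hsM : ∀ m ∈ M, s * m * s⁻¹ ∈ M := hn s c.s_mem_cent
  have hsnM : s ∉ M := fun hs => h3 (c.s_ord ▸ Subgroup.orderOf_dvd_natCard M hs)
  set K := M ⊔ Subgroup.zpowers s with hK
  have hKH : K ≤ H := sup_le hM (Subgroup.zpowers_le.2 c.s_mem_cent)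
  have hKc : Nat.card K = 3 * Nat.card M := card_sup_three hsM hs3 hsnM
  have hHc : Nat.card H = 6 * Nat.card M := by
    have h1 := (M.subgroupOf H).card_mul_index
    rw [Nat.card_congr (Subgroup.subgroupOfEquivOfLe hM).toEquiv, ← Subgroup.relIndex, hi] at h1
    rw [← h1]; ring
  have hsK : s ∈ K := (le_sup_right (a := M)) (Subgroup.mem_zpowers s)
  haveI : (K.subgroupOf H).Normal := by
    refine Subgroup.normal_of_index_eq_two ?_
    have h1 := (K.subgroupOf H).card_mul_index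
    rw [Nat.card_congr (Subgroup.subgroupOfEquivOfLe hKH).toEquiv, hKc, hHc] at h1
    have := Nat.card_pos (α := M)
    exact Nat.eq_of_mul_eq_mul_left (show 0 < 3 * Nat.card M by omega) (h1.trans (by ring))
  obtain ⟨g, hg, hgK⟩ : ∃ g ∈ H, g ∉ K := by
    by_contra hcon
    push Not at hcon
    have := Subgroup.card_le_of_le (show H ≤ K from hcon)
    have := Nat.card_pos (α := M)
    omega
  have hgs : g * s * g⁻¹ ∈ K :=
    Subgroup.mem_subgroupOf.1 ((inferInstance : (K.subgroupOf H).Normal).conj_mem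
      ⟨s, c.s_mem_cent⟩ (Subgroup.mem_subgroupOf.2 hsK) ⟨g, hg⟩)
  have sylow3 : ∀ y : K, orderOf y = 3 → ∃ T : Sylow 3 K, (T : Subgroup K) = Subgroup.zpowers y := by
    intro y hy
    have hp : IsPGroup 3 (Subgroup.zpowers y) :=
      IsPGroup.of_card (n := 1) (by rw [Nat.card_zpowers, hy, pow_one])
    refine ⟨hp.toSylow ?_, IsPGroup.toSylow_coe _ _⟩
    have h1 := (Subgroup.zpowers y).card_mul_index
    rw [Nat.card_zpowers, hy, hKc] at h1
    rwa [Nat.eq_of_mul_eq_mul_left (by norm_num) h1]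
  obtain ⟨T, hT⟩ := sylow3 ⟨g * s * g⁻¹, hgs⟩ (by
    rw [← Subgroup.orderOf_coe]
    exact (MulEquiv.orderOf_eq (MulAut.conj g) s).trans c.s_ord)
  obtain ⟨U, hU⟩ := sylow3 ⟨s, hsK⟩ (by rw [← Subgroup.orderOf_coe]; exact c.s_ord)
  obtain ⟨k, hk⟩ := MulAction.exists_smul_eq K T U
  have hmem : k * ⟨g * s * g⁻¹, hgs⟩ * k⁻¹ ∈ Subgroup.zpowers (⟨s, hsK⟩ : K) := by
    rw [← hU, ← hk, Sylow.coe_subgroup_smul, Subgroup.mem_pointwise_smul_iff_inv_smul_mem, hT]
    simp [mul_assoc]
  obtain ⟨i, hi'⟩ := Subgroup.mem_zpowers_iff.1 hmem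
  set x := (k : G) * g with hx
  have hxz : Commute x z :=
    (mem_centralizer_iff_commute.1 (hKH k.2)).mul_left (mem_centralizer_iff_commute.1 hg)
  have hxK : x ∉ K := fun hm => hgK ((Subgroup.mul_mem_cancel_left K k.2).1 hm)
  have hxs : x * s * x⁻¹ = s ^ (i % 3).toNat := by
    have e := congrArg Subtype.val hi'
    have e0 := cent_cases.zpow_eq_pow_toNat 3 i c.s_ord (by norm_num)
    rw [Nat.cast_ofNat] at e0
    rw [← e0, hx]
    simp only [Subgroup.coe_zpow, Subgroup.coe_mul, Subgroup.coe_inv] at e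
    rw [e]
    group
  have hlt : (i % 3).toNat < 3 := by omega
  have hxinv : x * s * x⁻¹ = s⁻¹ := by
    interval_cases hj : (i % 3).toNat
    · exfalso
      rw [pow_zero] at hxs
      exact c.s_ne (conj_eq_one_iff.1 hxs)
    · exfalso
      rw [pow_one] at hxs
      refine hxK ?_
      refine Subgroup.zpowers_le.2 (mul_mem ?_ hsK) (c.cent x hxz (mul_inv_eq_iff_eq_mul.1 hxs))
      exact (le_sup_left (b := Subgroup.zpowers s)) hzM
    · rw [hxs]
      refine eq_inv_of_mul_eq_one_left ?_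
      rw [← pow_succ, c.s_cube]
  have hxx : x * x = 1 ∨ x * x = z := by
    have hxxs : Commute (x * x) s := by
      refine mul_inv_eq_iff_eq_mul.1 ?_
      rw [show x * x * s * (x * x)⁻¹ = x * (x * s * x⁻¹) * x⁻¹ by group, hxinv,
        show x * s⁻¹ * x⁻¹ = (x * s * x⁻¹)⁻¹ by group, hxinv, inv_inv]
    obtain ⟨a, b, ha, hb, e⟩ := c.cent_cases (hxz.mul_left hxz) hxxs
    have e1 : x * (z ^ a * s ^ b) * x⁻¹ = z ^ a * s ^ b := by rw [← e]; group
    rw [show x * (z ^ a * s ^ b) * x⁻¹ = (x * z * x⁻¹) ^ a * (x * s * x⁻¹) ^ b by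
      rw [conj_pow, conj_pow]; group, hxinv, hxz.eq, mul_inv_cancel_right] at e1
    have e2 := mul_left_cancel e1
    interval_cases b
    · rw [e, pow_zero, mul_one]
      interval_cases a
      · exact Or.inl (pow_zero z)
      · exact Or.inr (pow_one z)
    · exfalso
      rw [pow_one, pow_one, inv_eq_iff_mul_eq_one, ← sq] at e2
      have := orderOf_dvd_of_pow_eq_one e2
      rw [c.s_ord] at this
      omega
    · exfalso
      rw [inv_pow, inv_eq_iff_mul_eq_one, ← pow_add] at e2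
      have := orderOf_dvd_of_pow_eq_one e2
      rw [c.s_ord] at this
      omega
  have hxxR : x * x ∈ R := by
    rcases hxx with e | e <;> rw [e]
    exacts [one_mem R, h.rs.mem]
  have hxR : x ∉ R := fun hm => hxK ((le_sup_left (b := Subgroup.zpowers s)) (h.R_le hm))
  have hcard2 := card_sup_two (h.normR x hxz) hxxR hxR
  have hHc2 : Nat.card H = 3 * Nat.card W * Nat.card ↥(R ⊔ Subgroup.zpowers x) := by
    rw [hHc, h.card, hcard2]; ring
  have hp : IsPGroup 2 ↥(R ⊔ Subgroup.zpowers x) := by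
    obtain ⟨n, hn'⟩ := IsPGroup.iff_card.1 h.rs.two
    exact IsPGroup.of_card (n := n + 1) (by rw [hcard2, hn', pow_succ']; )
  refine ⟨x, R, W, ⟨hconj, h.rs, h.W_odd, h.W_three, h.W_comm,
    fun w hw => mem_centralizer_iff_commute.1 (hM (h.W_le hw)), hxz, hxinv, hxx, h.normR, h.normW,
    ?_, exists_sylow_eq hconj c.z_ord hp ((Odd.mul (by decide) h.W_odd)) hHc2⟩⟩
  intro y hy
  have hxx' : x * x ∈ K := (le_sup_left (b := Subgroup.zpowers s)) (h.R_le hxxR)
  have hxn : ∀ n ∈ K, x * n * x⁻¹ ∈ K := fun n hn' =>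
    Subgroup.mem_subgroupOf.1 ((inferInstance : (K.subgroupOf H).Normal).conj_mem
      ⟨n, hKH hn'⟩ (Subgroup.mem_subgroupOf.2 hn') ⟨x, mem_centralizer_iff_commute.2 hxz⟩)
  have hxH : x ∈ H := mem_centralizer_iff_commute.2 hxz
  have hKx : K ⊔ Subgroup.zpowers x = H := by
    refine Subgroup.eq_of_le_of_card_ge (sup_le hKH (Subgroup.zpowers_le.2 hxH)) ?_
    rw [card_sup_two hxn hxx' hxK, hKc, hHc]
    exact le_of_eq (by ring)
  have hyH : y ∈ K ⊔ Subgroup.zpowers x := hKx.symm ▸ mem_centralizer_iff_commute.2 hy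
  obtain ⟨n, hn', j, rfl⟩ := (mem_sup_zpowers hxn).1 hyH
  obtain ⟨m, hm, i', rfl⟩ := (mem_sup_zpowers hsM).1 hn'
  obtain ⟨r, hr, w, hw, rfl⟩ := h.mul m hm
  exact ⟨r, hr, w, hw, i', j, rfl⟩

end Ctx

end CfsgLib.SelfCentralSix57
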