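import Cfsg.Agent.SelfCentralSix57.TwoClosedOne
import Cfsg.Agent.SelfCentralSix57.ConjModule

/-!
# A Sylow 2-subgroup of `C(z)` normalised by `s` has order at most eight
-/

set_option autoImplicit false
set_option linter.style.haveILetI false
set_option linter.unusedSectionVars false

namespace CfsgLib.SelfCentralSix57

open scoped commutatorElement

universe u

variable {G : Type u} [Group G] [Finite G]

/-- In a subgroup of odd index, a normal one contains the elements of 2-power order. -/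
theorem mem_of_two_power {K S : Subgroup G} (hn : ∀ k ∈ K, ∀ x ∈ S, k * x * k⁻¹ ∈ S)
    (hSK : S ≤ K) (hodd : Odd (S.relIndex K)) {x : G} (hx : x ∈ K) {k : ℕ} (h2 : x ^ 2 ^ k = 1) :
    x ∈ S := by
  haveI : (S.subgroupOf K).Normal := ⟨fun n hn' y => by
    rw [Subgroup.mem_subgroupOf] at hn' ⊢
    exact hn y y.2 n hn'⟩
  have h1 : orderOf (QuotientGroup.mk ⟨x, hx⟩ : K ⧸ S.subgroupOf K) ∣ 2 ^ k :=
    orderOf_dvd_of_pow_eq_one (by
      rw [← QuotientGroup.mk_pow]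
      refine (QuotientGroup.eq_one_iff (N := S.subgroupOf K) _).2 ?_
      show (((⟨x, hx⟩ : K) ^ 2 ^ k : K) : G) ∈ S
      rw [Subgroup.coe_pow]
      show x ^ 2 ^ k ∈ S
      rw [h2]; exact one_mem S)
  have h3 : orderOf (QuotientGroup.mk ⟨x, hx⟩ : K ⧸ S.subgroupOf K) ∣ S.relIndex K :=
    orderOf_dvd_natCard _
  have hco : (2 ^ k).Coprime (S.relIndex K) := (Nat.coprime_two_left.2 hodd).pow_left k
  have h4 := Nat.dvd_gcd h1 h3
  rw [Nat.coprime_iff_gcd_eq_one.1 hco, Nat.dvd_one, orderOf_eq_one_iff] at h4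
  exact (QuotientGroup.eq_one_iff (N := S.subgroupOf K) ⟨x, hx⟩).1 h4

/-- The exponent of an element modulo the 2-elements. -/
theorem exists_odd_pow {c : G} (h3 : ¬ 3 ∣ orderOf c) :
    ∃ n k : ℕ, n.Coprime 6 ∧ (c ^ n) ^ 2 ^ k = 1 := by
  obtain ⟨k, n, hn, he⟩ := Nat.exists_eq_pow_mul_and_not_dvd (orderOf_pos c).ne' 2 (by norm_num)
  refine ⟨n, k, ?_, by rw [← pow_mul, mul_comm, ← he, pow_orderOf_eq_one]⟩
  rw [show (6 : ℕ) = 2 * 3 by norm_num, Nat.coprime_mul_iff_right]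
  refine ⟨(Nat.prime_two.coprime_iff_not_dvd.2 hn).symm,
    (Nat.prime_three.coprime_iff_not_dvd.2 fun h => h3 (he ▸ dvd_mul_of_dvd_right h _)).symm⟩

variable {z s : G}

/-- The centre has only one involution or the Sylow subgroup has order at most eight. -/
theorem two_closed_center (hconj : ∀ x y : G, orderOf x = 2 → orderOf y = 2 → IsConj x y)
    (c : Ctx z s) (S : Sylow 2 G) (h : TwoR z s (S : Subgroup G)) {w : G}
    (hw : w ∈ (S : Subgroup G)) (hw2 : orderOf w = 2)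
    (hwc : ∀ x ∈ (S : Subgroup G), Commute w x) (hwz : w ≠ z) :
    Nat.card (S : Subgroup G) ≤ 8 := by
  classical
  haveI : Fact (Nat.Prime 2) := ⟨Nat.prime_two⟩
  set S₀ : Subgroup G := (S : Subgroup G) with hS₀
  set K : Subgroup G := Subgroup.normalizer (S₀ : Set G) with hK
  have hnorm : ∀ k ∈ K, ∀ n ∈ S₀, k * n * k⁻¹ ∈ S₀ := fun k hk n hn =>
    (Subgroup.mem_normalizer_iff.1 hk n).1 hn
  have hs : s ∈ K := Subgroup.mem_normalizer_iff.2 fun n => ⟨h.act n, fun hn => by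
    have := h.act _ (h.act _ hn)
    rwa [h.s_cubed] at this⟩
  have hSK : S₀ ≤ K := Subgroup.le_normalizer
  have hNfix : ∀ n ∈ S₀, Commute n s → n ∈ Subgroup.zpowers z := fun n hn hc =>
    c.mem_zpowers_of_fixed h.three h.central hn hc
  have hodd : Odd (S₀.relIndex K) := by
    refine Nat.not_even_iff_odd.1 fun he => ?_
    refine S.not_dvd_index ?_
    exact (even_iff_two_dvd.1 he).trans ⟨K.index, (Subgroup.relIndex_mul_index hSK).symm⟩
  obtain ⟨M, hNM, hMK, hMn, hM3, hMi⟩ : ∃ M : Subgroup G, S₀ ≤ M ∧ M ≤ K ∧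
      (∀ k ∈ K, ∀ m ∈ M, k * m * k⁻¹ ∈ M) ∧ ¬ 3 ∣ Nat.card M ∧ M.relIndex K = 3 := by
    rcases c.local_shape hSK hnorm hs h.mem h.three hNfix with
      ⟨M, a1, a2, a3, a4, a5⟩ | ⟨M, a1, a2, -, -, a5, -⟩ | ⟨a5, -⟩
    · have hd : M.relIndex K ∣ S₀.relIndex K := ⟨_, ((Subgroup.relIndex_mul_relIndex _ _ _ a1 a2).symm.trans (mul_comm _ _))⟩
      rcases a5 with e | e
      · exact ⟨M, a1, a2, a3, a4, e⟩
      · exact absurd (hodd.of_dvd_nat hd) (by rw [e]; decide)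
    · have hd : M.relIndex K ∣ S₀.relIndex K := ⟨_, ((Subgroup.relIndex_mul_relIndex _ _ _ a1 a2).symm.trans (mul_comm _ _))⟩
      exact absurd (hodd.of_dvd_nat hd) (by rw [a5]; decide)
    · exact absurd hodd (by rw [a5]; decide)
  have hsM : ∀ m ∈ M, s * m * s⁻¹ ∈ M := hMn s hs
  have hsnM : s ∉ M := fun hm => hM3 (c.s_ord ▸ Subgroup.orderOf_dvd_natCard M hm)
  -- the elementary abelian subgroup of central involutions
  set V : Subgroup G :=
    { carrier := {v | v ∈ S₀ ∧ v * v = 1 ∧ ∀ x ∈ S₀, Commute v x}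
      one_mem' := ⟨one_mem _, one_mul 1, fun x _ => Commute.one_left x⟩
      mul_mem' := fun {p q} hp hq => ⟨mul_mem hp.1 hq.1, by
          rw [(hp.2.2 q hq.1).symm.mul_mul_mul_comm, hp.2.1, hq.2.1, one_mul],
        fun x hx => (hp.2.2 x hx).mul_left (hq.2.2 x hx)⟩
      inv_mem' := fun {p} hp => ⟨inv_mem hp.1, by rw [← mul_inv_rev, hp.2.1, inv_one],
        fun x hx => (hp.2.2 x hx).inv_left⟩ } with hV
  have memV : ∀ {v}, v ∈ V ↔ v ∈ S₀ ∧ v * v = 1 ∧ ∀ x ∈ S₀, Commute v x := Iff.rfl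
  have hzV : z ∈ V := memV.2 ⟨h.mem, c.z_sq, fun x hx => (h.central x hx).symm⟩
  have hwV : w ∈ V := memV.2 ⟨hw, by rw [← sq, ← hw2, pow_orderOf_eq_one], hwc⟩
  have hVn : ∀ k ∈ K, ∀ v ∈ V, k * v * k⁻¹ ∈ V := by
    intro k hk v hv
    obtain ⟨hv1, hv2, hv3⟩ := memV.1 hv
    refine memV.2 ⟨hnorm k hk v hv1, by rw [show k * v * k⁻¹ * (k * v * k⁻¹) = k * (v * v) * k⁻¹ by
      group, hv2, mul_one, mul_inv_cancel], fun x hx => ?_⟩
    have h1 : k⁻¹ * x * k ∈ S₀ := by simpa using hnorm k⁻¹ (inv_mem hk) x hx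
    simpa [mul_assoc] using (hv3 _ h1).map (MulAut.conj k).toMonoidHom
  -- conjugation by `M` is transitive
  have htrans : ∀ v ∈ V, v ≠ 1 → ∃ m ∈ M, m * z * m⁻¹ = v := by
    intro v hv hv1
    obtain ⟨hvS, hv2, hvc⟩ := memV.1 hv
    obtain ⟨g, hg⟩ := isConj_iff.1 (hconj z v c.z_ord (orderOf_eq_prime (by rw [sq, hv2]) hv1))
    obtain ⟨n, hn, hne⟩ := S.conj_eq_normalizer_conj_of_mem_centralizer z g⁻¹
      (fun x hx => (h.central x hx).eq)
      (by rw [inv_inv, hg]; exact fun x hx => (hvc x hx).eq.symm)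
    rw [inv_inv, hg] at hne
    have hnK : n⁻¹ ∈ K := inv_mem hn
    haveI : (M.subgroupOf K).Normal := ⟨fun m hm y => by
      rw [Subgroup.mem_subgroupOf] at hm ⊢
      exact hMn y y.2 m hm⟩
    haveI : Fact (Nat.Prime 3) := ⟨Nat.prime_three⟩
    have hq : Nat.card (K ⧸ M.subgroupOf K) = 3 := hMi
    have hsq : (QuotientGroup.mk ⟨s, hs⟩ : K ⧸ M.subgroupOf K) ≠ 1 := fun e =>
      hsnM ((QuotientGroup.eq_one_iff (N := M.subgroupOf K) ⟨s, hs⟩).1 e)
    obtain ⟨j, hj⟩ := (Submonoid.mem_powers_iff _ _).1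
      (mem_powers_of_prime_card (g' := (QuotientGroup.mk ⟨n⁻¹, hnK⟩ : K ⧸ M.subgroupOf K)) hq hsq)
    rw [← QuotientGroup.mk_pow, QuotientGroup.eq, Subgroup.mem_subgroupOf] at hj
    have hj' : (s ^ j)⁻¹ * n⁻¹ ∈ M := hj
    refine ⟨n⁻¹ * (s ^ j)⁻¹, ?_, ?_⟩
    · have := hMn _ (pow_mem hs j) _ hj'
      rwa [mul_inv_cancel_left] at this
    · have e : (s ^ j)⁻¹ * z * s ^ j = z := by
        rw [((c.comm.symm.pow_left j).inv_left).eq, inv_mul_cancel_right]
      rw [hne, mul_inv_rev, inv_inv, inv_inv]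
      calc n⁻¹ * (s ^ j)⁻¹ * z * (s ^ j * n) = n⁻¹ * ((s ^ j)⁻¹ * z * s ^ j) * n := by group
        _ = _ := by rw [e]
  -- the section `M / S`
  have hF : FpfSection s M S₀ :=
    { le := hNM
      normal := fun y hy n hn => hnorm y (hMK hy) n hn
      cube := c.s_cube
      three := h.three
      actY := hsM
      actN := h.act
      fixed := fun y hy hys => by
        have hyz := c.commute_z h.mem hNfix (hnorm y (hMK hy) z h.mem) hys
        rcases c.eq_one_or_z hyz hys fun h3 =>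
            hM3 (h3.trans (Subgroup.orderOf_dvd_natCard M hy)) with e | e <;> rw [e]
        · exact one_mem _
        · exact h.mem }
  set cf : G → Prop := fun g => ∀ v ∈ V, g * v * g⁻¹ = v with hcf
  have cfS : ∀ g ∈ S₀, cf g := fun g hg v hv => by
    rw [((memV.1 hv).2.2 g hg).symm.eq, mul_inv_cancel_right]
  have cfs : ∀ g, cf g → cf (s * g * s⁻¹) := fun g hg v hv => by
    have h1 := hg _ (hVn s⁻¹ (inv_mem hs) v hv)
    calc s * g * s⁻¹ * v * (s * g * s⁻¹)⁻¹ = s * (g * (s⁻¹ * v * s⁻¹⁻¹) * g⁻¹) * s⁻¹ := by group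
      _ = v := by rw [h1]; group
  -- a central element moving `z`
  obtain ⟨m₁, hm₁, hm₁w⟩ := htrans w hwV fun e => by
    rw [e, orderOf_one] at hw2
    omega
  obtain ⟨d, hdM, hdmove, hdc⟩ : ∃ d ∈ M, ¬ cf d ∧ ∀ m ∈ M, cf ⁅d, m⁆ := by
    by_cases hab : ∀ a ∈ M, ∀ b ∈ M, cf ⁅a, b⁆
    · exact ⟨m₁, hm₁, fun e => hwz (hm₁w.symm.trans (e z hzV)), hab m₁ hm₁⟩
    push Not at hab
    obtain ⟨a, ha, b, hb, hab⟩ := hab
    exact ⟨⁅a, b⁆, mul_mem (mul_mem (mul_mem ha hb) (inv_mem ha)) (inv_mem hb), hab,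
      fun m hm => cfS _ (hF.class_two ha hb hm)⟩
  have hcomm_act : ∀ p q : G, p ∈ K → q ∈ K → cf ⁅p, q⁆ → ∀ v ∈ V,
      p * q * v * (p * q)⁻¹ = q * p * v * (q * p)⁻¹ := fun p q hp hq hpq v hv => by
    have h1 := hpq _ (hVn (q * p) (mul_mem hq hp) v hv)
    rw [← h1, commutatorElement_def]
    group
  have central_move : ∀ d ∈ M, (∀ m ∈ M, cf ⁅d, m⁆) → ∀ v ∈ V, v ≠ 1 → d * v * d⁻¹ = v → cf d := by
    intro d hd hdc v hv hv1 hfix
    have hz' : d * z * d⁻¹ = z := by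
      obtain ⟨m, hm, rfl⟩ := htrans v hv hv1
      have h1 := hcomm_act d m (hMK hd) (hMK hm) (hdc m hm) z hzV
      have h2 : m * d * z * (m * d)⁻¹ = m * z * m⁻¹ := by
        rw [← h1]
        calc d * m * z * (d * m)⁻¹ = d * (m * z * m⁻¹) * d⁻¹ := by group
          _ = _ := hfix
      have h3 := congrArg (fun x => m⁻¹ * x * m) h2
      simpa [mul_assoc] using h3
    intro u hu
    by_cases hu1 : u = 1
    · rw [hu1]; group
    obtain ⟨m, hm, rfl⟩ := htrans u hu hu1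
    have h1 := hcomm_act d m (hMK hd) (hMK hm) (hdc m hm) z hzV
    calc d * (m * z * m⁻¹) * d⁻¹ = d * m * z * (d * m)⁻¹ := by group
      _ = m * d * z * (m * d)⁻¹ := h1
      _ = m * (d * z * d⁻¹) * m⁻¹ := by group
      _ = _ := by rw [hz']
  -- the three conjugates
  set e₂ := s * d * s⁻¹ with he₂
  set e₃ := s * e₂ * s⁻¹ with he₃
  have hs3 : s * e₃ * s⁻¹ = d := h.s_cubed d
  have he₂M : e₂ ∈ M := hsM d hdM
  have he₃M : e₃ ∈ M := hsM e₂ he₂M
  have centr_s : ∀ p ∈ M, (∀ m ∈ M, cf ⁅p, m⁆) → ∀ m ∈ M, cf ⁅s * p * s⁻¹, m⁆ := by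
    intro p hp hpc m hm
    have := cfs _ (hpc _ (hMn s⁻¹ (inv_mem hs) m hm))
    convert this using 1
    simp only [commutatorElement_def]; group
  have he₂c := centr_s d hdM hdc
  have he₃c := centr_s e₂ he₂M he₂c
  have hmem : ∀ x : G, x = d ∨ x = e₂ ∨ x = e₃ → x ∈ M ∧ (∀ m ∈ M, cf ⁅x, m⁆) ∧ ¬ cf x := by
    have hn₂ : ¬ cf e₂ := fun e => hdmove (hs3 ▸ cfs _ (cfs _ e))
    have hn₃ : ¬ cf e₃ := fun e => hdmove (hs3 ▸ cfs _ e)
    rintro x (rfl | rfl | rfl)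
    · exact ⟨hdM, hdc, hdmove⟩
    · exact ⟨he₂M, he₂c, hn₂⟩
    · exact ⟨he₃M, he₃c, hn₃⟩
  have nofix : ∀ x : G, x = d ∨ x = e₂ ∨ x = e₃ → ∀ v ∈ V, x * v * x⁻¹ = v → v = 1 :=
    fun x hx v hv e => by
      by_contra hv1
      exact (hmem x hx).2.2 (central_move x (hmem x hx).1 (hmem x hx).2.1 v hv hv1 e)
  have hC : Conj3 V d e₂ e₃ :=
    { comm := fun v hv u hu => ((memV.1 hv).2.2 u (memV.1 hu).1).eq
      exp := fun v hv => (memV.1 hv).2.1
      act := fun x hx v hv => hVn x (hMK (hmem x hx).1) v hv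
      swap := fun x y hx hy v hv =>
        hcomm_act x y (hMK (hmem x hx).1) (hMK (hmem y hy).1) ((hmem x hx).2.1 y (hmem y hy).1) v hv
      prod := fun v hv => cfS _ (hF.norm_mem hdM) v hv }
  -- sums fixed by `s`
  have hsz : s * z * s⁻¹ = z := h.s_z
  have Vcomm : ∀ p ∈ V, ∀ q ∈ V, ∀ r ∈ V, q * r * p = p * q * r := fun p hp q hq r hr => by
    rw [hC.comm _ (mul_mem hq hr) p hp, mul_assoc]
  have hfixed : ∀ p q r : G, p ∈ V → q ∈ V → r ∈ V → s * p * s⁻¹ = q → s * q * s⁻¹ = r →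
      p * q * r = 1 ∨ p * q * r = z := by
    intro p q r hp hq hr e1 e2
    have e3 : s * r * s⁻¹ = p := by rw [← e2, ← e1, h.s_cubed]
    refine h.fixed (mul_mem (mul_mem (memV.1 hp).1 (memV.1 hq).1) (memV.1 hr).1) ?_
    refine (mul_inv_eq_iff_eq_mul.1 ?_).symm
    calc s * (p * q * r) * s⁻¹ = (s * p * s⁻¹) * (s * q * s⁻¹) * (s * r * s⁻¹) := by group
      _ = p * q * r := by rw [e1, e2, e3, Vcomm p hp q hq r hr]
  have cz : ∀ x : G, s * (x * z * x⁻¹) * s⁻¹ = (s * x * s⁻¹) * z * (s * x * s⁻¹)⁻¹ := fun x => by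
    conv_rhs => rw [← hsz]
    group
  have hm : ∀ x : G, x = d ∨ x = e₂ ∨ x = e₃ → x ∈ K := fun x hx => hMK (hmem x hx).1
  have hd' := hm d (Or.inl rfl)
  have he₂' := hm e₂ (Or.inr (Or.inl rfl))
  have he₃' := hm e₃ (Or.inr (Or.inr rfl))
  have he1 : Conj3.powNorm d e₂ e₃ 1 z = 1 ∨ Conj3.powNorm d e₂ e₃ 1 z = z := by
    simp only [Conj3.powNorm, pow_one]
    exact hfixed _ _ _ (hVn d hd' z hzV) (hVn e₂ he₂' z hzV) (hVn e₃ he₃' z hzV) (cz d) (cz e₂)
  have he2 : Conj3.pairNorm d e₂ e₃ z = 1 ∨ Conj3.pairNorm d e₂ e₃ z = z := by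
    refine hfixed _ _ _ (hVn _ (mul_mem hd' he₂') z hzV) (hVn _ (mul_mem he₂' he₃') z hzV)
      (hVn _ (mul_mem he₃' hd') z hzV) ?_ ?_
    · rw [cz, show s * (d * e₂) * s⁻¹ = e₂ * e₃ by rw [he₃, he₂]; group]
    · rw [cz, show s * (e₂ * e₃) * s⁻¹ = e₃ * (s * e₃ * s⁻¹) by rw [he₃, he₂]; group, hs3]
  -- seventh powers
  obtain ⟨n, k, hn6, hnk⟩ := exists_odd_pow (c := d) fun h3 =>
    hM3 (h3.trans (Subgroup.orderOf_dvd_natCard M hdM))
  have hodd' : ∀ v ∈ V, d ^ n * v * (d ^ n)⁻¹ = v :=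
    cfS _ (mem_of_two_power hnorm hSK hodd (pow_mem hd' n) hnk)
  have hdz : d * z * d⁻¹ ≠ z := fun e => c.z_ne (nofix d (Or.inl rfl) z hzV e)
  have hd7 : d ^ 7 * z * (d ^ 7)⁻¹ = z :=
    (hC.fix_pow_seven hzV hn6 hodd' he1 he2).resolve_left hdz
  have hpowc : ∀ (x : G) (j : ℕ), x ∈ M → (∀ m ∈ M, cf ⁅x, m⁆) → ∀ m ∈ M, cf ⁅x ^ j, m⁆ := by
    intro x j hx hxc m hm
    induction j with
    | zero => intro v hv; simp
    | succ j ih =>
      intro v hv
      have e : ⁅x ^ (j + 1), m⁆ = x * ⁅x ^ j, m⁆ * x⁻¹ * ⁅x, m⁆ := by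
        simp only [commutatorElement_def, pow_succ']; group
      rw [e]
      have h1 := hxc m hm v hv
      have h2 := ih _ (hVn x⁻¹ (inv_mem (hMK hx)) v hv)
      calc x * ⁅x ^ j, m⁆ * x⁻¹ * ⁅x, m⁆ * v * (x * ⁅x ^ j, m⁆ * x⁻¹ * ⁅x, m⁆)⁻¹
          = x * (⁅x ^ j, m⁆ * (x⁻¹ * (⁅x, m⁆ * v * ⁅x, m⁆⁻¹) * x⁻¹⁻¹) * ⁅x ^ j, m⁆⁻¹) * x⁻¹ := by group
        _ = v := by rw [h1, h2]; group
  have h7 : ∀ x : G, x = d ∨ x = e₂ ∨ x = e₃ → cf (x ^ 7) := by
    have hd7' : cf (d ^ 7) :=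
      central_move _ (pow_mem hdM 7) (hpowc d 7 hdM hdc) z hzV c.z_ne hd7
    rintro x (rfl | rfl | rfl)
    · exact hd7'
    · have := cfs _ hd7'
      rwa [← conj_pow] at this
    · have := cfs _ (cfs _ hd7')
      rwa [← conj_pow, ← conj_pow] at this
  have diff : ∀ x y : G, (x = d ∨ x = e₂ ∨ x = e₃) → (y = d ∨ y = e₂ ∨ y = e₃) →
      ∀ v ∈ V, v ≠ 1 → x ^ 6 * y * v * (x ^ 6 * y)⁻¹ = v → ∀ u ∈ V, y * u * y⁻¹ = x * u * x⁻¹ := by
    intro x y hx hy v hv hv1 e u hu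
    have hxy : ∀ m ∈ M, cf ⁅x ^ 6 * y, m⁆ := fun m hm v hv => by
      have h1 := (hmem y hy).2.1 m hm
      have h2 := hpowc x 6 (hmem x hx).1 (hmem x hx).2.1 m hm
      have h3 := h2 v hv
      have hxK : x ∈ K := hMK (hmem x hx).1
      calc ⁅x ^ 6 * y, m⁆ * v * ⁅x ^ 6 * y, m⁆⁻¹
          = x ^ 6 * (⁅y, m⁆ * ((x ^ 6)⁻¹ * (⁅x ^ 6, m⁆ * v * ⁅x ^ 6, m⁆⁻¹) * (x ^ 6)⁻¹⁻¹) *
              ⁅y, m⁆⁻¹) * (x ^ 6)⁻¹ := by simp only [commutatorElement_def]; group
        _ = v := by rw [h3, h1 _ (hVn _ (inv_mem (pow_mem hxK 6)) v hv)]; group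
    have hall := central_move _ (mul_mem (pow_mem (hmem x hx).1 6) (hmem y hy).1) hxy v hv hv1 e
    have h7x := h7 x hx _ (hVn y (hm y hy) u hu)
    rw [← h7x]
    conv_rhs => rw [← hall u hu]
    group
  have hfb : ∀ v ∈ V, (d ^ 6 * e₂) * v * (d ^ 6 * e₂)⁻¹ = v → v = 1 := by
    intro v hv e
    by_contra hv1
    have heq := diff d e₂ (Or.inl rfl) (Or.inr (Or.inl rfl)) v hv hv1 e
    have heq' : ∀ u ∈ V, e₃ * u * e₃⁻¹ = d * u * d⁻¹ := fun u hu => by
      have h1 := heq _ (hVn s⁻¹ (inv_mem hs) u hu)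
      have h2 := congrArg (fun w => s * w * s⁻¹) h1
      rw [← heq u hu, he₃, he₂]
      simpa [he₂, mul_assoc] using h2
    have h3 : cf (d ^ 3) := fun u hu => by
      have h1 := hC.prod u hu
      rw [show d * e₂ * e₃ * u * (d * e₂ * e₃)⁻¹ = d * (e₂ * (e₃ * u * e₃⁻¹) * e₂⁻¹) * d⁻¹ by
        group, heq' u hu, heq _ (hVn d hd' u hu)] at h1
      calc d ^ 3 * u * (d ^ 3)⁻¹ = d * (d * (d * u * d⁻¹) * d⁻¹) * d⁻¹ := by
            simp only [pow_succ, pow_zero, one_mul]; group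
        _ = u := h1
    refine hdz ?_
    have a7 := h7 d (Or.inl rfl) z hzV
    have a6 : d ^ 6 * z * (d ^ 6)⁻¹ = z := by
      calc d ^ 6 * z * (d ^ 6)⁻¹ = d ^ 3 * (d ^ 3 * z * (d ^ 3)⁻¹) * (d ^ 3)⁻¹ := by
            rw [show 6 = 3 + 3 from rfl, pow_add]; group
        _ = z := by rw [h3 z hzV, h3 z hzV]
    calc d * z * d⁻¹ = d * (d ^ 6 * z * (d ^ 6)⁻¹) * d⁻¹ := by rw [a6]
      _ = d ^ 7 * z * (d ^ 7)⁻¹ := by rw [show 7 = 1 + 6 from rfl, pow_add, pow_one]; group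
      _ = z := a7
  have hfc : ∀ v ∈ V, (d ^ 6 * e₃) * v * (d ^ 6 * e₃)⁻¹ = v → v = 1 := by
    intro v hv e
    by_contra hv1
    have heq := diff d e₃ (Or.inl rfl) (Or.inr (Or.inr rfl)) v hv hv1 e
    -- conjugate once: `e₂` acts as `d`
    refine hv1 (hfb v hv ?_)
    have heq' : ∀ u ∈ V, e₂ * u * e₂⁻¹ = d * u * d⁻¹ := fun u hu => by
      have h1 := heq _ (hVn s⁻¹ (inv_mem hs) u hu)
      have h2 := congrArg (fun w => s * w * s⁻¹) h1
      simp only [show s * (e₃ * (s⁻¹ * u * s⁻¹⁻¹) * e₃⁻¹) * s⁻¹ =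
          (s * e₃ * s⁻¹) * u * (s * e₃ * s⁻¹)⁻¹ by group, hs3,
        show s * (d * (s⁻¹ * u * s⁻¹⁻¹) * d⁻¹) * s⁻¹ = e₂ * u * e₂⁻¹ by rw [he₂]; group] at h2
      exact h2.symm
    calc d ^ 6 * e₂ * v * (d ^ 6 * e₂)⁻¹ = d ^ 6 * (e₂ * v * e₂⁻¹) * (d ^ 6)⁻¹ := by group
      _ = d ^ 6 * (e₃ * v * e₃⁻¹) * (d ^ 6)⁻¹ := by rw [heq' v hv, heq v hv]
      _ = d ^ 6 * e₃ * v * (d ^ 6 * e₃)⁻¹ := by group
      _ = v := e
  have hV8 : Nat.card V ≤ 8 := by
    refine hC.card_le_eight hzV h7 hdz hfb hfc (fun v => s * v * s⁻¹)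
      (fun v hv => hVn s hs v hv) (fun i v hv => ?_) he1 he2
    simp only [Conj3.mixNorm]
    refine hfixed _ _ _ (hVn _ (pow_mem hd' i) v hv) (hVn _ (pow_mem he₂' i) _ (hVn s hs v hv))
      (hVn _ (pow_mem he₃' i) _ (hVn s hs _ (hVn s hs v hv))) ?_ ?_
    · rw [he₂, conj_pow]; group
    · rw [show e₃ ^ i = s * e₂ ^ i * s⁻¹ by rw [he₃, conj_pow]]; group
  -- squares and commutators are fixed by `M`
  have h3V : ¬ 3 ∣ Nat.card V := fun h3 =>
    h.three (h3.trans (Subgroup.card_dvd_of_le fun v hv => (memV.1 hv).1))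
  have nofixM : ∀ v ∈ V, (∀ m ∈ M, m * v * m⁻¹ = v) → v = 1 := fun v hv e =>
    nofix d (Or.inl rfl) v hv (e d hdM)
  -- odd elements of `M` centralise `S / V`
  have hFV : FpfSection s M V :=
    { le := fun v hv => hNM (memV.1 hv).1
      normal := fun y hy n hn => hVn y (hMK hy) n hn
      cube := c.s_cube
      three := h3V
      actY := hsM
      actN := fun n hn => hVn s hs n hn
      fixed := fun y hy hys => by
        rcases c.mem_zpowers_z_iff.1 (hNfix y (hF.fixed y hy hys) hys) with e | e <;> rw [e]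
        · exact one_mem _
        · exact hzV }
  have hodd_elt : ∀ m ∈ M, ∀ x ∈ S₀, Odd (orderOf m) → ∃ v ∈ V, m * x * m⁻¹ = v * x := by
    intro m hm x hx ho
    refine ⟨⁅m, x⁆, hFV.commutator_coprime_mem hm (hNM hx) ?_, by rw [commutatorElement_def]; group⟩
    obtain ⟨j, hj⟩ := h.two ⟨x, hx⟩
    have : x ^ 2 ^ j = 1 := congrArg Subtype.val hj
    exact Nat.Coprime.coprime_dvd_right (orderOf_dvd_of_pow_eq_one this)
      ((Nat.coprime_two_left.2 ho).pow_left j).symm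
  have oddfix : ∀ v ∈ V, (∀ m ∈ M, Odd (orderOf m) → m * v * m⁻¹ = v) → v = 1 := by
    intro v hv e
    refine nofixM v hv fun m hm => ?_
    -- a `2`-power of `m` has odd order and differs by a `2`-element
    obtain ⟨i, n', hn', he⟩ := Nat.exists_eq_pow_mul_and_not_dvd (orderOf_pos m).ne' 2 (by norm_num)
    have h2 : (m ^ n') ^ 2 ^ i = 1 := by rw [← pow_mul, mul_comm, ← he, pow_orderOf_eq_one]
    have hy := cfS _ (mem_of_two_power hnorm hSK hodd (pow_mem (hMK hm) n') h2) v hv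
    have ho : Odd (orderOf (m ^ 2 ^ i)) := by
      rw [orderOf_pow_of_dvd (by positivity) ⟨n', he⟩, he, Nat.mul_div_cancel_left _ (by positivity)]
      exact Nat.not_even_iff_odd.1 fun h' => hn' (even_iff_two_dvd.1 h')
    have hx := e _ (pow_mem hm _) ho
    -- combine
    have hst : ∀ g : G, g * v * g⁻¹ = v → Commute g v := fun g hg => mul_inv_eq_iff_eq_mul.1 hg
    have hco : (2 ^ i).gcd n' = 1 :=
      ((Nat.prime_two.coprime_iff_not_dvd.2 hn').pow_left i)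
    have hbez := Nat.gcd_eq_gcd_ab (2 ^ i) n'
    rw [hco] at hbez
    have : Commute m v := by
      have h1 : m = (m ^ 2 ^ i) ^ ((2 ^ i).gcdA n') * (m ^ n') ^ ((2 ^ i).gcdB n') := by
        rw [← zpow_natCast m (2 ^ i), ← zpow_natCast m n', ← zpow_mul, ← zpow_mul, ← zpow_add]
        push_cast at hbez ⊢
        rw [← hbez, zpow_one]
      rw [h1]
      exact ((hst _ hx).zpow_left _).mul_left ((hst _ hy).zpow_left _)
    rw [this.eq, mul_inv_cancel_right]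
  have hsqfix : ∀ x ∈ S₀, ∀ m ∈ M, Odd (orderOf m) → m * (x * x) * m⁻¹ = x * x := by
    intro x hx m hm ho
    obtain ⟨v, hv, e⟩ := hodd_elt m hm x hx ho
    calc m * (x * x) * m⁻¹ = (m * x * m⁻¹) * (m * x * m⁻¹) := by group
      _ = x * x := by
        rw [e, ((memV.1 hv).2.2 x hx).symm.mul_mul_mul_comm, (memV.1 hv).2.1, one_mul]
  have hexp : ∀ x ∈ S₀, x * x = 1 := by
    have hsq0 : ∀ x ∈ S₀, x * x ∈ V → x * x = 1 := fun x hx hxx =>
      oddfix _ hxx fun m hm ho => hsqfix x hx m hm ho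
    have hcomm0 : ∀ x ∈ S₀, ∀ y ∈ S₀, ⁅x, y⁆ ∈ V → ⁅x, y⁆ = 1 := by
      intro x hx y hy hxy
      refine oddfix _ hxy fun m hm ho => ?_
      obtain ⟨v, hv, e⟩ := hodd_elt m hm x hx ho
      obtain ⟨v', hv', e'⟩ := hodd_elt m hm y hy ho
      have c1 := (memV.1 hv).2.2
      have c2 := (memV.1 hv').2.2
      have hxy' : ⁅x, y⁆ ∈ S₀ := (memV.1 hxy).1
      calc m * ⁅x, y⁆ * m⁻¹ = ⁅m * x * m⁻¹, m * y * m⁻¹⁆ := by
            simp only [commutatorElement_def]; group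
        _ = ⁅v * x, v' * y⁆ := by rw [e, e']
        _ = v * ⁅x, v'⁆ * v⁻¹ * (v * (v' * ⁅x, y⁆ * v'⁻¹) * v⁻¹) * ⁅v, v' * y⁆ := by
            simp only [commutatorElement_def]; group
        _ = ⁅x, y⁆ := by
            rw [commutatorElement_eq_one_iff_mul_comm.2 (c2 x hx).symm.eq,
              commutatorElement_eq_one_iff_mul_comm.2 (c1 _ (mul_mem (memV.1 hv').1 hy)).eq,
              (c2 _ hxy').eq, mul_inv_cancel_right, mul_one, mul_one, mul_inv_cancel, one_mul,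
              (c1 _ hxy').eq, mul_inv_cancel_right]
    -- the last nontrivial term of the lower central series would be fixed by `M`
    have hab : ∀ x ∈ S₀, ∀ y ∈ S₀, Commute x y := by
      set N : Subgroup G := ⁅S₀, S₀⁆ with hN
      by_contra hcon
      push Not at hcon
      obtain ⟨x, hx, y, hy, hxy⟩ := hcon
      have hNne : N ≠ ⊥ := fun e => hxy (commutatorElement_eq_one_iff_commute.1
        ((Subgroup.mem_bot).1 (e ▸ Subgroup.commutator_mem_commutator hx hy)))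
      have hNS : N ≤ S₀ := Subgroup.commutator_le.2 fun p hp q hq =>
        mul_mem (mul_mem (mul_mem hp hq) (inv_mem hp)) (inv_mem hq)
      have hNK : ∀ k ∈ K, ∀ n ∈ N, k * n * k⁻¹ ∈ N := by
        intro k hk n hn
        have hle : N ≤ N.comap (MulAut.conj k).toMonoidHom := Subgroup.commutator_le.2
          fun p hp q hq => by
            show (MulAut.conj k).toMonoidHom ⁅p, q⁆ ∈ N
            rw [map_commutatorElement]
            exact Subgroup.commutator_mem_commutator (hnorm k hk p hp) (hnorm k hk q hq)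
        exact hle hn
      obtain ⟨v, hvN, hv2, hvc⟩ := exists_central_involution h.two hNS
        (fun x hx n hn => hNK x (hSK hx) n hn) hNne
      have hvV : v ∈ V := memV.2 ⟨hNS hvN, by rw [← sq, ← hv2, pow_orderOf_eq_one], hvc⟩
      -- every element of `N` fixed by odd elements
      have hfixN : ∀ n ∈ N, ∀ m ∈ M, Odd (orderOf m) → m * n * m⁻¹ = n := by
        intro n hn m hm ho
        have hle : N ≤ MonoidHom.eqLocus (MulAut.conj m).toMonoidHom (MonoidHom.id G) :=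
          Subgroup.commutator_le.2 fun p hp q hq => by
            obtain ⟨v, hv, e⟩ := hodd_elt m hm p hp ho
            obtain ⟨v', hv', e'⟩ := hodd_elt m hm q hq ho
            have c1 := (memV.1 hv).2.2
            have c2 := (memV.1 hv').2.2
            have hpq : ⁅p, q⁆ ∈ S₀ := hNS (Subgroup.commutator_mem_commutator hp hq)
            show m * ⁅p, q⁆ * m⁻¹ = ⁅p, q⁆
            calc m * ⁅p, q⁆ * m⁻¹ = ⁅m * p * m⁻¹, m * q * m⁻¹⁆ := by
                  simp only [commutatorElement_def]; group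
              _ = ⁅v * p, v' * q⁆ := by rw [e, e']
              _ = v * ⁅p, v'⁆ * v⁻¹ * (v * (v' * ⁅p, q⁆ * v'⁻¹) * v⁻¹) * ⁅v, v' * q⁆ := by
                  simp only [commutatorElement_def]; group
              _ = ⁅p, q⁆ := by
                  rw [commutatorElement_eq_one_iff_mul_comm.2 (c2 p hp).symm.eq,
                    commutatorElement_eq_one_iff_mul_comm.2 (c1 _ (mul_mem (memV.1 hv').1 hq)).eq,
                    (c2 _ hpq).eq, mul_inv_cancel_right, mul_one, mul_one, mul_inv_cancel, one_mul,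
                    (c1 _ hpq).eq, mul_inv_cancel_right]
        exact hle hn
      have := oddfix v hvV fun m hm ho => hfixN v hvN m hm ho
      rw [this, orderOf_one] at hv2
      omega
    intro x hx
    obtain ⟨j, hj⟩ := h.two ⟨x, hx⟩
    have hj' : x ^ 2 ^ j = 1 := congrArg Subtype.val hj
    clear hj
    induction j generalizing x with
    | zero => rw [pow_zero, pow_one] at hj'; rw [hj', one_mul]
    | succ j ih =>
      have h2 : x * x * (x * x) = 1 :=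
        ih (x * x) (mul_mem hx hx) (by rw [← sq, ← pow_mul, ← pow_succ', hj'])
      exact hsq0 x hx (memV.2 ⟨mul_mem hx hx, h2, fun p hp => hab _ (mul_mem hx hx) p hp⟩)
  have hSV : S₀ ≤ V := fun x hx => memV.2 ⟨hx, hexp x hx, fun y hy => by
    have h1 := hexp _ (mul_mem hx hy)
    have e1 := inv_eq_of_mul_eq_one_right (hexp x hx)
    have e2 := inv_eq_of_mul_eq_one_right (hexp y hy)
    have e3 := inv_eq_of_mul_eq_one_right h1
    rw [mul_inv_rev, e1, e2] at e3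
    exact e3.symm⟩
  exact (Subgroup.card_le_of_le hSV).trans hV8

/-- A Sylow 2-subgroup of `C(z)` normalised by `s` has order at most eight. -/
theorem two_closed (hconj : ∀ x y : G, orderOf x = 2 → orderOf y = 2 → IsConj x y)
    (c : Ctx z s) (S : Sylow 2 G) (hzc : ∀ x ∈ (S : Subgroup G), Commute x z)
    (hs : ∀ x ∈ (S : Subgroup G), s * x * s⁻¹ ∈ (S : Subgroup G)) :
    Nat.card (S : Subgroup G) ≤ 8 := by
  classical
  haveI : Fact (Nat.Prime 2) := ⟨Nat.prime_two⟩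
  have hzS : z ∈ (S : Subgroup G) := by
    have hnorm : Subgroup.zpowers z ≤ Subgroup.normalizer ((S : Subgroup G) : Set G) := by
      rw [Subgroup.zpowers_le, Subgroup.mem_normalizer_iff]
      intro x
      refine ⟨fun hx => by rwa [(hzc x hx).symm.eq, mul_inv_cancel_right], fun hx => ?_⟩
      have h1 := hzc _ hx
      have h2 : z * x * z⁻¹ = x := by
        have h3 := h1.eq
        rw [inv_mul_cancel_right] at h3
        calc z * x * z⁻¹ = z * (z * x * z⁻¹) * z⁻¹ := by rw [← h3]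
          _ = z * z * x * (z * z)⁻¹ := by group
          _ = x := by rw [c.z_sq, one_mul, inv_one, mul_one]
      rwa [h2] at hx
    have h1 : IsPGroup 2 ↥((S : Subgroup G) ⊔ Subgroup.zpowers z) :=
      S.2.to_sup_of_normal_left' (IsPGroup.of_card (n := 1) (by rw [c.card_zpowers_z]; rfl)) hnorm
    exact (S.3 h1 le_sup_left).le (le_sup_right (a := (S : Subgroup G)) (Subgroup.mem_zpowers z))
  have h : TwoR z s (S : Subgroup G) := ⟨c, S.2, hzS, hzc, hs⟩
  by_cases hw : ∀ w ∈ (S : Subgroup G), orderOf w = 2 →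
      (∀ x ∈ (S : Subgroup G), Commute w x) → w = z
  swap
  · push Not at hw
    obtain ⟨w, a1, a2, a3, a4⟩ := hw
    exact two_closed_center hconj c S h a1 a2 a3 a4
  have hZ : ∀ w ∈ (S : Subgroup G), (∀ x ∈ (S : Subgroup G), Commute w x) → w = 1 ∨ w = z :=
    fun w hwS hwc => h.center_eq hw hwS hwc
  by_cases hns : ∀ p ∈ h.zTwo, p * p = 1 → p = 1 ∨ p = z
  · exact h.card_le_eight_of_no_singular hZ hns
  push Not at hns
  obtain ⟨a, ha, ha2, ha1, haz⟩ := hns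
  set D : Subgroup G := (S : Subgroup G) ⊓ Subgroup.centralizer {a} with hDdef
  have hD : ∀ x, x ∈ D ↔ x ∈ (S : Subgroup G) ∧ Commute x a := fun x =>
    ⟨fun hx => ⟨hx.1, Subgroup.mem_centralizer_singleton_iff.1 hx.2⟩,
      fun hx => ⟨hx.1, Subgroup.mem_centralizer_singleton_iff.2 hx.2.eq⟩⟩
  obtain ⟨r0, hr0, har0⟩ : ∃ r0 ∈ (S : Subgroup G), ⁅a, r0⁆ = z := by
    by_contra hcon
    push Not at hcon
    refine (hZ a ha.1 fun r hr => ?_).elim ha1 haz
    exact commutatorElement_eq_one_iff_commute.1 ((ha.2 r hr).resolve_right (hcon r hr))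
  have hD2 : Nat.card (S : Subgroup G) = 2 * Nat.card D := by
    have hi : (D.subgroupOf (S : Subgroup G)).index = 2 := by
      rw [Subgroup.index_eq_two_iff]
      refine ⟨⟨r0, hr0⟩, fun b => ?_⟩
      rcases ha.2 b b.2 with e | e
      · refine Or.inr ⟨(hD _).2 ⟨b.2, (commutatorElement_eq_one_iff_commute.1 e).symm⟩, fun hm => ?_⟩
        have h1 : Commute ((b : G) * r0) a := ((hD _).1 hm).2
        have h2 := (commutatorElement_eq_one_iff_commute.1 e).symm.inv_left.mul_left h1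
        rw [inv_mul_cancel_left] at h2
        exact c.z_ne (har0 ▸ commutatorElement_eq_one_iff_commute.2 h2.symm)
      · refine Or.inl ⟨(hD _).2 ⟨mul_mem b.2 hr0, (h.mul_centralises ha b.2 hr0 e har0).symm⟩,
          fun hm => c.z_ne (e ▸ commutatorElement_eq_one_iff_commute.2 ((hD _).1 hm).2.symm)⟩
    have h1 := (D.subgroupOf (S : Subgroup G)).card_mul_index
    rw [hi, Nat.card_congr (Subgroup.subgroupOfEquivOfLe (show D ≤ (S : Subgroup G) from
      inf_le_left)).toEquiv] at h1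
    omega
  obtain ⟨g, hga, hgz, hgD, -⟩ := exists_moving hconj S c.z_ord hzc hzS hZ
    (orderOf_eq_prime (by rw [sq, ha2]) ha1) ha.1 haz hD hD2
  exact h.card_le_of_moved hZ ha ha1 haz ha2 hD hga hgz hgD

end CfsgLib.SelfCentralSix57
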