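import Cfsg.Agent.SelfCentralSix57.QuatCore
import Cfsg.Agent.SelfCentralSix57.Moving

/-!
# A Sylow 2-subgroup normalised by `s` with centre `⟨z⟩` has order at most eight
-/

set_option autoImplicit false
set_option linter.style.haveILetI false
set_option linter.unusedSectionVars false

namespace CfsgLib.SelfCentralSix57

open scoped commutatorElement

universe u

variable {G : Type u} [Group G] [Finite G]

namespace TwoR

variable {z s : G} {R : Subgroup G} (h : TwoR z s R)
include h

/-- The element `w` of a second centre has a centraliser of index at most two. -/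
theorem mul_centralises {a x y : G} (ha : a ∈ h.zTwo) (hx : x ∈ R) (hy : y ∈ R)
    (hxa : ⁅a, x⁆ = z) (hya : ⁅a, y⁆ = z) : Commute a (x * y) := by
  rw [← commutatorElement_eq_one_iff_commute, h.mul_commutator ha hx hy, hxa, hya, h.ctx.z_sq]

/-- If an element fixing `a` and moving `z` normalises `C_R(a)` then `R` has order at most eight. -/
theorem card_le_of_moved (hZ : ∀ w ∈ R, (∀ r ∈ R, Commute w r) → w = 1 ∨ w = z) {a g : G}
    (ha : a ∈ h.zTwo) (ha1 : a ≠ 1) (haz : a ≠ z) (ha2 : a * a = 1) {D : Subgroup G}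
    (hD : ∀ x, x ∈ D ↔ x ∈ R ∧ Commute x a) (hga : Commute g a) (hgz : ¬ Commute g z)
    (hgD : ∀ x, g * x * g⁻¹ ∈ D ↔ x ∈ D) : Nat.card R ≤ 8 := by
  classical
  have hDR : ∀ {x}, x ∈ D → x ∈ R := fun hx => ((hD _).1 hx).1
  have hga' : g * a * g⁻¹ = a := by rw [hga.eq, mul_inv_cancel_right]
  have hgz' : g * z * g⁻¹ ≠ z := fun e => hgz (mul_inv_eq_iff_eq_mul.1 e)
  have ha0 : ∃ r0 ∈ R, ⁅a, r0⁆ = z := by
    by_contra hcon
    push Not at hcon
    refine (hZ a ha.1 fun r hr => ?_).elim ha1 haz
    exact commutatorElement_eq_one_iff_commute.1 ((ha.2 r hr).resolve_right (hcon r hr))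
  obtain ⟨r0, hr0, har0⟩ := ha0
  have split : ∀ r ∈ R, r ∈ D ∨ r * r0 ∈ D := by
    intro r hr
    rcases ha.2 r hr with e | e
    · exact Or.inl ((hD r).2 ⟨hr, (commutatorElement_eq_one_iff_commute.1 e).symm⟩)
    · exact Or.inr ((hD _).2 ⟨mul_mem hr hr0, (h.mul_centralises ha hr hr0 e har0).symm⟩)
  have hgc : ∀ x y : G, g * ⁅x, y⁆ * g⁻¹ = ⁅g * x * g⁻¹, g * y * g⁻¹⁆ := fun x y => by
    simp only [commutatorElement_def]; group
  have hginv : ∀ x ∈ D, g⁻¹ * x * g ∈ D := fun x hx =>
    (hgD _).1 (by simpa [mul_assoc] using hx)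
  -- commutators of `D` are central in `D`
  have hcl : ∀ x ∈ D, ∀ y ∈ D, ∀ w ∈ D, Commute ⁅x, y⁆ w := by
    intro x hx y hy w hw
    rw [← commutatorElement_eq_one_iff_commute]
    rcases h.class_two (hDR hx) (hDR hy) (hDR hw) with e | e
    · exact e
    exfalso
    rcases h.class_two (hDR ((hgD x).2 hx)) (hDR ((hgD y).2 hy)) (hDR ((hgD w).2 hw)) with e' | e' <;>
      rw [← hgc, ← hgc, e] at e'
    · exact h.ctx.z_ne (conj_eq_one_iff.1 e')
    · exact hgz' e'
  -- commutators of `D` lie in `⟨z, a⟩`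
  have hE : ∀ x ∈ D, ∀ y ∈ D,
      (⁅x, y⁆ = 1 ∨ ⁅x, y⁆ = z) ∨ (⁅x, y⁆ = a ∨ ⁅x, y⁆ = z * a) := by
    intro x hx y hy
    set w := ⁅x, y⁆ with hw
    have hwP : w ∈ h.zTwo := h.commutator_mem_zTwo (hDR hx) (hDR hy)
    by_cases hwr : ⁅w, r0⁆ = 1
    · refine Or.inl (hZ w hwP.1 fun r hr => ?_)
      rcases split r hr with hrD | hrD
      · exact hcl x hx y hy r hrD
      · have := (hcl x hx y hy _ hrD).mul_right
          (commutatorElement_eq_one_iff_commute.1 hwr).inv_right
        rwa [mul_inv_cancel_right] at this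
    · refine Or.inr ?_
      have hwa : w * a ∈ h.zTwo := mul_mem hwP ha
      have hwD : ∀ r ∈ D, Commute (w * a) r := fun r hr =>
        (hcl x hx y hy r hr).mul_left ((hD r).1 hr).2.symm
      have hwr0 : Commute (w * a) r0 := by
        rw [← commutatorElement_eq_one_iff_commute, h.commutator_mul hwP ha hr0,
          (hwP.2 r0 hr0).resolve_left hwr, har0, h.ctx.z_sq]
      have := hZ _ hwa.1 fun r hr => by
        rcases split r hr with hrD | hrD
        · exact hwD r hrD
        · have := (hwD _ hrD).mul_right hwr0.inv_right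
          rwa [mul_inv_cancel_right] at this
      have hai : a⁻¹ = a := inv_eq_of_mul_eq_one_right ha2
      rcases this with e | e
      · left
        rw [eq_inv_of_mul_eq_one_left e, hai]
      · right
        rw [eq_mul_inv_iff_mul_eq.2 e, hai]
  -- the conjugate `b` of `a`
  set b := s * a * s⁻¹ with hb
  have hbP : b ∈ h.zTwo := h.act_zTwo ha
  have hai : a⁻¹ = a := inv_eq_of_mul_eq_one_right ha2
  have hbab : b ≠ a ∧ b ≠ a * z := ⟨fun e =>
      (h.mem_of_fixed_coset ha.1 (Or.inl e)).elim ha1 haz,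
    fun e => (h.mem_of_fixed_coset ha.1 (Or.inr e)).elim ha1 haz⟩
  obtain ⟨v, hv, hbv⟩ : ∃ v ∈ D, ⁅b, v⁆ = z := by
    by_contra hcon
    push Not at hcon
    have hbD : ∀ r ∈ D, Commute b r := fun r hr =>
      commutatorElement_eq_one_iff_commute.1 ((hbP.2 r (hDR hr)).resolve_right (hcon r hr))
    have cen : ∀ p ∈ h.zTwo, (∀ r ∈ D, Commute p r) → ⁅p, r0⁆ = 1 → p = 1 ∨ p = z := by
      intro p hp hpD hp0
      refine hZ p hp.1 fun r hr => ?_
      rcases split r hr with hrD | hrD
      · exact hpD r hrD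
      · have := (hpD _ hrD).mul_right (commutatorElement_eq_one_iff_commute.1 hp0).inv_right
        rwa [mul_inv_cancel_right] at this
    rcases hbP.2 r0 hr0 with e | e
    · have hb' := cen b hbP hbD e
      have := congrArg (fun w => s * (s * w * s⁻¹) * s⁻¹) (show b = b from rfl)
      rcases hb' with e' | e'
      · exact ha1 (conj_eq_one_iff.1 e')
      · refine haz ?_
        have h2 := congrArg (fun w => s⁻¹ * w * s) e'
        simp only [hb] at h2
        rw [show s⁻¹ * (s * a * s⁻¹) * s = a by group] at h2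
        rw [h2, mul_assoc, h.ctx.comm.eq, inv_mul_cancel_left]
    · have h2 := cen (b * a) (mul_mem hbP ha)
        (fun r hr => (hbD r hr).mul_left ((hD r).1 hr).2.symm)
        (by rw [h.commutator_mul hbP ha hr0, e, har0, h.ctx.z_sq])
      rcases h2 with e' | e'
      · exact hbab.1 (by rw [eq_inv_of_mul_eq_one_left e', hai])
      · refine hbab.2 ?_
        rw [eq_mul_inv_iff_mul_eq.2 e', hai, (h.central a ha.1).eq]
  -- `C = D ∩ D^s`
  set C : Subgroup G := D ⊓ Subgroup.centralizer {b} with hCdef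
  have hCs : ∀ c ∈ C, s * c * s⁻¹ ∈ C := by
    intro c hc
    have hcb : Commute c b := Subgroup.mem_centralizer_singleton_iff.1 hc.2
    have hca : Commute c a := ((hD c).1 hc.1).2
    have hsb : Commute (s * c * s⁻¹) b := by
      simpa [hb] using hca.map (MulAut.conj s).toMonoidHom
    have hsa : Commute (s * c * s⁻¹) a := by
      have hd : Commute (s * c * s⁻¹) (s * b * s⁻¹) := by
        simpa using hcb.map (MulAut.conj s).toMonoidHom
      have hn : a * b * (s * b * s⁻¹) = 1 ∨ a * b * (s * b * s⁻¹) = z := h.norm ha.1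
      have hsc : s * c * s⁻¹ ∈ R := h.act c (hDR hc.1)
      have := ((h.z_comm hn hsc).symm.mul_right hd.inv_right).mul_right hsb.inv_right
      rwa [mul_inv_cancel_right, mul_inv_cancel_right] at this
    exact ⟨(hD _).2 ⟨h.act c (hDR hc.1), hsa⟩, Subgroup.mem_centralizer_singleton_iff.2 hsb.eq⟩
  have splitD : ∀ x ∈ D, x ∈ C ∨ x * v ∈ C := by
    intro x hx
    rcases hbP.2 x (hDR hx) with e | e
    · exact Or.inl ⟨hx, Subgroup.mem_centralizer_singleton_iff.2
        (commutatorElement_eq_one_iff_commute.1 e).symm.eq⟩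
    · exact Or.inr ⟨mul_mem hx hv, Subgroup.mem_centralizer_singleton_iff.2
        (h.mul_centralises hbP (hDR hx) (hDR hv) e hbv).symm.eq⟩
  -- commutators of `D` are `1` or `z`
  have hCC : ∀ c ∈ C, ∀ d ∈ C, ⁅c, d⁆ = 1 ∨ ⁅c, d⁆ = z := by
    intro c hc d hd
    rcases hE c hc.1 d hd.1 with e | e
    · exact e
    exfalso
    have h1 := hE _ (hCs c hc).1 _ (hCs d hd).1
    rw [show ⁅s * c * s⁻¹, s * d * s⁻¹⁆ = s * ⁅c, d⁆ * s⁻¹ by
      simp only [commutatorElement_def]; group] at h1
    have hsv : s * ⁅c, d⁆ * s⁻¹ = b ∨ s * ⁅c, d⁆ * s⁻¹ = z * b := by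
      rcases e with e | e <;> rw [e]
      · exact Or.inl rfl
      · refine Or.inr ?_
        conv_rhs => rw [hb, ← h.s_z]
        group
    have hzb : z * (z * b) = b := by rw [← mul_assoc, h.ctx.z_sq, one_mul]
    have hb1 : b ≠ 1 := fun e => ha1 (conj_eq_one_iff.1 e)
    have hbz : b ≠ z := fun e => haz (by
      have h2 := congrArg (fun w => s⁻¹ * w * s) e
      simp only [hb] at h2
      rw [show s⁻¹ * (s * a * s⁻¹) * s = a by group] at h2
      rw [h2, mul_assoc, h.ctx.comm.eq, inv_mul_cancel_left])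
    have hza : z * a = a * z := (h.central a ha.1).eq.symm
    rcases hsv with e2 | e2 <;> rw [e2] at h1 <;> rcases h1 with (e3 | e3) | (e3 | e3)
    · exact hb1 e3
    · exact hbz e3
    · exact hbab.1 e3
    · exact hbab.2 (e3.trans hza)
    · exact hbz (by rw [← hzb, e3, mul_one])
    · exact hb1 (by rw [← hzb, e3, h.ctx.z_sq])
    · exact hbab.2 (by rw [← hzb, e3, hza])
    · exact hbab.1 (by rw [← hzb, e3, ← mul_assoc, h.ctx.z_sq, one_mul])
  -- `C` lies in the second centre
  have hCv : ∀ c ∈ C, ⁅c, v⁆ = 1 ∨ ⁅c, v⁆ = z := by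
    -- the subgroup of those elements is invariant
    have inP : ∀ c ∈ C, (⁅c, v⁆ = 1 ∨ ⁅c, v⁆ = z) → c ∈ h.zTwo := by
      intro c hc e
      have hcs := hCs c hc
      have hcD : ∀ x ∈ D, ⁅c, x⁆ = 1 ∨ ⁅c, x⁆ = z := by
        intro x hx
        rcases splitD x hx with hxC | hxC
        · exact hCC c hc x hxC
        · have e1 : ⁅c, x * v⁆ = ⁅c, x⁆ * (x * ⁅c, v⁆ * x⁻¹) := by
            simp only [commutatorElement_def]; group
          rw [← (h.z_comm e (hDR hx)).eq, mul_inv_cancel_right] at e1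
          have e2 : ⁅c, x⁆ = ⁅c, x * v⁆ * ⁅c, v⁆ := by
            rw [e1, mul_assoc, h.sq_z e, mul_one]
          rw [e2]
          exact h.z_mul (hCC c hc _ hxC) e
      refine ⟨hDR hc.1, fun r hr => ?_⟩
      rcases split r hr with hrD | hrD
      · exact hcD r hrD
      -- the outer element: an element of `D^s`
      obtain ⟨u, hu, huD, hub⟩ : ∃ u ∈ R, u ∉ D ∧ Commute u b := by
        refine ⟨s * v * s⁻¹, h.act v (hDR hv), fun hm => ?_, ?_⟩
        · have h1 := ((hD _).1 hm).2
          have h2 : Commute (s * v * s⁻¹) b := by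
            simpa [hb] using ((hD v).1 hv).2.map (MulAut.conj s).toMonoidHom
          have hn : a * b * (s * b * s⁻¹) = 1 ∨ a * b * (s * b * s⁻¹) = z := h.norm ha.1
          have h3 : Commute (s * v * s⁻¹) (s * b * s⁻¹) := by
            have := (h2.inv_right.mul_right h1.inv_right).mul_right
              (h.z_comm hn (h.act v (hDR hv))).symm
            rwa [show b⁻¹ * a⁻¹ * (a * b * (s * b * s⁻¹)) = s * b * s⁻¹ by group] at this
          have h4 := h3.map (MulAut.conj s⁻¹).toMonoidHom
          simp [mul_assoc] at h4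
          have h5 : ⁅b, v⁆ = 1 := commutatorElement_eq_one_iff_commute.2 h4.symm
          rw [hbv] at h5
          exact h.ctx.z_ne h5
        · simpa [hb] using ((hD v).1 hv).2.map (MulAut.conj s).toMonoidHom
      have hru : r * u ∈ D := by
        have h1 : ⁅a, r⁆ = z := by
          refine (ha.2 r hr).resolve_left fun e' => ?_
          have hrD' : r ∈ D := (hD r).2 ⟨hr, (commutatorElement_eq_one_iff_commute.1 e').symm⟩
          have h2 := mul_mem (inv_mem hrD') hrD
          rw [inv_mul_cancel_left] at h2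
          exact h.ctx.z_ne (har0 ▸ commutatorElement_eq_one_iff_commute.2 ((hD r0).1 h2).2.symm)
        have h2 : ⁅a, u⁆ = z := (ha.2 u hu).resolve_left fun e' =>
          huD ((hD u).2 ⟨hu, (commutatorElement_eq_one_iff_commute.1 e').symm⟩)
        exact (hD _).2 ⟨mul_mem hr hu, (h.mul_centralises ha hr hu h1 h2).symm⟩
      -- commutators with `u`
      have hcu : ⁅c, u⁆ = 1 ∨ ⁅c, u⁆ = z := by
        by_cases huv : ⁅c, u⁆ = 1
        · exact Or.inl huv
        have hunD : u * v ∈ R := mul_mem hu (hDR hv)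
        have e1 : ⁅c, u * v⁆ = ⁅c, u⁆ * (u * ⁅c, v⁆ * u⁻¹) := by
          simp only [commutatorElement_def]; group
        rw [← (h.z_comm e hu).eq, mul_inv_cancel_right] at e1
        -- `u = s x s⁻¹` and `u v = s² y s⁻²` with `x, y ∈ D`
        have hx : s * (s * u * s⁻¹) * s⁻¹ ∈ D := by
          refine (hD _).2 ⟨h.act _ (h.act u hu), ?_⟩
          have := hub.map ((MulAut.conj s).toMonoidHom.comp (MulAut.conj s).toMonoidHom)
          simpa [hb, h.s_cubed] using this
        have hy : s * (u * v) * s⁻¹ ∈ D := by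
          refine (hD _).2 ⟨h.act _ hunD, ?_⟩
          have hn : a * b * (s * b * s⁻¹) = 1 ∨ a * b * (s * b * s⁻¹) = z := h.norm ha.1
          have hab : Commute (u * v) (a * b) := by
            rw [← commutatorElement_eq_one_iff_commute]
            have e2 : ⁅a * b, u * v⁆ = 1 := by
              rw [h.commutator_mul ha hbP hunD, h.mul_commutator ha hu (hDR hv),
                h.mul_commutator hbP hu (hDR hv), hbv,
                commutatorElement_eq_one_iff_commute.2 hub.symm,
                commutatorElement_eq_one_iff_commute.2 ((hD v).1 hv).2.symm, one_mul, mul_one,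
                (ha.2 u hu).resolve_left fun e' =>
                  huD ((hD u).2 ⟨hu, (commutatorElement_eq_one_iff_commute.1 e').symm⟩),
                h.ctx.z_sq]
            rw [← commutatorElement_inv, e2, inv_one]
          have h3 : Commute (u * v) (s * b * s⁻¹) := by
            have := hab.inv_right.mul_right (h.z_comm hn hunD).symm
            rwa [show (a * b)⁻¹ * (a * b * (s * b * s⁻¹)) = s * b * s⁻¹ by group] at this
          have := h3.map (MulAut.conj s).toMonoidHom
          simpa [hb, h.s_cubed] using this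
        have hcs2 := hCs _ hcs
        have hse : ∀ p q : G, s * ⁅p, q⁆ * s⁻¹ = ⁅s * p * s⁻¹, s * q * s⁻¹⁆ := fun p q => by
          simp only [commutatorElement_def]; group
        have E1 := hE _ hcs2.1 _ hx
        rw [← hse, ← hse] at E1
        have E2 := hE _ hcs.1 _ hy
        rw [← hse, e1] at E2
        set w := ⁅c, u⁆ with hwdef
        have hwP : w ∈ h.zTwo := h.commutator_mem_zTwo (hDR hc.1) hu
        -- compare the two positions of `w`
        by_cases hw : w = z
        · exact Or.inr hw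
        exfalso
        have key : ∀ p ∈ R, (p = a ∨ p = z * a) →
            ∀ q, (q = 1 ∨ q = z) → s * p * s⁻¹ ≠ q * p := by
          intro p hp hpa q hq heq
          have : p = 1 ∨ p = z := h.mem_of_fixed_coset hp (by
            rw [heq]
            rcases hq with rfl | rfl
            · exact Or.inl (one_mul _)
            · exact Or.inr (h.central p hp).eq.symm)
          rcases hpa with rfl | rfl
          · exact this.elim ha1 haz
          · rcases this with e4 | e4
            · exact haz (by rw [eq_inv_of_mul_eq_one_right e4, h.ctx.z_inv])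
            · exact ha1 (mul_eq_left.1 e4)
        have nz : ∀ q, (q = 1 ∨ q = z) → s * (s * w * s⁻¹) * s⁻¹ ≠ q := by
          intro q hq heq
          have h2 := congrArg (fun x => s * x * s⁻¹) heq
          simp only [h.s_cubed] at h2
          rcases hq with rfl | rfl
          · exact huv (by simpa using h2)
          · exact hw (h2.trans h.s_z)
        rcases E1 with E1 | E1
        · exact nz _ (E1.elim (fun e' => e' ▸ Or.inl rfl) fun e' => e' ▸ Or.inr rfl) rfl
        rcases E2 with E2 | E2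
        · have h2 : s * (s * (w * ⁅c, v⁆) * s⁻¹) * s⁻¹ = s * (s * w * s⁻¹) * s⁻¹ * ⁅c, v⁆ := by
            rcases e with e' | e' <;> rw [e']
            · group
            · conv_rhs => arg 2; rw [← h.s_z]
              conv_rhs => arg 2; arg 1; arg 2; rw [← h.s_z]
              group
          refine nz (s * (s * (w * ⁅c, v⁆) * s⁻¹) * s⁻¹ * ⁅c, v⁆) (h.z_mul ?_ e) ?_
          · rcases E2 with e' | e' <;> rw [e']
            · exact Or.inl (by group)
            · exact Or.inr h.s_z
          · rw [h2, mul_assoc _ ⁅c, v⁆ ⁅c, v⁆, h.sq_z e, mul_one]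
        · have hp : s * (w * ⁅c, v⁆) * s⁻¹ ∈ R :=
            h.act _ (mul_mem hwP.1 (h.zle (h.ctx.mem_zpowers_z_iff.2 e)))
          have e3 : s * (s * (w * ⁅c, v⁆) * s⁻¹) * s⁻¹ = s * (s * w * s⁻¹) * s⁻¹ * ⁅c, v⁆ := by
            rcases e with e' | e' <;> rw [e']
            · group
            · conv_rhs => arg 2; rw [← h.s_z]
              conv_rhs => arg 2; arg 1; arg 2; rw [← h.s_z]
              group
          set p := s * (w * ⁅c, v⁆) * s⁻¹ with hpdef
          set P2 := s * (s * w * s⁻¹) * s⁻¹ with hP2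
          have hq : ∃ q, (q = 1 ∨ q = z) ∧ P2 = q * p := by
            rcases E1 with E1 | E1 <;> rcases E2 with E2 | E2 <;> rw [E1, E2]
            · exact ⟨1, Or.inl rfl, (one_mul _).symm⟩
            · exact ⟨z, Or.inr rfl, by rw [← mul_assoc, h.ctx.z_sq, one_mul]⟩
            · exact ⟨z, Or.inr rfl, rfl⟩
            · exact ⟨1, Or.inl rfl, (one_mul _).symm⟩
          obtain ⟨q, hq, hq'⟩ := hq
          refine key p hp E2 (q * ⁅c, v⁆) (h.z_mul hq e) ?_
          rw [e3, hq', mul_assoc q p, mul_assoc q _ p, ← (h.z_comm e hp).eq]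
      rcases hcu with e' | e'
      all_goals
        have e1 : ⁅c, r * u⁆ = ⁅c, r⁆ * (r * ⁅c, u⁆ * r⁻¹) := by
          simp only [commutatorElement_def]; group
        rw [← (h.z_comm (g := ⁅c, u⁆) (by rw [e']; simp) hr).eq, mul_inv_cancel_right, e'] at e1
        have e2 := hcD _ hru
        rw [e1] at e2
      · simpa using e2
      · rcases e2 with e2 | e2
        · exact Or.inr (by rw [eq_inv_of_mul_eq_one_left e2, h.ctx.z_inv])
        · exact Or.inl (mul_eq_right.1 e2)
    intro c hc
    by_contra hcon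
    -- the elements of `C` in the second centre form an invariant subgroup of index two
    set N : Subgroup G := C ⊓ h.zTwo with hN
    have hsplit : ∀ x ∈ C, x ∈ N ∨ x⁻¹ * c ∈ N := by
      intro x hx
      by_cases hxN : x ∈ N
      · exact Or.inl hxN
      refine Or.inr ⟨C.mul_mem (C.inv_mem hx) hc, inP _ (C.mul_mem (C.inv_mem hx) hc) ?_⟩
      have hxv : ¬ (⁅x, v⁆ = 1 ∨ ⁅x, v⁆ = z) := fun e => hxN ⟨hx, inP x hx e⟩
      have hax := (hE x hx.1 v hv).resolve_left hxv
      have hac := (hE c hc.1 v hv).resolve_left hcon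
      have e1 : ⁅x⁻¹ * c, v⁆ = x⁻¹ * (⁅c, v⁆ * ⁅x, v⁆⁻¹) * x := by
        simp only [commutatorElement_def]; group
      have hq : ⁅c, v⁆ * ⁅x, v⁆⁻¹ = 1 ∨ ⁅c, v⁆ * ⁅x, v⁆⁻¹ = z := by
        rcases hax with e2 | e2 <;> rcases hac with e3 | e3 <;> rw [e2, e3]
        · exact Or.inl (mul_inv_cancel a)
        · exact Or.inr (mul_inv_cancel_right z a)
        · refine Or.inr ?_
          rw [mul_inv_rev, ← mul_assoc, mul_inv_cancel, one_mul, h.ctx.z_inv]
        · exact Or.inl (mul_inv_cancel _)
      rw [e1, ← (h.z_comm hq (inv_mem (hDR hx.1))).eq, inv_mul_cancel_right]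
      exact hq
    have hfix : c⁻¹ * (s * c * s⁻¹) ∈ N := by
      rcases hsplit _ (hCs c hc) with h1 | h1
      · -- then `c` itself would be in the second centre
        exfalso
        refine hcon ?_
        have h2 := h.act_zTwo (h.act_zTwo h1.2)
        rw [h.s_cubed] at h2
        exact h2.2 v (hDR hv)
      · have := inv_mem h1
        simpa using this
    obtain ⟨n, hn, hcn⟩ := exists_fixed h.ctx.s_cube
      (show ¬ 3 ∣ Nat.card N from fun h3 => h.three
        (h3.trans (Subgroup.card_dvd_of_le (inf_le_right.trans h.zTwo_le))))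
      (fun n hn => ⟨hCs n hn.1, h.act_zTwo hn.2⟩) hfix
    have hm : c * n ∈ h.zTwo := by
      rcases h.fixed (mul_mem (hDR hc.1) hn.2.1) hcn with e | e <;> rw [e]
      · exact one_mem _
      · exact h.z_mem_zTwo
    exact hcon (((Subgroup.mul_mem_cancel_right _ hn.2).1 hm).2 v (hDR hv))
  -- so `D` is abelian
  have hDab : ∀ x ∈ D, ∀ y ∈ D, Commute x y := by
    have hDz : ∀ x ∈ D, ∀ y ∈ D, ⁅x, y⁆ = 1 ∨ ⁅x, y⁆ = z := by
      have hvz : ∀ x ∈ D, ⁅x, v⁆ = 1 ∨ ⁅x, v⁆ = z := by
        intro x hx
        rcases splitD x hx with hxC | hxC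
        · exact hCv x hxC
        · have := hCv _ hxC
          rwa [show ⁅x * v, v⁆ = ⁅x, v⁆ by simp only [commutatorElement_def]; group] at this
      have hCD : ∀ c ∈ C, ∀ x ∈ D, ⁅c, x⁆ = 1 ∨ ⁅c, x⁆ = z := by
        intro c hc x hx
        rcases splitD x hx with hxC | hxC
        · exact hCC c hc x hxC
        · have e1 : ⁅c, x * v⁆ = ⁅c, x⁆ * (x * ⁅c, v⁆ * x⁻¹) := by
            simp only [commutatorElement_def]; group
          rw [← (h.z_comm (hCv c hc) (hDR hx)).eq, mul_inv_cancel_right] at e1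
          have e2 : ⁅c, x⁆ = ⁅c, x * v⁆ * ⁅c, v⁆ := by
            rw [e1, mul_assoc, h.sq_z (hCv c hc), mul_one]
          rw [e2]
          exact h.z_mul (hCC c hc _ hxC) (hCv c hc)
      intro x hx y hy
      rcases splitD x hx with hxC | hxC
      · exact hCD x hxC y hy
      · have e1 : ⁅x * v, y⁆ = x * ⁅v, y⁆ * x⁻¹ * ⁅x, y⁆ := by
          simp only [commutatorElement_def]; group
        have h1 : ⁅v, y⁆ = 1 ∨ ⁅v, y⁆ = z := by
          rw [← commutatorElement_inv y v]
          rcases hvz y hy with e | e <;> rw [e]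
          · exact Or.inl inv_one
          · exact Or.inr h.ctx.z_inv
        rw [← (h.z_comm h1 (hDR hx)).eq, mul_inv_cancel_right] at e1
        have e2 : ⁅x, y⁆ = ⁅v, y⁆ * ⁅x * v, y⁆ := by
          rw [e1, ← mul_assoc, h.sq_z h1, one_mul]
        rw [e2]
        exact h.z_mul h1 (hCD _ hxC y hy)
    intro x hx y hy
    rw [← commutatorElement_eq_one_iff_commute]
    rcases hDz x hx y hy with e | e
    · exact e
    exfalso
    rcases hDz _ ((hgD x).2 hx) _ ((hgD y).2 hy) with e' | e' <;> rw [← hgc, e] at e'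
    · exact h.ctx.z_ne (conj_eq_one_iff.1 e')
    · exact hgz' e'
  -- `C` is central
  have hCz : C ≤ Subgroup.zpowers z := by
    intro c hc
    refine h.ctx.mem_zpowers_z_iff.2 (hZ c (hDR hc.1) fun r hr => ?_)
    have h1 : ∀ x ∈ D, Commute c x := fun x hx => hDab c hc.1 x hx
    obtain ⟨u, hu, huD, hcu⟩ : ∃ u ∈ R, u ∉ D ∧ Commute c u := by
      refine ⟨s * v * s⁻¹, h.act v (hDR hv), fun hm => ?_, ?_⟩
      · have h1 := ((hD _).1 hm).2
        have h2 : Commute (s * v * s⁻¹) b := by
          simpa [hb] using ((hD v).1 hv).2.map (MulAut.conj s).toMonoidHom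
        have hn : a * b * (s * b * s⁻¹) = 1 ∨ a * b * (s * b * s⁻¹) = z := h.norm ha.1
        have h3 : Commute (s * v * s⁻¹) (s * b * s⁻¹) := by
          have := (h2.inv_right.mul_right h1.inv_right).mul_right
            (h.z_comm hn (h.act v (hDR hv))).symm
          rwa [show b⁻¹ * a⁻¹ * (a * b * (s * b * s⁻¹)) = s * b * s⁻¹ by group] at this
        have h4 := h3.map (MulAut.conj s⁻¹).toMonoidHom
        simp [mul_assoc] at h4
        have h5 : ⁅b, v⁆ = 1 := commutatorElement_eq_one_iff_commute.2 h4.symm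
        rw [hbv] at h5
        exact h.ctx.z_ne h5
      · have hc2 := hCs _ (hCs c hc)
        have := (hDab _ hc2.1 v hv).map (MulAut.conj s).toMonoidHom
        simpa [h.s_cubed] using this
    rcases split r hr with hrD | hrD
    · exact h1 r hrD
    · have hru : r * u ∈ D := by
        have h2 : ⁅a, r⁆ = z := by
          refine (ha.2 r hr).resolve_left fun e' => ?_
          have hrD' : r ∈ D := (hD r).2 ⟨hr, (commutatorElement_eq_one_iff_commute.1 e').symm⟩
          have h2 := mul_mem (inv_mem hrD') hrD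
          rw [inv_mul_cancel_left] at h2
          exact h.ctx.z_ne (har0 ▸ commutatorElement_eq_one_iff_commute.2 ((hD r0).1 h2).2.symm)
        have h3 : ⁅a, u⁆ = z := (ha.2 u hu).resolve_left fun e' =>
          huD ((hD u).2 ⟨hu, (commutatorElement_eq_one_iff_commute.1 e').symm⟩)
        exact (hD _).2 ⟨mul_mem hr hu, (h.mul_centralises ha hr hu h2 h3).symm⟩
      have := (h1 _ hru).mul_right hcu.inv_right
      rwa [mul_inv_cancel_right] at this
  -- counting
  have hsub : (R : Set G) ⊆ ((Subgroup.zpowers z : Subgroup G) : Set G) ∪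
      (· * v⁻¹) '' ((Subgroup.zpowers z : Subgroup G) : Set G) ∪
      ((· * r0⁻¹) '' ((Subgroup.zpowers z : Subgroup G) : Set G) ∪
        (fun x => x * v⁻¹ * r0⁻¹) '' ((Subgroup.zpowers z : Subgroup G) : Set G)) := by
    intro r hr
    rcases split r hr with hrD | hrD
    · rcases splitD r hrD with hC' | hC'
      · exact Or.inl (Or.inl (hCz hC'))
      · exact Or.inl (Or.inr ⟨_, hCz hC', mul_inv_cancel_right r v⟩)
    · rcases splitD _ hrD with hC' | hC'
      · exact Or.inr (Or.inl ⟨_, hCz hC', mul_inv_cancel_right r r0⟩)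
      · refine Or.inr (Or.inr ⟨_, hCz hC', ?_⟩)
        show r * r0 * v * v⁻¹ * r0⁻¹ = r
        rw [mul_inv_cancel_right, mul_inv_cancel_right]
  have h1 := (Set.ncard_le_ncard hsub (Set.toFinite _)).trans ((Set.ncard_union_le _ _).trans
    (add_le_add (Set.ncard_union_le _ _) (Set.ncard_union_le _ _)))
  have h2 : ((Subgroup.zpowers z : Subgroup G) : Set G).ncard = 2 := by
    rw [← Nat.card_coe_set_eq]; exact h.ctx.card_zpowers_z
  have h3 : ∀ f : G → G, (f '' ((Subgroup.zpowers z : Subgroup G) : Set G)).ncard ≤ 2 := fun f =>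
    (Set.ncard_image_le (Set.toFinite _)).trans h2.le
  rw [← Nat.card_coe_set_eq] at h1
  have := h3 (· * v⁻¹)
  have := h3 (· * r0⁻¹)
  have := h3 (fun x => x * v⁻¹ * r0⁻¹)
  simp only [SetLike.coe_sort_coe] at h1
  omega

end TwoR

end CfsgLib.SelfCentralSix57
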