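import Mathlib

/-!
# Small facts on groups with a central involution
-/

set_option autoImplicit false
set_option linter.style.haveILetI false
set_option linter.unusedSectionVars false

namespace CfsgLib.SelfCentralSix57

open scoped commutatorElement

variable {G : Type*} [Group G] [Finite G]

theorem orderOf_four {x z : G} (hz : orderOf z = 2) (hx : x * x = z) : orderOf x = 4 := by
  haveI : Fact (Nat.Prime 2) := ⟨Nat.prime_two⟩
  refine orderOf_eq_prime_pow (p := 2) (n := 1) ?_ ?_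
  · rw [pow_one, sq, hx]
    intro h
    rw [h, orderOf_one] at hz
    omega
  · rw [show 2 ^ (1 + 1) = 2 * 2 by norm_num, pow_mul, sq x, hx, ← hz, pow_orderOf_eq_one]

theorem zpowers_cases {x z g : G} (hz : orderOf z = 2) (hx : x * x = z)
    (h : g ∈ Subgroup.zpowers x) : g = 1 ∨ g = z ∨ g = x ∨ g = z * x := by
  obtain ⟨k, rfl⟩ := Subgroup.mem_zpowers_iff.1 h
  rw [← zpow_mod_orderOf, orderOf_four hz hx]
  have h1 := Int.emod_nonneg k (b := ((4 : ℕ) : ℤ)) (by norm_num)
  have h2 := Int.emod_lt_of_pos k (b := ((4 : ℕ) : ℤ)) (by norm_num)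
  push_cast at h1 h2 ⊢
  interval_cases h : k % (4 : ℤ)
  · simp
  · simp
  · exact Or.inr (Or.inl (by rw [zpow_two, hx]))
  · refine Or.inr (Or.inr (Or.inr ?_))
    rw [show (3 : ℤ) = 2 + 1 by norm_num, zpow_add, zpow_two, zpow_one, hx]

/-- If squares and commutators lie in `⟨z⟩` and the order is at least sixteen there is an
involution besides `z`. -/
theorem exists_singular {U : Subgroup G} {z : G} (hz : orderOf z = 2)
    (hzc : ∀ x ∈ U, Commute x z) (hsq : ∀ x ∈ U, x * x = 1 ∨ x * x = z)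
    (hcomm : ∀ x ∈ U, ∀ y ∈ U, ⁅x, y⁆ = 1 ∨ ⁅x, y⁆ = z) (hcard : 16 ≤ Nat.card U) :
    ∃ x ∈ U, x * x = 1 ∧ x ≠ 1 ∧ x ≠ z := by
  classical
  by_contra hcon
  push Not at hcon
  have hsq' : ∀ x ∈ U, x ≠ 1 → x ≠ z → x * x = z := fun x hx h1 h2 =>
    (hsq x hx).resolve_left fun h => h2 (hcon x hx h h1)
  have hzz : z * z = 1 := by rw [← sq, ← hz, pow_orderOf_eq_one]
  obtain ⟨x, hx, hx1, hxz⟩ : ∃ x ∈ U, x ≠ 1 ∧ x ≠ z := by
    by_contra h
    push Not at h
    have hsub : (U : Set G) ⊆ {1, z} := fun x hx => by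
      by_cases h1 : x = 1
      · exact Or.inl h1
      · exact Or.inr (h x hx h1)
    have := (Set.ncard_le_ncard hsub (Set.toFinite _)).trans (Set.ncard_insert_le _ _)
    rw [Set.ncard_singleton, ← Nat.card_coe_set_eq] at this
    simp only [SetLike.coe_sort_coe] at this
    omega
  have hxx := hsq' x hx hx1 hxz
  have hsub : ∀ y ∈ U, Commute x y → y ∈ Subgroup.zpowers x := by
    intro y hy hc
    by_cases h1 : y = 1
    · exact h1 ▸ one_mem _
    have hzmem : z ∈ Subgroup.zpowers x := hxx ▸ mul_mem (Subgroup.mem_zpowers x)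
      (Subgroup.mem_zpowers x)
    by_cases h2 : y = z
    · exact h2 ▸ hzmem
    have hy2 := hsq' y hy h1 h2
    have h3 : x * y * (x * y) = 1 := by rw [hc.symm.mul_mul_mul_comm, hxx, hy2, hzz]
    by_cases h4 : x * y = 1
    · rw [eq_inv_of_mul_eq_one_right h4]
      exact inv_mem (Subgroup.mem_zpowers x)
    · have h5 := hcon _ (mul_mem hx hy) h3 h4
      rw [eq_inv_mul_iff_mul_eq.2 h5]
      exact mul_mem (inv_mem (Subgroup.mem_zpowers x)) hzmem
  -- the centraliser of `x` has index at most two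
  set C : Subgroup G := U ⊓ Subgroup.centralizer {x}
  have hC : C ≤ Subgroup.zpowers x := fun y hy =>
    hsub y hy.1 (Subgroup.mem_centralizer_singleton_iff.1 hy.2).symm
  have hC4 : Nat.card C ≤ 4 := by
    refine (Subgroup.card_le_of_le hC).trans ?_
    rw [Nat.card_zpowers, orderOf_four hz hxx]
  let f : U → Prop := fun y => ⁅x, (y : G)⁆ = 1
  have key : ∀ y w : U, ¬ f y → ¬ f w → Commute x ((y : G)⁻¹ * w) := by
    intro y w hy hw
    have e1 := (hcomm x hx y y.2).resolve_left hy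
    have e2 := (hcomm x hx w w.2).resolve_left hw
    have e1' : x * (y : G) * x⁻¹ = z * y := by
      rw [← e1, commutatorElement_def]; group
    have e2' : x * (w : G) * x⁻¹ = z * w := by
      rw [← e2, commutatorElement_def]; group
    refine mul_inv_eq_iff_eq_mul.1 ?_
    calc x * ((y : G)⁻¹ * w) * x⁻¹ = (x * y * x⁻¹)⁻¹ * (x * w * x⁻¹) := by group
      _ = (y : G)⁻¹ * w := by rw [e1', e2', mul_inv_rev, mul_assoc, inv_mul_cancel_left]
  obtain ⟨w0, hw0⟩ : ∃ w0 : G, ∀ y ∈ U, y ∈ C ∨ w0⁻¹ * y ∈ C := by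
    by_cases hall : ∀ y : U, f y
    · exact ⟨1, fun y hy => Or.inl ⟨hy, Subgroup.mem_centralizer_singleton_iff.2
        (commutatorElement_eq_one_iff_mul_comm.1 (hall ⟨y, hy⟩)).symm⟩⟩
    push Not at hall
    obtain ⟨w, hw⟩ := hall
    refine ⟨w, fun y hy => ?_⟩
    by_cases hfy : f ⟨y, hy⟩
    · exact Or.inl ⟨hy, Subgroup.mem_centralizer_singleton_iff.2
        (commutatorElement_eq_one_iff_mul_comm.1 hfy).symm⟩
    · exact Or.inr ⟨U.mul_mem (U.inv_mem w.2) hy,
        Subgroup.mem_centralizer_singleton_iff.2 (key w ⟨y, hy⟩ hw hfy).eq.symm⟩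
  have hU : (U : Set G) ⊆ (C : Set G) ∪ (w0 * ·) '' (C : Set G) := fun y hy => by
    rcases hw0 y hy with h | h
    · exact Or.inl h
    · exact Or.inr ⟨_, h, mul_inv_cancel_left w0 y⟩
  have h1 := (Set.ncard_le_ncard hU (Set.toFinite _)).trans (Set.ncard_union_le _ _)
  have h2 : ((w0 * ·) '' (C : Set G)).ncard ≤ (C : Set G).ncard := Set.ncard_image_le (Set.toFinite _)
  rw [← Nat.card_coe_set_eq] at h1
  have h3 : (C : Set G).ncard ≤ 4 := by
    rw [← Nat.card_coe_set_eq]; exact hC4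
  simp only [SetLike.coe_sort_coe] at h1
  omega

/-- Elements outside a subgroup of index two. -/
theorem mul_mem_of_index_two {T A : Subgroup G} (hAT : A ≤ T) (h2 : Nat.card T = 2 * Nat.card A)
    {p q : G} (hp : p ∈ T) (hq : q ∈ T) (hp' : p ∉ A) (hq' : q ∉ A) : p * q ∈ A := by
  have hi : (A.subgroupOf T).index = 2 := by
    have h := (A.subgroupOf T).card_mul_index
    rw [Nat.card_congr (Subgroup.subgroupOfEquivOfLe hAT).toEquiv, h2, mul_comm 2] at h
    exact mul_left_cancel₀ Nat.card_pos.ne' h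
  have := (Subgroup.mul_mem_iff_of_index_two hi (a := ⟨p, hp⟩) (b := ⟨q, hq⟩)).2
    ⟨fun h => absurd h hp', fun h => absurd h hq'⟩
  exact this

theorem conj_mem_of_index_two {T A : Subgroup G} (hAT : A ≤ T)
    (h2 : Nat.card T = 2 * Nat.card A) {p q : G} (hp : p ∈ T) (hq : q ∈ A) :
    p * q * p⁻¹ ∈ A := by
  by_cases hp' : p ∈ A
  · exact mul_mem (mul_mem hp' hq) (inv_mem hp')
  refine mul_mem_of_index_two hAT h2 (mul_mem hp (hAT hq)) (inv_mem hp) ?_ (by simpa using hp')
  intro h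
  exact hp' ((Subgroup.mul_mem_cancel_right A hq).1 h)

/-- A group with two abelian subgroups of index two has at most two commutators. -/
theorem commutator_cases {T A B : Subgroup G} (hAT : A ≤ T) (hBT : B ≤ T)
    (hA2 : Nat.card T = 2 * Nat.card A) (hB2 : Nat.card T = 2 * Nat.card B) (hne : A ≠ B)
    (hA : ∀ p ∈ A, ∀ q ∈ A, Commute p q) (hB : ∀ p ∈ B, ∀ q ∈ B, Commute p q) :
    ∃ k : G, ∀ p ∈ T, ∀ q ∈ T, ⁅p, q⁆ = 1 ∨ ⁅p, q⁆ = k := by
  obtain ⟨b, hb, hbA⟩ : ∃ b ∈ B, b ∉ A := Set.not_subset.1 fun h => hne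
    (Subgroup.eq_of_le_of_card_ge h (by omega)).symm
  obtain ⟨a, ha, haB⟩ : ∃ a ∈ A, a ∉ B := Set.not_subset.1 fun h => hne
    (Subgroup.eq_of_le_of_card_ge h (by omega))
  refine ⟨⁅a, b⁆, ?_⟩
  -- `A ∩ B` is central
  have cen : ∀ d ∈ A, d ∈ B → ∀ p ∈ T, Commute d p := by
    intro d hdA hdB p hp
    by_cases hpA : p ∈ A
    · exact hA d hdA p hpA
    · have h1 := mul_mem_of_index_two hAT hA2 hp (hBT hb) hpA hbA
      have h2 : Commute d (p * b) := hA d hdA _ h1
      have h3 := h2.mul_right (hB d hdB _ hb).inv_right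
      rwa [mul_inv_cancel_right] at h3
  -- every element is `a^i b^j` times a central one
  have dec : ∀ p ∈ T, ∃ i j : Bool, ∃ d ∈ A, d ∈ B ∧
      p = (if i then a else 1) * (if j then b else 1) * d := by
    intro p hp
    obtain ⟨j, hj⟩ : ∃ j : Bool, p * (if j then b else 1) ∈ A := by
      by_cases hpA : p ∈ A
      · exact ⟨false, by simpa using hpA⟩
      · exact ⟨true, by simpa using mul_mem_of_index_two hAT hA2 hp (hBT hb) hpA hbA⟩
    set q := p * (if j then b else 1) with hq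
    have hb2 : b * b ∈ A := mul_mem_of_index_two hAT hA2 (hBT hb) (hBT hb) hbA hbA
    obtain ⟨i, hi⟩ : ∃ i : Bool, (if i then a else 1)⁻¹ * q ∈ B := by
      by_cases hqB : q ∈ B
      · exact ⟨false, by simpa using hqB⟩
      · refine ⟨true, ?_⟩
        have := mul_mem_of_index_two hBT hB2 (inv_mem (hAT ha)) (hAT hj) (by simpa using haB) hqB
        simpa using this
    set d0 := (if i then a else 1)⁻¹ * q with hd0
    have hd0A : d0 ∈ A := mul_mem (inv_mem (by cases i <;> simp [ha])) hj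
    have hjT : (if j then b else 1 : G) ∈ T := by cases j <;> simp [hBT hb]
    cases j with
    | false =>
      refine ⟨i, false, d0, hd0A, hi, ?_⟩
      simp [hd0, hq]
    | true =>
      refine ⟨i, true, (b * b)⁻¹ * d0, mul_mem (inv_mem hb2) hd0A,
        mul_mem (inv_mem (mul_mem hb hb)) hi, ?_⟩
      have hc : Commute d0 b := cen d0 hd0A hi b (hBT hb)
      have hp' : p = (if i then a else 1) * d0 * b⁻¹ := by simp [hd0, hq]
      rw [hp']
      simp only [if_true]
      rw [mul_assoc _ d0, hc.inv_right.eq]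
      group
  have hinv : ⁅b, a⁆ = ⁅a, b⁆ := by
    have haa : a * a ∈ B := mul_mem_of_index_two hBT hB2 (hAT ha) (hAT ha) haB haB
    have hbb : b * b ∈ A := mul_mem_of_index_two hAT hA2 (hBT hb) (hBT hb) hbA hbA
    have hk : ⁅a, b⁆ ∈ A ∧ ⁅a, b⁆ ∈ B := by
      refine ⟨?_, ?_⟩
      · rw [commutatorElement_def, show a * b * a⁻¹ * b⁻¹ = a * (b * a⁻¹ * b⁻¹) by group]
        exact mul_mem ha (conj_mem_of_index_two hAT hA2 (hBT hb) (inv_mem ha))
      · rw [commutatorElement_def]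
        exact mul_mem (conj_mem_of_index_two hBT hB2 (hAT ha) hb) (inv_mem hb)
    have hc := cen _ hk.1 hk.2 a (hAT ha)
    have h1 : Commute (a * a) b := cen _ (mul_mem ha ha) haa b (hBT hb)
    have h2 : ⁅a, b⁆ * ⁅a, b⁆ = 1 := by
      calc ⁅a, b⁆ * ⁅a, b⁆ = a * ⁅a, b⁆ * a⁻¹ * ⁅a, b⁆ := by
            rw [← hc.eq, mul_inv_cancel_right]
        _ = (a * a) * b * (a * a)⁻¹ * b⁻¹ := by simp only [commutatorElement_def]; group
        _ = 1 := by rw [h1.eq]; group
    rw [← commutatorElement_inv a b]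
    exact inv_eq_of_mul_eq_one_right h2
  intro p hp q hq
  obtain ⟨i, j, d, hdA, hdB, rfl⟩ := dec p hp
  obtain ⟨i', j', d', hdA', hdB', rfl⟩ := dec q hq
  have step : ∀ x y : G, x ∈ T → y ∈ T → ⁅x * d, y * d'⁆ = ⁅x, y⁆ := by
    intro x y hx hy
    have h1 := cen d hdA hdB
    have h2 := cen d' hdA' hdB'
    have e1 : Commute (x * d) d' := ((h2 x hx).symm.mul_left (h2 d (hAT hdA)).symm)
    calc ⁅x * d, y * d'⁆ = ⁅x * d, y⁆ * (y * ⁅x * d, d'⁆ * y⁻¹) := by
          simp only [commutatorElement_def]; group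
      _ = ⁅x * d, y⁆ := by rw [commutatorElement_eq_one_iff_mul_comm.2 e1.eq]; group
      _ = x * ⁅d, y⁆ * x⁻¹ * ⁅x, y⁆ := by simp only [commutatorElement_def]; group
      _ = ⁅x, y⁆ := by rw [commutatorElement_eq_one_iff_mul_comm.2 (h1 y hy).eq]; group
  have hT : ∀ i j : Bool, (if i then a else 1) * (if j then b else 1) ∈ T := by
    intro i j; cases i <;> cases j <;> simp [hAT ha, hBT hb, mul_mem]
  rw [step _ _ (hT i j) (hT i' j')]
  have conj_k : ∀ g : G, g ∈ T → g * ⁅a, b⁆ * g⁻¹ = ⁅a, b⁆ := by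
    intro g hg
    have hk : ⁅a, b⁆ ∈ A ∧ ⁅a, b⁆ ∈ B := by
      refine ⟨?_, ?_⟩
      · rw [commutatorElement_def, show a * b * a⁻¹ * b⁻¹ = a * (b * a⁻¹ * b⁻¹) by group]
        exact mul_mem ha (conj_mem_of_index_two hAT hA2 (hBT hb) (inv_mem ha))
      · rw [commutatorElement_def]
        exact mul_mem (conj_mem_of_index_two hBT hB2 (hAT ha) hb) (inv_mem hb)
    rw [← (cen _ hk.1 hk.2 g hg).eq, mul_inv_cancel_right]
  have k1 := conj_k a (hAT ha)
  have k2 := conj_k b (hBT hb)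
  have kk : ⁅a, b⁆ * ⁅a, b⁆ = 1 := by
    conv_lhs => arg 1; rw [← hinv]
    simp only [commutatorElement_def]; group
  have z1 : ∀ x y : G, ⁅x, y * x⁆ = ⁅x, y⁆ := fun x y => by simp only [commutatorElement_def]; group
  cases i <;> cases j <;> cases i' <;> cases j' <;>
    simp only [Bool.false_eq_true, if_true, if_false, one_mul, mul_one,
      commutatorElement_one_left, commutatorElement_one_right, commutatorElement_self,
      true_or, or_true, hinv]
  · right
    calc ⁅b, a * b⁆ = ⁅b, a⁆ * (a * ⁅b, b⁆ * a⁻¹) := by simp only [commutatorElement_def]; group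
      _ = ⁅a, b⁆ := by rw [commutatorElement_self, hinv]; group
  · right
    calc ⁅a, a * b⁆ = a * ⁅a, b⁆ * a⁻¹ := by simp only [commutatorElement_def]; group
      _ = ⁅a, b⁆ := k1
  · right
    simp only [commutatorElement_def]; group
  · right
    calc ⁅a * b, a⁆ = a * ⁅b, a⁆ * a⁻¹ := by simp only [commutatorElement_def]; group
      _ = ⁅a, b⁆ := by rw [hinv, k1]

end CfsgLib.SelfCentralSix57
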