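import Cfsg.Agent.SelfCentralSix57.Ctx
import Cfsg.Agent.SelfCentralSix57.TwoGroup

/-!
# A 2-group centralised by `z` and normalised by `s`
-/

set_option autoImplicit false
set_option linter.style.haveILetI false
set_option linter.unusedSectionVars false

namespace CfsgLib.SelfCentralSix57

open scoped commutatorElement

universe u

variable {G : Type u} [Group G] [Finite G]

/-- A nontrivial normal subgroup of a 2-group contains a central involution. -/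
theorem exists_central_involution {S N : Subgroup G} (hS : IsPGroup 2 S) (hNS : N ≤ S)
    (hN : ∀ x ∈ S, ∀ n ∈ N, x * n * x⁻¹ ∈ N) (hne : N ≠ ⊥) :
    ∃ w ∈ N, orderOf w = 2 ∧ ∀ x ∈ S, Commute w x := by
  haveI : Fact (Nat.Prime 2) := ⟨Nat.prime_two⟩
  letI : MulAction S N :=
    { smul := fun x n => ⟨x * n * (x : G)⁻¹, hN x x.2 n n.2⟩
      one_smul := fun n => Subtype.ext (show (1 : S) * (n : G) * ((1 : S) : G)⁻¹ = n by simp)
      mul_smul := fun x y n => Subtype.ext (by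
        show ((x * y : S) : G) * n * ((x * y : S) : G)⁻¹ = x * (y * n * (y : G)⁻¹) * (x : G)⁻¹
        rw [Subgroup.coe_mul]; group) }
  obtain ⟨k, hk⟩ := IsPGroup.iff_card.1 (hS.to_le hNS)
  have hk0 : k ≠ 0 := fun h => hne (Subgroup.card_eq_one.1 (by rw [hk, h, pow_zero]))
  obtain ⟨w, hw, hne1⟩ := hS.exists_fixed_point_of_prime_dvd_card_of_fixed_point N
    (hk ▸ dvd_pow_self 2 hk0) (a := (1 : N))
    (fun x => Subtype.ext (show (x : G) * 1 * (x : G)⁻¹ = 1 by simp))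
  have hcw : ∀ x ∈ S, Commute (w : G) x := fun x hx =>
    (mul_inv_eq_iff_eq_mul.1 (congrArg Subtype.val (hw ⟨x, hx⟩))).symm
  have hw1 : (w : G) ≠ 1 := fun h => hne1 (Subtype.ext h).symm
  obtain ⟨j, hj⟩ := (hS.to_le hNS) w
  have hord : orderOf (w : G) ∣ 2 ^ j := orderOf_dvd_of_pow_eq_one (congrArg Subtype.val hj)
  obtain ⟨i, -, hi⟩ := (Nat.dvd_prime_pow Nat.prime_two).1 hord
  have hi0 : i ≠ 0 := fun h => hw1 (orderOf_eq_one_iff.1 (by rw [hi, h, pow_zero]))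
  refine ⟨(w : G) ^ 2 ^ (i - 1), pow_mem w.2 _, ?_, fun x hx => (hcw x hx).pow_left _⟩
  rw [orderOf_pow_of_dvd (by positivity) (hi ▸ Nat.pow_dvd_pow 2 (by omega)), hi,
    Nat.pow_div (by omega) (by norm_num), show i - (i - 1) = 1 by omega, pow_one]

/-- The setting. -/
structure TwoR (z s : G) (R : Subgroup G) : Prop where
  ctx : Ctx z s
  two : IsPGroup 2 R
  mem : z ∈ R
  central : ∀ r ∈ R, Commute r z
  act : ∀ r ∈ R, s * r * s⁻¹ ∈ R

namespace TwoR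

variable {z s : G} {R : Subgroup G} (h : TwoR z s R)
include h

theorem three : ¬ 3 ∣ Nat.card R := fun h3 => by
  obtain ⟨k, hk⟩ := IsPGroup.iff_card.1 h.two
  rw [hk] at h3
  have := Nat.prime_three.dvd_of_dvd_pow h3
  omega

theorem zle : Subgroup.zpowers z ≤ R := Subgroup.zpowers_le.2 h.mem

theorem three_z : ¬ 3 ∣ Nat.card (Subgroup.zpowers z) := by
  rw [h.ctx.card_zpowers_z]; norm_num

theorem fixed {r : G} (hr : r ∈ R) (hs : Commute r s) : r = 1 ∨ r = z :=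
  h.ctx.mem_zpowers_z_iff.1 (h.ctx.mem_zpowers_of_fixed h.three h.central hr hs)

theorem fpf : FpfSection s R (Subgroup.zpowers z) where
  le := h.zle
  normal := fun y hy n hn => by
    rcases h.ctx.mem_zpowers_z_iff.1 hn with rfl | rfl
    · simp
    · rw [(h.central y hy).eq, mul_inv_cancel_right]; exact Subgroup.mem_zpowers _
  cube := h.ctx.s_cube
  three := h.three_z
  actY := h.act
  actN := fun n hn => by
    rcases h.ctx.mem_zpowers_z_iff.1 hn with rfl | rfl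
    · simp
    · rw [← h.ctx.comm.eq, mul_inv_cancel_right]; exact Subgroup.mem_zpowers _
  fixed := fun y hy hs => h.ctx.mem_zpowers_of_fixed h.three h.central hy hs

theorem s_z : s * z * s⁻¹ = z := by rw [← h.ctx.comm.eq, mul_inv_cancel_right]

theorem s_cubed (x : G) : s * (s * (s * x * s⁻¹) * s⁻¹) * s⁻¹ = x := by
  calc s * (s * (s * x * s⁻¹) * s⁻¹) * s⁻¹ = s ^ 3 * x * (s ^ 3)⁻¹ := by
        simp only [pow_succ, pow_zero, one_mul]; group
    _ = x := by rw [h.ctx.s_cube, one_mul, inv_one, mul_one]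

/-- The norm lies in `⟨z⟩`. -/
theorem norm {a : G} (ha : a ∈ R) :
    a * (s * a * s⁻¹) * (s * (s * a * s⁻¹) * s⁻¹) = 1 ∨
      a * (s * a * s⁻¹) * (s * (s * a * s⁻¹) * s⁻¹) = z :=
  h.ctx.mem_zpowers_z_iff.1 (h.fpf.norm_mem ha)

theorem class_two {a b c : G} (ha : a ∈ R) (hb : b ∈ R) (hc : c ∈ R) :
    ⁅⁅a, b⁆, c⁆ = 1 ∨ ⁅⁅a, b⁆, c⁆ = z :=
  h.ctx.mem_zpowers_z_iff.1 (h.fpf.class_two ha hb hc)

theorem mem_of_fixed_coset {r : G} (hr : r ∈ R) (hs : s * r * s⁻¹ = r ∨ s * r * s⁻¹ = r * z) :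
    r = 1 ∨ r = z := by
  refine h.ctx.mem_zpowers_z_iff.1 (h.fpf.mem_of_fixed_mod hr ?_)
  rcases hs with e | e <;> rw [e]
  · simp
  · rw [inv_mul_cancel_left]; exact Subgroup.mem_zpowers _

theorem z_comm {g : G} (hg : g = 1 ∨ g = z) {r : G} (hr : r ∈ R) : Commute g r := by
  rcases hg with rfl | rfl
  · exact Commute.one_left r
  · exact (h.central r hr).symm

theorem sq_z {g : G} (hg : g = 1 ∨ g = z) : g * g = 1 := by
  rcases hg with rfl | rfl
  · exact one_mul 1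
  · exact h.ctx.z_sq

theorem z_mul {g k : G} (hg : g = 1 ∨ g = z) (hk : k = 1 ∨ k = z) : g * k = 1 ∨ g * k = z := by
  rcases hg with rfl | rfl <;> rcases hk with rfl | rfl <;> simp [h.ctx.z_sq]

theorem z_cases {g k : G} (hg : g = 1 ∨ g = z) (hk : k = 1 ∨ k = z) (hgk : g ≠ 1) (hkk : k ≠ 1) :
    g = k := by
  rw [hg.resolve_left hgk, hk.resolve_left hkk]

/-- If `z` is the only central involution then the centre is `⟨z⟩`. -/
theorem center_eq (hZ : ∀ w ∈ R, orderOf w = 2 → (∀ r ∈ R, Commute w r) → w = z) {w : G}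
    (hw : w ∈ R) (hc : ∀ r ∈ R, Commute w r) : w = 1 ∨ w = z := by
  have step : ∀ v ∈ R, (∀ r ∈ R, Commute v r) → (v * v = 1 ∨ v * v = z) → v = 1 ∨ v = z := by
    intro v hv hvc hv2
    rcases hv2 with e | e
    · by_cases h1 : v = 1
      · exact Or.inl h1
      · exact Or.inr (hZ v hv (orderOf_eq_prime (by rw [sq, e]) h1) hvc)
    have hs1 : s * v * s⁻¹ ∈ R := h.act v hv
    have hsc : ∀ r ∈ R, Commute (s * v * s⁻¹) r := by
      intro r hr
      have := (hvc _ (h.act _ (h.act r hr))).map (MulAut.conj s).toMonoidHom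
      simpa [h.s_cubed] using this
    set p := v⁻¹ * (s * v * s⁻¹) with hp
    have hp2 : p * p = 1 := by
      rw [hp, (hvc _ hs1).inv_left.symm.mul_mul_mul_comm, ← mul_inv_rev, e,
        show s * v * s⁻¹ * (s * v * s⁻¹) = s * (v * v) * s⁻¹ by group, e, h.s_z, h.ctx.z_inv,
        h.ctx.z_sq]
    refine h.mem_of_fixed_coset hv ?_
    by_cases h1 : p = 1
    · exact Or.inl (inv_mul_eq_one.1 h1).symm
    · refine Or.inr ?_
      rw [← eq_inv_mul_iff_mul_eq.1 (hZ p (mul_mem (inv_mem hv) hs1)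
        (orderOf_eq_prime (by rw [sq, hp2]) h1)
        fun r hr => (hvc r hr).inv_left.mul_left (hsc r hr)).symm]
  obtain ⟨k, hk⟩ := h.two ⟨w, hw⟩
  have hk' : w ^ 2 ^ k = 1 := congrArg Subtype.val hk
  clear hk
  induction k generalizing w with
  | zero => exact Or.inl (by simpa using hk')
  | succ k ih =>
    refine step w hw hc (ih (w := w * w) (mul_mem hw hw) (fun r hr => (hc r hr).mul_left (hc r hr)) ?_)
    rw [← sq, ← pow_mul, ← pow_succ', hk']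

/-- The second centre. -/
def zTwo : Subgroup G where
  carrier := {p | p ∈ R ∧ ∀ r ∈ R, ⁅p, r⁆ = 1 ∨ ⁅p, r⁆ = z}
  one_mem' := ⟨one_mem R, fun r _ => Or.inl (commutatorElement_one_left r)⟩
  mul_mem' := by
    rintro p q ⟨hp, hp'⟩ ⟨hq, hq'⟩
    refine ⟨mul_mem hp hq, fun r hr => ?_⟩
    have e : ⁅p * q, r⁆ = ⁅q, r⁆ * ⁅p, r⁆ := by
      calc ⁅p * q, r⁆ = p * ⁅q, r⁆ * p⁻¹ * ⁅p, r⁆ := by simp only [commutatorElement_def]; group
        _ = ⁅q, r⁆ * ⁅p, r⁆ := by rw [← (h.z_comm (hq' r hr) hp).eq, mul_inv_cancel_right]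
    rw [e]
    exact h.z_mul (hq' r hr) (hp' r hr)
  inv_mem' := by
    rintro p ⟨hp, hp'⟩
    refine ⟨inv_mem hp, fun r hr => ?_⟩
    have e : ⁅p⁻¹, r⁆ = ⁅p, r⁆⁻¹ := by
      calc ⁅p⁻¹, r⁆ = p⁻¹ * ⁅p, r⁆⁻¹ * p := by simp only [commutatorElement_def]; group
        _ = ⁅p, r⁆⁻¹ := by
          rw [← ((h.z_comm (hp' r hr) hp).inv_left.inv_right).eq, mul_assoc, inv_mul_cancel,
            mul_one]
    rw [e]
    rcases hp' r hr with e | e <;> rw [e]
    · exact Or.inl inv_one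
    · exact Or.inr h.ctx.z_inv

theorem mem_zTwo {p : G} : p ∈ h.zTwo ↔ p ∈ R ∧ ∀ r ∈ R, ⁅p, r⁆ = 1 ∨ ⁅p, r⁆ = z := Iff.rfl

theorem zTwo_le : h.zTwo ≤ R := fun _ hp => hp.1

theorem z_mem_zTwo : z ∈ h.zTwo :=
  ⟨h.mem, fun r hr => Or.inl (commutatorElement_eq_one_iff_mul_comm.2 (h.central r hr).symm.eq)⟩

theorem act_zTwo {p : G} (hp : p ∈ h.zTwo) : s * p * s⁻¹ ∈ h.zTwo := by
  refine ⟨h.act p hp.1, fun r hr => ?_⟩
  have e : ⁅s * p * s⁻¹, r⁆ = s * ⁅p, s * (s * r * s⁻¹) * s⁻¹⁆ * s⁻¹ := by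
    conv_lhs => rw [← h.s_cubed r]
    simp only [commutatorElement_def]; group
  rw [e]
  rcases hp.2 _ (h.act _ (h.act r hr)) with e' | e' <;> rw [e']
  · exact Or.inl (by group)
  · exact Or.inr h.s_z

theorem commutator_mem_zTwo {a b : G} (ha : a ∈ R) (hb : b ∈ R) : ⁅a, b⁆ ∈ h.zTwo :=
  ⟨mul_mem (mul_mem (mul_mem ha hb) (inv_mem ha)) (inv_mem hb),
    fun _ hc => h.class_two ha hb hc⟩

theorem mul_commutator {p r r' : G} (hp : p ∈ h.zTwo) (hr : r ∈ R) (hr' : r' ∈ R) :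
    ⁅p, r * r'⁆ = ⁅p, r⁆ * ⁅p, r'⁆ := by
  calc ⁅p, r * r'⁆ = ⁅p, r⁆ * (r * ⁅p, r'⁆ * r⁻¹) := by simp only [commutatorElement_def]; group
    _ = _ := by rw [← (h.z_comm (hp.2 r' hr') hr).eq, mul_inv_cancel_right]

theorem commutator_mul {p q r : G} (hp : p ∈ h.zTwo) (hq : q ∈ h.zTwo) (hr : r ∈ R) :
    ⁅p * q, r⁆ = ⁅p, r⁆ * ⁅q, r⁆ := by
  calc ⁅p * q, r⁆ = p * ⁅q, r⁆ * p⁻¹ * ⁅p, r⁆ := by simp only [commutatorElement_def]; group
    _ = _ := by
      rw [← (h.z_comm (hq.2 r hr) hp.1).eq, mul_inv_cancel_right]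
      exact (h.z_comm (hq.2 r hr) (mul_mem (mul_mem (mul_mem hp.1 hr) (inv_mem hp.1))
        (inv_mem hr))).eq

theorem zTwo_centralises_commutator {p a b : G} (hp : p ∈ h.zTwo) (ha : a ∈ R) (hb : b ∈ R) :
    Commute p ⁅a, b⁆ := by
  rw [← commutatorElement_eq_one_iff_commute, commutatorElement_def a b,
    h.mul_commutator hp (mul_mem (mul_mem ha hb) (inv_mem ha)) (inv_mem hb),
    h.mul_commutator hp (mul_mem ha hb) (inv_mem ha), h.mul_commutator hp ha hb]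
  have inv : ∀ r ∈ R, ⁅p, r⁻¹⁆ = ⁅p, r⁆⁻¹ := fun r hr => by
    refine eq_inv_of_mul_eq_one_right ?_
    rw [← h.mul_commutator hp hr (inv_mem hr), mul_inv_cancel, commutatorElement_one_right]
  rw [inv a ha, inv b hb]
  have hab : Commute ⁅p, a⁆ ⁅p, b⁆ := h.z_comm (hp.2 a ha)
    (h.zTwo_le (h.commutator_mem_zTwo hp.1 hb))
  rw [hab.eq, mul_assoc ⁅p, b⁆, mul_inv_cancel, mul_one, mul_inv_cancel]

/-- Squares of the second centre, when the centre is `⟨z⟩`. -/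
theorem zTwo_sq (hZ : ∀ w ∈ R, (∀ r ∈ R, Commute w r) → w = 1 ∨ w = z) {p : G}
    (hp : p ∈ h.zTwo) : p * p = 1 ∨ p * p = z := by
  refine hZ _ (mul_mem hp.1 hp.1) fun r hr => ?_
  rw [← commutatorElement_eq_one_iff_commute, h.commutator_mul hp hp hr, h.sq_z (hp.2 r hr)]

/-- The second centre is larger than `⟨z⟩` unless `R` is. -/
theorem zTwo_ne (hR : 2 < Nat.card R) : ∃ p ∈ h.zTwo, p ≠ 1 ∧ p ≠ z := by
  by_contra hcon
  push Not at hcon
  have hcon' : ∀ p ∈ h.zTwo, p = 1 ∨ p = z := fun p hp =>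
    (em (p = 1)).imp_right (hcon p hp)
  have hsub : (R : Set G) ⊆ {1, z} := fun r hr =>
    hcon' r ⟨hr, fun r' hr' => hcon' _ (h.commutator_mem_zTwo hr hr')⟩
  have := (Set.ncard_le_ncard hsub (Set.toFinite _)).trans (Set.ncard_insert_le _ _)
  rw [Set.ncard_singleton, ← Nat.card_coe_set_eq] at this
  simp only [SetLike.coe_sort_coe] at this
  omega

end TwoR

end CfsgLib.SelfCentralSix57
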